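import Cfsg.Agent.H579.RkThree
import Cfsg.Agent.ClassicalGeometry.WittQuad

/-!
# The rank three action of `Ω⁻_8(2)` on its 119 singular points (helper579)

* `leftO8m2` : the last leftover of S4760.
-/

set_option autoImplicit false

namespace Cfsg.Agent.H579.RkThree

open Cfsg Cfsg.Agent.H593.IMFrame Cfsg.Agent.H477.HC Module

section sv

variable {K : Type} [Field K] {V : Type} [AddCommGroup V] [Module K V]

/-- the nonzero singular vectors -/
def SV (F : CForm K V) : Type := {v : V // v ≠ 0 ∧ F.Q v = 0}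

instance (F : CForm K V) [Finite V] : Finite (SV F) := inferInstanceAs (Finite {v : V // v ≠ 0 ∧ F.Q v = 0})

/-- the action of the isometries on the singular vectors -/
instance (F : CForm K V) : MulAction F.iso (SV F) where
  smul g x := ⟨(g : V ≃ₗ[K] V) x.1, (LinearEquiv.map_ne_zero_iff _).2 x.2.1, by rw [F.iso_Q, x.2.2]⟩
  one_smul x := rfl
  mul_smul g h x := rfl

theorem coe_smul (F : CForm K V) (g : F.iso) (x : SV F) : (g • x).1 = (g : V ≃ₗ[K] V) x.1 := rfl

/-- the relation -/
noncomputable def relv (F : CForm K V) (x y : SV F) : Fin 3 := by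
  classical exact if x = y then 0 else if F.B x.1 y.1 = 0 then 1 else 2

theorem relv_eq_zero (F : CForm K V) (x y : SV F) : relv F x y = 0 ↔ x = y := by
  unfold relv
  split_ifs with h h' <;> simp [h]

theorem relv_smul (F : CForm K V) (g : F.iso) (x y : SV F) : relv F (g • x) (g • y) = relv F x y := by
  unfold relv
  rw [smul_left_cancel_iff, coe_smul, coe_smul, F.iso_B]

theorem relv_cases (F : CForm K V) (x y : SV F) : (x = y ∧ relv F x y = 0) ∨
    (x ≠ y ∧ F.B x.1 y.1 = 0 ∧ relv F x y = 1) ∨ (x ≠ y ∧ F.B x.1 y.1 ≠ 0 ∧ relv F x y = 2) := by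
  unfold relv
  split_ifs with h h'
  · exact Or.inl ⟨h, rfl⟩
  · exact Or.inr (Or.inl ⟨h, h', rfl⟩)
  · exact Or.inr (Or.inr ⟨h, h', rfl⟩)

theorem hB0' (F : CForm K V) (x : SV F) : F.B x.1 x.1 = 0 := F.alt _ x.2.2

end sv

section two

/-- the space -/
abbrev V8 (K : Type) : Type := (Fin 3 ⊕ Fin 3) ⊕ Fin 2 → K

/-- the form over `ZMod 2` -/
def Q8 (v : V8 (ZMod 2)) : ZMod 2 := v (.inl (.inl 0)) * v (.inl (.inr 0)) + v (.inl (.inl 1)) * v (.inl (.inr 1)) +
  v (.inl (.inl 2)) * v (.inl (.inr 2)) + (v (.inr 0) ^ 2 + 1 * v (.inr 0) * v (.inr 1) + 1 * v (.inr 1) ^ 2)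

theorem Q8_eq (v : V8 (ZMod 2)) : quadFormMinus 3 (ZMod 2) 1 1 v = Q8 v := by
  unfold quadFormMinus Q8
  rw [Fin.sum_univ_three]

theorem cnt1 : (Finset.univ.filter fun v : V8 (ZMod 2) => v ≠ 0 ∧ Q8 v = 0 ∧ v (.inl (.inr 0)) = 0).card = 55 := by
  decide +kernel

theorem cnt2 : (Finset.univ.filter fun v : V8 (ZMod 2) => v ≠ 0 ∧ Q8 v = 0 ∧ v (.inl (.inr 0)) ≠ 0).card = 64 := by
  decide +kernel

theorem ab_eq (a b : ZMod 2) (h : ∀ z₁ z₂ : ZMod 2, z₁ ^ 2 + a * z₁ * z₂ + b * z₂ ^ 2 = 0 → z₁ = 0 ∧ z₂ = 0) :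
    a = 1 ∧ b = 1 := by
  revert a b
  decide

variable {K : Type} [Field K] [Fintype K] {a b : K}

theorem zero_or_one (hK : Fintype.card K = 2) (c : K) : c = 0 ∨ c = 1 := by
  classical
  by_contra h
  push Not at h
  have h1 : ({0, 1, c} : Finset K).card = 3 := by
    rw [Finset.card_insert_of_notMem, Finset.card_insert_of_notMem, Finset.card_singleton]
    · simpa using h.2.symm
    · simpa using h.1.symm
  have h2 := Finset.card_le_univ ({0, 1, c} : Finset K)
  omega

omit [Fintype K] in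
/-- transport of the form -/
theorem Q_transport (e : ZMod 2 ≃+* K) (hab : ∀ z₁ z₂ : K, z₁ ^ 2 + a * z₁ * z₂ + b * z₂ ^ 2 = 0 → z₁ = 0 ∧ z₂ = 0)
    (v : V8 (ZMod 2)) : quadFormMinus 3 K a b (fun i => e (v i)) = e (Q8 v) := by
  have h := ab_eq (e.symm a) (e.symm b) (by
    intro z₁ z₂ hz
    have h1 := hab (e z₁) (e z₂) (by
      have h2 := congrArg e hz
      simpa only [map_add, map_mul, map_pow, map_zero, RingEquiv.apply_symm_apply] using h2)
    simpa only [EmbeddingLike.map_eq_zero_iff] using h1)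
  have ha : a = 1 := by rw [← e.apply_symm_apply a, h.1, map_one]
  have hb : b = 1 := by rw [← e.apply_symm_apply b, h.2, map_one]
  subst ha hb
  rw [← Q8_eq]
  unfold quadFormMinus
  simp only [map_add, map_mul, map_pow, map_sum, map_one]

/-- the base point -/
def e0 (K : Type) [Field K] : V8 K := Pi.single (.inl (.inl 0)) 1

theorem B_e0 (hab : ∀ z₁ z₂ : K, z₁ ^ 2 + a * z₁ * z₂ + b * z₂ ^ 2 = 0 → z₁ = 0 ∧ z₂ = 0) (v : V8 K) :
    (CForm.minusF K 3 a b hab).B (e0 K) v = v (.inl (.inr 0)) := by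
  simp [e0, CForm.minusB, CForm.hypB, Pi.single_apply]

omit [Fintype K] in
theorem e0_ne : e0 K ≠ 0 := by
  intro h
  have := congrFun h (.inl (.inl 0))
  simp [e0] at this

theorem Q_e0 (hab : ∀ z₁ z₂ : K, z₁ ^ 2 + a * z₁ * z₂ + b * z₂ ^ 2 = 0 → z₁ = 0 ∧ z₂ = 0) :
    (CForm.minusF K 3 a b hab).Q (e0 K) = 0 := by
  simp [e0, quadFormMinus, Pi.single_apply]

/-- counting through `ZMod 2` -/
theorem ncard_transport (e : ZMod 2 ≃+* K)
    (hab : ∀ z₁ z₂ : K, z₁ ^ 2 + a * z₁ * z₂ + b * z₂ ^ 2 = 0 → z₁ = 0 ∧ z₂ = 0) (P : K → Prop) (P' : ZMod 2 → Prop)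
    [DecidablePred P'] (hP : ∀ c, P (e c) ↔ P' c) :
    {y : SV (CForm.minusF K 3 a b hab) | P (y.1 (.inl (.inr 0)))}.ncard =
      (Finset.univ.filter fun v : V8 (ZMod 2) => v ≠ 0 ∧ Q8 v = 0 ∧ P' (v (.inl (.inr 0)))).card := by
  classical
  let ψ : SV (CForm.minusF K 3 a b hab) → V8 (ZMod 2) := fun y i => e.symm (y.1 i)
  have hψ : Function.Injective ψ := by
    intro x y h
    apply Subtype.ext
    funext i
    exact e.symm.injective (congrFun h i)
  rw [← Set.ncard_image_of_injective _ hψ, ← Set.ncard_coe_finset]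
  congr 1
  ext w
  rw [Finset.mem_coe, Finset.mem_filter]
  constructor
  · rintro ⟨y, hy, rfl⟩
    have hy1 : (fun i => e (ψ y i)) = y.1 := by
      funext i
      exact e.apply_symm_apply _
    refine ⟨Finset.mem_univ _, ?_, ?_, ?_⟩
    · intro h
      apply y.2.1
      rw [← hy1, h]
      funext i
      simp
    · have h1 := Q_transport e hab (ψ y)
      rw [hy1] at h1
      have h2 : quadFormMinus 3 K a b y.1 = 0 := y.2.2
      rw [h2] at h1
      exact (map_eq_zero e).1 h1.symm
    · rw [← hP]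
      change P (e (e.symm (y.1 _)))
      rw [e.apply_symm_apply]
      exact hy
  · rintro ⟨-, h1, h2, h3⟩
    refine ⟨⟨fun i => e (w i), ?_, ?_⟩, ?_, ?_⟩
    · intro h
      apply h1
      funext i
      have := congrFun h i
      simpa using this
    · change quadFormMinus 3 K a b (fun i => e (w i)) = 0
      rw [Q_transport e hab, h2, map_zero]
    · exact (hP _).2 h3
    · funext i
      exact e.symm_apply_apply _

/-- **Rank 3** -/
theorem sub_minus (hK : Fintype.card K = 2) (hab : ∀ z₁ z₂ : K, z₁ ^ 2 + a * z₁ * z₂ + b * z₂ ^ 2 = 0 → z₁ = 0 ∧ z₂ = 0) :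
    ∃ (x : SV (CForm.minusF K 3 a b hab)) (y : Fin 3 → SV (CForm.minusF K 3 a b hab)),
      Sub (CForm.minusF K 3 a b hab).iso (SV (CForm.minusF K 3 a b hab)) x y (![1, 54, 64] : Fin 3 → ℕ) := by
  classical
  set F := CForm.minusF K 3 a b hab with hF
  have hK' : Nat.card K = 2 := by rw [Nat.card_eq_fintype_card, hK]
  let e : ZMod 2 ≃+* K := ZMod.ringEquivOfPrime K Nat.prime_two hK
  let x0 : SV F := ⟨e0 K, e0_ne, Q_e0 hab⟩
  have h0 : ∀ y : SV F, F.B x0.1 y.1 = y.1 (.inl (.inr 0)) := fun y => B_e0 hab y.1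
  refine ⟨x0, exists_sub x0 (relv F) _ (relv_eq_zero F) (relv_smul F) ?_ ?_ ?_ ?_⟩
  · -- Witt
    have hB2 : ∀ u v, F.B u v = QuadraticMap.polarBilin (LieClassical.OrthForms.minusForm 3 K a b) u v := by
      intro u v
      rw [QuadraticMap.polarBilin_apply_apply, QuadraticMap.polar, LieClassical.OrthForms.coe_minusForm]
      exact minus_hB K 3 a b hab u v
    have hQ2 : ∀ u, F.Q u = LieClassical.OrthForms.minusForm 3 K a b u := by
      intro u
      rw [LieClassical.OrthForms.coe_minusForm]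
      rfl
    have key : ∀ {k : ℕ} {s t : Fin k → V8 K}, LinearIndependent K s → LinearIndependent K t →
        (∀ i, F.Q (s i) = F.Q (t i)) → (∀ i j, F.B (s i) (s j) = F.B (t i) (t j)) →
        ∃ g : F.iso, ∀ i, (g : V8 K ≃ₗ[K] V8 K) (s i) = t i := by
      intro k s t hs ht hq hst
      obtain ⟨g, hg, hgs⟩ := Cfsg.Agent.ClassicalGeometry.WittQuad.extend_family
        (LieClassical.OrthForms.minusForm 3 K a b) (LieClassical.OmegaReindex.nondegenerate_of_left _
          (fun x hx => LieClassical.OrthForms.nondeg_minusForm 3 K a b hab x hx)) k s t hs ht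
        (fun i => by rw [← hQ2, ← hQ2, hq]) (fun i j => by rw [← hB2, ← hB2, hst])
      refine ⟨⟨g, fun u v => ?_, fun v => ?_⟩, hgs⟩
      · rw [minus_hB K 3 a b hab, minus_hB K 3 a b hab, ← map_add, hQ2, hQ2, hQ2, hg, hg, hg, hQ2, hQ2, hQ2]
      · rw [hQ2, hQ2, hg]
    have hli : ∀ {x y : SV F}, x ≠ y → LinearIndependent K ![x.1, y.1] := by
      intro x y hxy
      rw [LinearIndependent.pair_iff]
      intro s t hst
      rcases zero_or_one hK s with rfl | rfl <;> rcases zero_or_one hK t with rfl | rfl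
      · exact ⟨rfl, rfl⟩
      · rw [zero_smul, zero_add, one_smul] at hst
        exact absurd hst y.2.1
      · rw [zero_smul, add_zero, one_smul] at hst
        exact absurd hst x.2.1
      · exfalso
        apply hxy
        apply Subtype.ext
        have h2 : (1 : K) + 1 = 0 := by
          rcases zero_or_one hK ((1 : K) + 1) with h | h
          · exact h
          · exact absurd (add_eq_left.1 h) one_ne_zero
        rw [one_smul, one_smul] at hst
        have h3 : y.1 + y.1 = 0 := by
          have : y.1 + y.1 = ((1 : K) + 1) • y.1 := by rw [add_smul, one_smul]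
          rw [this, h2, zero_smul]
        exact add_right_cancel (hst.trans h3.symm)
    have hB0 : ∀ x : SV F, F.B x.1 x.1 = 0 := fun x => F.alt _ x.2.2
    intro x y x' y' h
    rcases relv_cases F x y with ⟨h1, h2⟩ | ⟨h1, h3, h2⟩ | ⟨h1, h3, h2⟩
    · have h4 := (relv_eq_zero F x' y').1 (by rw [← h, h2])
      subst h1 h4
      obtain ⟨g, hg⟩ := key (s := ![x.1]) (t := ![x'.1]) (by simpa using x.2.1) (by simpa using x'.2.1)
        (by
          intro i
          fin_cases i
          change F.Q x.1 = F.Q x'.1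
          rw [x.2.2, x'.2.2])
        (by
          intro i j
          fin_cases i; fin_cases j
          change F.B x.1 x.1 = F.B x'.1 x'.1
          rw [hB0, hB0])
      have := Subtype.ext (hg 0) (a1 := g • x) (a2 := x')
      exact ⟨g, this, this⟩
    all_goals
      obtain ⟨h1', h5⟩ : x' ≠ y' ∧ F.B x.1 y.1 = F.B x'.1 y'.1 := by
        rcases relv_cases F x' y' with ⟨h1', h2'⟩ | ⟨h1', h3', h2'⟩ | ⟨h1', h3', h2'⟩
        all_goals
          rw [h2, h2'] at h
          first
          | exact absurd h (by decide)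
          | exact ⟨h1', by rw [h3, h3']⟩
          | exact ⟨h1', by rw [(zero_or_one hK _).resolve_left h3, (zero_or_one hK _).resolve_left h3']⟩
      obtain ⟨g, hg⟩ := key (hli h1) (hli h1')
        (by
          intro i
          fin_cases i
          · change F.Q x.1 = F.Q x'.1
            rw [x.2.2, x'.2.2]
          · change F.Q y.1 = F.Q y'.1
            rw [y.2.2, y'.2.2])
        (by
          intro i j
          fin_cases i <;> fin_cases j
          · change F.B x.1 x.1 = F.B x'.1 x'.1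
            rw [hB0, hB0]
          · exact h5
          · change F.B y.1 x.1 = F.B y'.1 x'.1
            rw [F.B_symm y.1, F.B_symm y'.1, h5]
          · change F.B y.1 y.1 = F.B y'.1 y'.1
            rw [hB0, hB0])
      exact ⟨g, Subtype.ext (hg 0), Subtype.ext (hg 1)⟩
  · intro i
    fin_cases i
    · change {y | relv F x0 y = 0}.ncard = 1
      have : {y | relv F x0 y = 0} = {x0} := by
        ext y
        rw [Set.mem_ofPred_eq, relv_eq_zero, Set.mem_singleton_iff, eq_comm]
      rw [this, Set.ncard_singleton]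
    · change {y | relv F x0 y = 1}.ncard = 54
      have h1 := ncard_transport e hab (fun c => c = 0) (fun c => c = 0) (fun c => map_eq_zero e)
      rw [cnt1] at h1
      have h2 : {y : SV F | y.1 (.inl (.inr 0)) = 0} = insert x0 {y | relv F x0 y = 1} := by
        ext y
        rw [Set.mem_insert_iff, Set.mem_ofPred_eq, Set.mem_ofPred_eq, ← h0]
        rcases relv_cases F x0 y with ⟨h1, h2⟩ | ⟨h1, h3, h2⟩ | ⟨h1, h3, h2⟩
        · subst h1
          rw [hB0' F x0]
          simp
        · rw [h2]; simp [h3]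
        · rw [h2]; simp [h3, Ne.symm h1]
      rw [h2, Set.ncard_insert_of_notMem] at h1
      · omega
      · rw [Set.mem_ofPred_eq, (relv_eq_zero F x0 x0).2 rfl]
        decide
    · change {y | relv F x0 y = 2}.ncard = 64
      have h1 := ncard_transport e hab (fun c => c ≠ 0) (fun c => c ≠ 0) (fun c => (map_eq_zero e).not)
      rw [cnt2] at h1
      rw [← h1]
      congr 1
      ext y
      rw [Set.mem_ofPred_eq, Set.mem_ofPred_eq, ← h0]
      rcases relv_cases F x0 y with ⟨h1, h2⟩ | ⟨h1, h3, h2⟩ | ⟨h1, h3, h2⟩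
      · subst h1
        rw [hB0' F x0, h2]
        simp
      · rw [h2]; simp [h3]
      · rw [h2]; simp [h3]
  · intro i
    fin_cases i <;> simp
  · intro i j hij
    fin_cases i <;> fin_cases j <;> first | rfl | (exfalso; simp at hij)

open Cfsg.Agent.H33 in
theorem im_iso (hK : Fintype.card K = 2) (hab : ∀ z₁ z₂ : K, z₁ ^ 2 + a * z₁ * z₂ + b * z₂ ^ 2 = 0 → z₁ = 0 ∧ z₂ = 0) :
    IM 7 (CForm.minusF K 3 a b hab).iso := by
  have : Fact (Nat.Prime 7) := ⟨by norm_num⟩
  have hK' : Nat.card K = 2 := by rw [Nat.card_eq_fintype_card, hK]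
  have hfin := finite_iso (CForm.minusF K 3 a b hab)
  obtain ⟨x, y, h⟩ := sub_minus hK hab
  have hX : Nat.card (SV (CForm.minusF K 3 a b hab)) = 119 := by
    rw [← h.sum]
    rfl
  have hN : Nat.card (CForm.minusF K 3 a b hab).iso = 394813440 := by
    rw [card_minusF, hK', Finset.prod_range_succ, Finset.prod_range_succ, Finset.prod_range_one]
    norm_num
  refine im_of_sub h hX (dvd_of_eq hN) (c := 3) (u := 17 ^ 3 * 54 * 64) (by decide) (by norm_num) (by norm_num) ?_
  intro x y h0 h0' h1 h2 h3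
  refine ⟨?_, ?_, ?_⟩
  · rintro rfl
    obtain rfl : x = 59 := by omega
    norm_num at h0'
  · rintro rfl
    obtain rfl : y = 117 := by omega
    norm_num at h0'
  · rintro rfl
    obtain rfl : x = 117 := by omega
    norm_num at h0

end two

open Cfsg.Agent.H33 in
theorem leftO8m2 : LeftO8m2 := by
  intro F _ _ a b hF hab
  have : Fact (Nat.Prime 7) := ⟨by norm_num⟩
  have hfin := finite_iso (CForm.minusF F 3 a b hab)
  have _ := Fintype.ofFinite (CForm.minusF F 3 a b hab).iso
  obtain ⟨χ, hχ⟩ := im_iso hF hab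
  have e := isoQuad (CForm.minusF F 3 a b hab) (minus_hB F 3 a b hab)
  have hχ' : IsIrrCharacter _ ((χ : (CForm.minusF F 3 a b hab).iso → ℂ) ∘ e.toMonoidHom) :=
    Cfsg.Agent.Characters.Core.isIrr_comp _ e.surjective χ.2
  refine im_down (Omega F (quadFormMinus 3 F a b)) hχ' (d := charDegree (χ : (CForm.minusF F 3 a b hab).iso → ℂ)) ?_ ?_
    (r := 7) (a := 1) (by rwa [pow_one]) ?_
  · have h1 : ((χ : (CForm.minusF F 3 a b hab).iso → ℂ) ∘ e.toMonoidHom) 1 =
        (charDegree (χ : (CForm.minusF F 3 a b hab).iso → ℂ) : ℂ) := by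
      rw [Function.comp_apply, map_one, charDegree_eq χ.2]
    exact h1
  · intro z hz
    have h1 : z = 1 := by
      have h2 : (-1 : F) = 1 := by
        rcases zero_or_one hF (-1 : F) with h | h
        · exact absurd (neg_eq_zero.1 h) one_ne_zero
        · exact h
      have h3 : (-1 : Matrix ((Fin 3 ⊕ Fin 3) ⊕ Fin 2) ((Fin 3 ⊕ Fin 3) ⊕ Fin 2) F) = 1 := by
        ext i j
        by_cases hij : i = j
        · subst hij
          simpa using h2
        · simp [hij]
      apply Subtype.ext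
      apply Subtype.ext
      apply Units.ext
      rcases cen_minus F (by norm_num) a b hab z hz with h | h
      · exact h
      · exact h.trans h3
    rw [h1]
    rfl
  · rw [pow_one]
    intro h
    have h3 : 7 ∣ 8 := h.trans (minus_idx F a b hab (by norm_num))
    norm_num at h3

end Cfsg.Agent.H579.RkThree
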