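import Mathlib
import Cfsg.Agent.Lib.Zsigmondy

/-!
# Polynomials in an element of order `p` not fixed by a field automorphism of order `p` (helper579, for S5762)

* `exists_frob` : a field automorphism `θ` of prime order `p` of a finite field `F` is `x ↦ x ^ (q₀ ^ n)`,
  `|F| = q₀ ^ p`, `p ∤ n`;
* `exists_poly` : if `z ^ p = 1`, `z ≠ 1` there are a polynomial `G` and a prime `s ≠ 2, p` with `G(z) ^ s = 1`,
  `G(z) G(z⁻¹) = 1`, `G(1) = 1`, `G^θ(z) ≠ G(z)`.
-/

set_option autoImplicit false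
set_option linter.unusedSectionVars false

namespace Cfsg.Agent.H579.Mpo

open Polynomial

/-- a field automorphism of prime order is a power of the Frobenius of its fixed field -/
theorem exists_frob {F : Type*} [Field F] [Finite F] {p : ℕ} (hp : p.Prime) {θ : F ≃+* F}
    (hθ : orderOf (θ : RingAut F) = p) :
    ∃ q₀ n : ℕ, 2 ≤ q₀ ∧ Nat.card F = q₀ ^ p ∧ (∀ x : F, θ x = x ^ (q₀ ^ n)) ∧ ¬ p ∣ n ∧
      ∃ ℓ m : ℕ, CharP F ℓ ∧ ℓ.Prime ∧ q₀ = ℓ ^ m := by
  classical
  let G : Subgroup (RingAut F) := Subgroup.zpowers θ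
  have hfin : Finite (RingAut F) := DFunLike.finite _
  let _ : Fintype G := Fintype.ofFinite G
  let F₀ := FixedPoints.subfield G F
  have hfr : Module.finrank F₀ F = p := by
    rw [FixedPoints.finrank_eq_card G F, ← Nat.card_eq_fintype_card, Nat.card_zpowers, hθ]
  let _ : Fintype F₀ := Fintype.ofFinite F₀
  let f : F →ₐ[F₀] F :=
    { toFun := θ
      map_one' := map_one θ
      map_mul' := map_mul θ
      map_zero' := map_zero θ
      map_add' := map_add θ
      commutes' := fun x => x.2 ⟨θ, Subgroup.mem_zpowers θ⟩ }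
  obtain ⟨n, hn⟩ := (FiniteField.bijective_frobeniusAlgHom_pow F₀ F).2 f
  have hn' : FiniteField.frobeniusAlgHom F₀ F ^ (n : ℕ) = f := hn
  have hθx : ∀ x : F, θ x = x ^ (Fintype.card F₀ ^ (n : ℕ)) := by
    intro x
    have h1 := DFunLike.congr_fun hn' x
    rw [AlgHom.coe_pow, FiniteField.coe_frobeniusAlgHom, pow_iterate] at h1
    exact h1.symm
  refine ⟨Fintype.card F₀, n, Fintype.one_lt_card, ?_, hθx, ?_, ?_⟩
  · rw [Module.natCard_eq_pow_finrank (K := F₀) (V := F), hfr, Nat.card_eq_fintype_card]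
  · intro hd
    have hlt : (n : ℕ) < p := hfr ▸ n.2
    have hn0 : (n : ℕ) = 0 := Nat.eq_zero_of_dvd_of_lt hd hlt
    have h1 : (θ : RingAut F) = 1 := by
      ext x
      rw [hθx, hn0, pow_zero, pow_one]
      rfl
    rw [h1, orderOf_one] at hθ
    exact hp.one_lt.ne hθ
  · obtain ⟨ℓ, hℓ⟩ := CharP.exists F
    have : Fact ℓ.Prime := ⟨CharP.char_is_prime F ℓ⟩
    have : CharP F₀ ℓ := (algebraMap F₀ F).charP (algebraMap F₀ F).injective ℓ
    obtain ⟨m, -, hm⟩ := FiniteField.card F₀ ℓ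
    exact ⟨ℓ, m, hℓ, Fact.out, hm⟩

section helpers

variable {F : Type*} [Field F] {A : Type*} [Ring A] [Algebra F A]

theorem pow_aeval {g : F[X]} {p s : ℕ} (hgs : (X ^ p - 1 : F[X]) ∣ g ^ s - 1) (w : A) (hw : w ^ p = 1) :
    (aeval w g) ^ s = 1 := by
  obtain ⟨c, hc⟩ := hgs
  have h1 := congrArg (aeval w) hc
  rw [map_sub, map_pow, map_one, map_mul, map_sub, map_pow, aeval_X, map_one, hw, sub_self, zero_mul] at h1
  exact sub_eq_zero.1 h1

theorem aeval_G (g : F[X]) (p s : ℕ) (w : A) :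
    aeval w (g * (g.comp (X ^ (p - 1))) ^ (s - 1)) = aeval w g * (aeval (w ^ (p - 1)) g) ^ (s - 1) := by
  rw [map_mul, map_pow, aeval_comp, map_pow, aeval_X]

theorem pow_pred_pred {p : ℕ} (hp : 2 ≤ p) (w : A) (hw : w ^ p = 1) : (w ^ (p - 1)) ^ (p - 1) = w := by
  rw [← pow_mul, show (p - 1) * (p - 1) = p * (p - 2) + 1 by
    obtain ⟨k, rfl⟩ : ∃ k, p = k + 2 := ⟨p - 2, by omega⟩
    rw [Nat.add_sub_cancel, show k + 2 - 1 = k + 1 by omega]
    ring, pow_succ, pow_mul, hw, one_pow, one_mul]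

theorem pow_pred_pow {p : ℕ} (w : A) (hw : w ^ p = 1) : (w ^ (p - 1)) ^ p = 1 := by
  rw [← pow_mul, mul_comm, pow_mul, hw, one_pow]

theorem comm_aeval (g : F[X]) (p : ℕ) (w : A) : Commute (aeval w g) (aeval (w ^ (p - 1)) g) := by
  have h1 : aeval (w ^ (p - 1)) g = aeval w (g.comp (X ^ (p - 1))) := by
    rw [aeval_comp, map_pow, aeval_X]
  rw [h1]
  change _ * _ = _ * _
  rw [← map_mul, ← map_mul, mul_comm]

end helpers

/-- **the polynomial** -/
theorem exists_poly {F : Type*} [Field F] [Finite F] {p : ℕ} [hpF : Fact p.Prime] (hp : 5 ≤ p) (hpF : (p : F) ≠ 0)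
    {θ : F ≃+* F} (hθ : orderOf (θ : RingAut F) = p) {V : Type*} [AddCommGroup V] [Module F V] [FiniteDimensional F V]
    {z : Module.End F V} (hz : z ^ p = 1) (hz1 : z ≠ 1) :
    ∃ (G : F[X]) (s : ℕ), s.Prime ∧ s ≠ 2 ∧ s ≠ p ∧ (aeval z G) ^ s = 1 ∧ aeval z G * aeval (z ^ (p - 1)) G = 1 ∧
      G.eval 1 = 1 ∧ aeval z (G.map (θ : F →+* F)) ≠ aeval z G := by
  classical
  have hpp : p.Prime := Fact.out
  obtain ⟨q₀, n, hq₀, hcard, hθx, hn, ℓ, m, hℓ, hℓp, hqm⟩ := exists_frob hpp hθ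
  have : Fact ℓ.Prime := ⟨hℓp⟩
  -- `p` does not divide `q₀`
  have hpq : ¬ p ∣ q₀ := by
    intro hd
    rw [hqm] at hd
    have h1 : p = ℓ := (Nat.prime_dvd_prime_iff_eq hpp hℓp).1 (hpp.dvd_of_dvd_pow hd)
    apply hpF
    rw [h1]
    exact CharP.cast_eq_zero F ℓ
  have hq0ne : (q₀ : ZMod p) ≠ 0 := fun h => hpq ((ZMod.natCast_eq_zero_iff q₀ p).1 h)
  have hferm : (q₀ : ZMod p) ^ (p - 1) = 1 := ZMod.pow_card_sub_one_eq_one hq0ne
  set e : ℕ := orderOf (q₀ : ZMod p) with he
  have hepos : 0 < e := orderOf_pos_iff.2 (isOfFinOrder_iff_pow_eq_one.2 ⟨p - 1, by omega, hferm⟩)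
  have hdvd : ∀ k : ℕ, p ∣ q₀ ^ k - 1 ↔ e ∣ k := by
    intro k
    rw [he, orderOf_dvd_iff_pow_eq_one, ← Nat.cast_pow]
    have h1 : 1 ≤ q₀ ^ k := Nat.one_le_pow _ _ (by omega)
    rw [← ZMod.natCast_eq_zero_iff, Nat.cast_sub h1, Nat.cast_one, sub_eq_zero]
  have hep : Nat.Coprime e p := by
    have h1 : e ∣ p - 1 := orderOf_dvd_of_pow_eq_one hferm
    rw [Nat.coprime_comm, hpp.coprime_iff_not_dvd]
    intro hd
    have := Nat.le_of_dvd (by omega) (hd.trans h1)
    omega
  -- the prime `s`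
  have h5e : 5 ≤ p * e := by nlinarith
  obtain ⟨s, hs, hsd, hs1, hsq⟩ := Cfsg.Agent.Lib.Zsigmondy.exists_primitive (a := q₀) (n := p * e) hq₀ (by omega)
    (by omega) (by
      rintro ⟨-, h6⟩
      have he1 : e = 1 := by nlinarith
      rw [he1, mul_one] at h6
      have h7 : Nat.Prime 6 := h6 ▸ hpp
      revert h7
      norm_num)
  have hsle : p * e ≤ s - 1 := Nat.le_of_dvd (by have := hs.two_le; omega) hs1
  have hples : p ≤ s - 1 := le_trans (Nat.le_mul_of_pos_right p hepos) hsle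
  have hs2 : s ≠ 2 := by omega
  have hsp : s ≠ p := by omega
  -- the irreducible factor
  have hgeom : (X - 1 : F[X]) * (∑ i ∈ Finset.range p, X ^ i) = X ^ p - 1 := by
    rw [mul_comm]
    exact geom_sum_mul X p
  have hzp : aeval z (X ^ p - 1 : F[X]) = 0 := by
    rw [map_sub, map_pow, aeval_X, map_one, hz, sub_self]
  have hnc : ¬ IsCoprime (minpoly F z) (∑ i ∈ Finset.range p, X ^ i : F[X]) := by
    rintro ⟨a, b, hab⟩
    apply hz1
    have h1 := congrArg (aeval z) hab
    rw [map_add, map_mul, map_mul, minpoly.aeval, mul_zero, zero_add, map_one] at h1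
    have h2 := congrArg (aeval z) hgeom
    rw [hzp, map_mul, map_sub, aeval_X, map_one] at h2
    have h3 : (z - 1) * (aeval z b * aeval z (∑ i ∈ Finset.range p, X ^ i : F[X])) = 0 := by
      have h4 : aeval z b * aeval z (∑ i ∈ Finset.range p, X ^ i : F[X]) =
          aeval z (∑ i ∈ Finset.range p, X ^ i : F[X]) * aeval z b := by
        rw [← map_mul, ← map_mul, mul_comm]
      rw [h4, ← mul_assoc, h2, zero_mul]
    rw [h1, mul_one] at h3
    exact sub_eq_zero.1 h3
  have hmin0 : minpoly F z ≠ 0 := minpoly.ne_zero (Algebra.IsIntegral.isIntegral z)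
  obtain ⟨m₁, hirr, hm1, hm2⟩ : ∃ m₁ : F[X], Irreducible m₁ ∧ m₁ ∣ minpoly F z ∧
      m₁ ∣ (∑ i ∈ Finset.range p, X ^ i : F[X]) := by
    by_contra hcon
    push Not at hcon
    exact hnc (isCoprime_of_irreducible_dvd (fun h => hmin0 h.1) fun w hw h1 => hcon w hw h1)
  have hm3 : m₁ ∣ (X ^ p - 1 : F[X]) := hm2.trans ⟨X - 1, by rw [← hgeom, mul_comm]⟩
  have : Fact (Irreducible m₁) := ⟨hirr⟩
  let L := AdjoinRoot m₁
  have hfd : FiniteDimensional F L := (AdjoinRoot.powerBasis hirr.ne_zero).finite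
  have hL : Finite L := Module.finite_of_finite F
  have hsurj : ∀ t : L, ∃ g : F[X], aeval (AdjoinRoot.root m₁) g = t := by
    intro t
    obtain ⟨g, rfl⟩ := AdjoinRoot.mk_surjective t
    exact ⟨g, AdjoinRoot.aeval_eq g⟩
  set ζ : L := AdjoinRoot.root m₁ with hζdef
  have hζ0 : aeval ζ m₁ = 0 := by
    rw [hζdef, AdjoinRoot.aeval_eq, AdjoinRoot.mk_self]
  have hroot : ∀ f : F[X], aeval ζ f = 0 ↔ m₁ ∣ f := by
    intro f
    rw [hζdef, AdjoinRoot.aeval_eq, AdjoinRoot.mk_eq_zero]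
  have hE : ∀ f : F[X], aeval z f = 0 → aeval ζ f = 0 := fun f hf =>
    (hroot f).2 (hm1.trans (minpoly.dvd F z hf))
  have hζp : ζ ^ p = 1 := by
    have h1 := (hroot _).2 hm3
    rw [map_sub, map_pow, aeval_X, map_one] at h1
    exact sub_eq_zero.1 h1
  have hpL : (p : L) ≠ 0 := by
    intro h
    apply hpF
    apply (algebraMap F L).injective
    rw [map_natCast, h, map_zero]
  have hζ1 : ζ ≠ 1 := by
    intro h
    have h1 := (hroot _).2 hm2
    rw [h, map_sum] at h1
    simp only [map_pow, aeval_X, one_pow, Finset.sum_const, Finset.card_range, nsmul_eq_mul, mul_one] at h1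
    exact hpL h1
  have hζne : ζ ≠ 0 := by
    intro h
    rw [h, zero_pow hpp.ne_zero] at hζp
    exact zero_ne_one hζp
  have hζo : orderOf ζ = p := orderOf_eq_prime hζp hζ1
  -- the order of `L`
  let d := Module.finrank F L
  have hLcard : Nat.card L = q₀ ^ (p * d) := by
    rw [Module.natCard_eq_pow_finrank (K := F) (V := L), hcard, ← pow_mul]
  have hpd : e ∣ p * d := by
    rw [← hdvd, ← hLcard]
    have h1 : orderOf (Units.mk0 ζ hζne) = p := by
      rw [← orderOf_units, Units.val_mk0, hζo]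
    rw [← Nat.card_units, ← h1]
    exact orderOf_dvd_natCard _
  have hed : e ∣ d := (hep.dvd_mul_left).1 hpd
  have hsL : s ∣ Nat.card Lˣ := by
    rw [Nat.card_units, hLcard, hsd]
    exact Nat.mul_dvd_mul_left p hed
  have : Fact s.Prime := ⟨hs⟩
  obtain ⟨tu, htu⟩ := exists_prime_orderOf_dvd_card' s hsL
  set t : L := (tu : L) with htdef
  have hto : orderOf t = s := by rw [htdef, orderOf_units, htu]
  have hts : t ^ s = 1 := by rw [← hto]; exact pow_orderOf_eq_one t
  have ht1 : t ≠ 1 := by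
    intro h
    rw [h, orderOf_one] at hto
    exact hs.one_lt.ne hto
  obtain ⟨g₀, hg₀⟩ := hsurj t
  -- the polynomial `g`
  obtain ⟨h₁, hh₁⟩ := hm3
  have hsep : (X ^ p - 1 : F[X]).Separable := X_pow_sub_one_separable_iff.2 hpF
  obtain ⟨a, b, hab⟩ : IsCoprime m₁ h₁ := (hh₁ ▸ hsep).isCoprime
  have hb : aeval ζ (b * h₁) = 1 := by
    have h1 := congrArg (aeval ζ) hab
    rw [map_add, map_mul, hζ0, mul_zero, zero_add, map_one] at h1
    exact h1
  let g : F[X] := 1 + b * h₁ * (g₀ - 1)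
  have hgζ : aeval ζ g = t := by
    change aeval ζ (1 + b * h₁ * (g₀ - 1)) = t
    rw [map_add, map_mul, hb, map_sub, map_one, hg₀]
    ring
  have hgs : (X ^ p - 1 : F[X]) ∣ g ^ s - 1 := by
    rw [hh₁]
    refine IsCoprime.mul_dvd ⟨a, b, hab⟩ ?_ ?_
    · rw [← hroot, map_sub, map_pow, hgζ, hts, map_one, sub_self]
    · have h1 : g - 1 ∣ g ^ s - 1 := by
        have := sub_dvd_pow_sub_pow g 1 s
        rwa [one_pow] at this
      refine dvd_trans ?_ h1
      exact ⟨b * (g₀ - 1), by simp only [g]; ring⟩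
  have hgh : ∀ x : L, aeval x h₁ = 0 → aeval x g = 1 := by
    intro x hx
    change aeval x (1 + b * h₁ * (g₀ - 1)) = 1
    rw [map_add, map_mul, map_mul, hx]
    simp
  -- the polynomial `G`
  let G : F[X] := g * (g.comp (X ^ (p - 1))) ^ (s - 1)
  have hspos : s - 1 + 1 = s := by have := hs.two_le; omega
  refine ⟨G, s, hs, hs2, hsp, ?_, ?_, ?_, ?_⟩
  · rw [aeval_G, ((comm_aeval g p z).pow_right _).mul_pow, pow_aeval hgs z hz, one_mul, ← pow_mul, mul_comm, pow_mul,
      pow_aeval hgs _ (pow_pred_pow z hz), one_pow]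
  · rw [aeval_G, aeval_G, pow_pred_pred (by omega) z hz]
    have hc := comm_aeval g p z
    have h1 : aeval z g * aeval (z ^ (p - 1)) g ^ (s - 1) * (aeval (z ^ (p - 1)) g * aeval z g ^ (s - 1)) =
        (aeval z g * aeval z g ^ (s - 1)) * (aeval (z ^ (p - 1)) g ^ (s - 1) * aeval (z ^ (p - 1)) g) := by
      have h2 : aeval (z ^ (p - 1)) g ^ (s - 1) * (aeval (z ^ (p - 1)) g * aeval z g ^ (s - 1)) =
          aeval z g ^ (s - 1) * (aeval (z ^ (p - 1)) g ^ (s - 1) * aeval (z ^ (p - 1)) g) := by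
        rw [← mul_assoc, ← pow_succ, hspos]
        exact ((hc.symm.pow_left s).pow_right (s - 1)).eq
      rw [mul_assoc, h2, ← mul_assoc]
    rw [h1, ← pow_succ', ← pow_succ, hspos, pow_aeval hgs z hz, pow_aeval hgs _ (pow_pred_pow z hz), one_mul]
  · have h1 := pow_aeval hgs (1 : F) (one_pow _)
    have h2 := aeval_G g p s (1 : F)
    rw [one_pow, ← pow_succ', hspos, h1] at h2
    rw [← coe_aeval_eq_eval]
    exact h2
  · intro hcon
    -- values in `L`
    set ρ : L := aeval ζ G with hρdef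
    have hρG : ρ = t * (aeval (ζ ^ (p - 1)) g) ^ (s - 1) := by
      rw [hρdef, aeval_G, hgζ]
    have ht' : (aeval (ζ ^ (p - 1)) g) ^ s = 1 := pow_aeval hgs _ (pow_pred_pow ζ hζp)
    have hρs : ρ ^ s = 1 := by
      rw [hρG, mul_pow, hts, one_mul, ← pow_mul, mul_comm, pow_mul, ht', one_pow]
    have hfrob : ∀ (j : ℕ) (x : L) (f : F[X]), aeval (x ^ ((Nat.card F) ^ j)) f = (aeval x f) ^ ((Nat.card F) ^ j) := by
      intro j x f
      let _ : Fintype F := Fintype.ofFinite F
      let φ : L →ₐ[F] L := FiniteField.frobeniusAlgHom F L ^ j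
      have hφ : ∀ y : L, φ y = y ^ ((Nat.card F) ^ j) := by
        intro y
        change (FiniteField.frobeniusAlgHom F L ^ j) y = _
        rw [AlgHom.coe_pow, FiniteField.coe_frobeniusAlgHom, pow_iterate, Nat.card_eq_fintype_card]
      rw [← hφ, ← hφ, aeval_algHom_apply]
    have hρ1 : ρ ≠ 1 := by
      intro hρ
      have ht'' : aeval (ζ ^ (p - 1)) g = t := by
        have h1 : t * (aeval (ζ ^ (p - 1)) g) ^ (s - 1) * aeval (ζ ^ (p - 1)) g = t := by
          rw [mul_assoc, ← pow_succ, hspos, ht', mul_one]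
        rw [← hρG, hρ, one_mul] at h1
        exact h1
      have h2 : aeval (ζ ^ (p - 1)) (m₁ * h₁) = 0 := by
        rw [← hh₁, map_sub, map_pow, aeval_X, map_one, pow_pred_pow ζ hζp, sub_self]
      rw [map_mul, mul_eq_zero] at h2
      rcases h2 with h2 | h2
      · -- `ζ⁻¹` is conjugate to `ζ`
        let _ : Fintype F := Fintype.ofFinite F
        let σ : L →ₐ[F] L := AdjoinRoot.liftAlgHom m₁ (Algebra.ofId F L) (ζ ^ (p - 1)) h2
        have hσζ : σ ζ = ζ ^ (p - 1) := AdjoinRoot.liftAlgHom_root _ _ _ _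
        obtain ⟨j, hj⟩ := (FiniteField.bijective_frobeniusAlgHom_pow F L).2 σ
        have hj' : ∀ y : L, σ y = y ^ (Fintype.card F ^ (j : ℕ)) := by
          intro y
          have h3 : FiniteField.frobeniusAlgHom F L ^ (j : ℕ) = σ := hj
          rw [← h3, AlgHom.coe_pow, FiniteField.coe_frobeniusAlgHom, pow_iterate]
        have h3 : σ t = t := by
          nth_rw 1 [← hgζ]
          rw [← aeval_algHom_apply, hσζ, ht'']
        rw [hj', ← Nat.card_eq_fintype_card, hcard, ← pow_mul] at h3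
        have htne : t ≠ 0 := by
          intro h0
          rw [h0, zero_pow hs.ne_zero] at hts
          exact zero_ne_one hts
        have h4 : s ∣ q₀ ^ (p * j) - 1 := by
          rw [← hto]
          apply orderOf_dvd_of_pow_eq_one
          apply mul_left_cancel₀ htne
          rw [← pow_succ', Nat.sub_add_cancel (Nat.one_le_pow _ _ (by omega)), h3, mul_one]
        rw [hsd] at h4
        have h5 : e ∣ (j : ℕ) := Nat.dvd_of_mul_dvd_mul_left hpp.pos h4
        have h6 : p ∣ q₀ ^ (p * (j : ℕ)) - 1 := (hdvd _).2 (h5.mul_left p)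
        have h7 : σ ζ = ζ := by
          rw [hj', ← Nat.card_eq_fintype_card, hcard, ← pow_mul]
          obtain ⟨c, hc⟩ := h6
          have h8 : q₀ ^ (p * (j : ℕ)) = p * c + 1 := by
            have := Nat.one_le_pow (p * (j : ℕ)) q₀ (by omega)
            omega
          rw [h8, pow_succ, pow_mul, hζp, one_pow, one_mul]
        rw [hσζ] at h7
        have h8 : ζ ^ (p - 2) = 1 := by
          apply mul_right_cancel₀ hζne
          rw [← pow_succ, show p - 2 + 1 = p - 1 by omega, h7, one_mul]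
        have h9 := orderOf_dvd_of_pow_eq_one h8
        rw [hζo] at h9
        have := Nat.le_of_dvd (by omega) h9
        omega
      · exact ht1 (ht''.symm.trans (hgh _ h2))
    have hρo : orderOf ρ = s := orderOf_eq_prime hρs hρ1
    have hρne : ρ ≠ 0 := by
      intro h0
      rw [h0, zero_pow hs.ne_zero] at hρs
      exact zero_ne_one hρs
    have h1 : aeval ζ (G.map (θ : F →+* F)) = ρ := by
      have h2 : aeval z (G.map (θ : F →+* F) - G) = 0 := by rw [map_sub, hcon, sub_self]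
      have h3 := hE _ h2
      rw [map_sub] at h3
      exact sub_eq_zero.1 h3
    -- the Frobenius `x ↦ x ^ (q₀ ^ n)`
    have hpsi : ∀ (x : L) (f : F[X]), (aeval x f) ^ (q₀ ^ n) = aeval (x ^ (q₀ ^ n)) (f.map (θ : F →+* F)) := by
      intro x f
      have : CharP L ℓ := charP_of_injective_algebraMap (algebraMap F L).injective ℓ
      let ψ : L →+* L := iterateFrobenius L ℓ (m * n)
      have hψ : ∀ y : L, ψ y = y ^ (q₀ ^ n) := by
        intro y
        change iterateFrobenius L ℓ (m * n) y = _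
        rw [iterateFrobenius_def, hqm, ← pow_mul]
      rw [← hψ, ← hψ, aeval_def, aeval_def, hom_eval₂, eval₂_map]
      congr 1
      ext c
      rw [RingHom.comp_apply, RingHom.comp_apply, hψ, ← map_pow]
      congr 1
      exact (hθx c).symm
    let j := n * (p - 2)
    have hj : p ∣ q₀ ^ (p * j + n) - 1 := by
      rw [hdvd]
      have h2 : e ∣ p - 1 := orderOf_dvd_of_pow_eq_one hferm
      have h3 : p * j + n = n * (p - 1) * (p - 1) := by
        obtain ⟨k, rfl⟩ : ∃ k, p = k + 2 := ⟨p - 2, by omega⟩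
        simp only [j, Nat.add_sub_cancel, show k + 2 - 1 = k + 1 by omega]
        ring
      rw [h3]
      exact h2.mul_left _
    have h2 : (ζ ^ ((Nat.card F) ^ j)) ^ (q₀ ^ n) = ζ := by
      rw [hcard, ← pow_mul, ← pow_mul, ← pow_add]
      obtain ⟨c, hc⟩ := hj
      have h8 : q₀ ^ (p * j + n) = p * c + 1 := by
        have := Nat.one_le_pow (p * j + n) q₀ (by omega)
        omega
      rw [h8, pow_succ, pow_mul, hζp, one_pow, one_mul]
    have h3 := hpsi (ζ ^ ((Nat.card F) ^ j)) G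
    rw [h2, h1, hfrob, ← hρdef] at h3
    -- `ρ ^ (q ^ j q₀ ^ n) = ρ`
    rw [hcard, ← pow_mul, ← pow_mul, ← pow_add] at h3
    have h4 : s ∣ q₀ ^ (p * j + n) - 1 := by
      rw [← hρo]
      apply orderOf_dvd_of_pow_eq_one
      apply mul_left_cancel₀ hρne
      rw [← pow_succ', Nat.sub_add_cancel (Nat.one_le_pow _ _ (by omega)), h3, mul_one]
    rw [hsd] at h4
    have h5 : p ∣ p * j + n := (dvd_mul_right p e).trans h4
    exact hn ((Nat.dvd_add_right (dvd_mul_right p j)).1 h5)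

end Cfsg.Agent.H579.Mpo
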