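import Cfsg.Agent.H903.SylRegStmt
import Cfsg.Agent.H579.MpoAlg

/-!
# Linear algebra for the orthogonal rows of S5762 (helper579)

* `isometry_aeval` : `G(z)` is an isometry if `z` is one, `G(z) G(z⁻¹) = 1`, `G(1) = 1`;
* `semi_aeval` : a semilinear map commuting with `z` carries `G(z)` to `G^θ(z)`;
* `refl_trick` : the reflection in a regular vector.
-/

set_option autoImplicit false
set_option linter.unusedSectionVars false

namespace Cfsg.Agent.H579.Mpo

open Polynomial QuadraticMap

section aeval

variable {F : Type*} [Field F] {V : Type*} [AddCommGroup V] [Module F V]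

theorem aeval_fix {z : Module.End F V} {v : V} (hv : z v = v) (G : F[X]) : aeval z G v = G.eval 1 • v := by
  induction G using Polynomial.induction_on' with
  | add f g hf hg => rw [map_add, LinearMap.add_apply, hf, hg, eval_add, add_smul]
  | monomial n a =>
    have hn : (z ^ n) v = v := by
      induction n with
      | zero => rfl
      | succ n ih => rw [pow_succ, Module.End.mul_apply, hv, ih]
    rw [aeval_monomial, eval_monomial, one_pow, mul_one, Module.End.mul_apply, hn]
    rfl

theorem semi_aeval {z : Module.End F V} {θ : F ≃+* F} {y : V → V} (hadd : ∀ u v, y (u + v) = y u + y v)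
    (hsmul : ∀ (a : F) (v : V), y (a • v) = θ a • y v) (hyz : ∀ v, y (z v) = z (y v)) (G : F[X]) (v : V) :
    y (aeval z G v) = aeval z (G.map (θ : F →+* F)) (y v) := by
  induction G using Polynomial.induction_on' with
  | add f g hf hg =>
    rw [map_add, LinearMap.add_apply, hadd, hf, hg, Polynomial.map_add, map_add, LinearMap.add_apply]
  | monomial n a =>
    have hn : ∀ v, y ((z ^ n) v) = (z ^ n) (y v) := by
      induction n with
      | zero => intro v; rfl
      | succ n ih => intro v; rw [pow_succ, Module.End.mul_apply, ih, hyz]; rfl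
    rw [aeval_monomial, Polynomial.map_monomial, aeval_monomial, Module.End.mul_apply, Module.End.mul_apply]
    change y (a • (z ^ n) v) = (θ a) • (z ^ n) (y v)
    rw [hsmul, hn]

variable (Q : QuadraticForm F V)

theorem isometry_aeval {p : ℕ} (hp : 0 < p) (hpF : (p : F) ≠ 0) {z : Module.End F V} (hz : z ^ p = 1)
    (hQ : ∀ v, Q (z v) = Q v) {G : F[X]} (hG : aeval z G * aeval (z ^ (p - 1)) G = 1) (hG1 : G.eval 1 = 1) (v : V) :
    Q (aeval z G v) = Q v := by
  have hpol : ∀ x y, polar Q (z x) (z y) = polar Q x y := by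
    intro x y
    simp only [polar, ← map_add, hQ]
  -- the adjoint of `z`
  have hadj1 : ∀ x y, polar Q (z x) y = polar Q x ((z ^ (p - 1)) y) := by
    intro x y
    rw [← hpol x, ← Module.End.mul_apply, ← pow_succ', Nat.sub_add_cancel hp, hz]
    rfl
  have hadjn : ∀ (n : ℕ) (x y : V), polar Q ((z ^ n) x) y = polar Q x (((z ^ (p - 1)) ^ n) y) := by
    intro n
    induction n with
    | zero => intro x y; rfl
    | succ n ih => intro x y; rw [pow_succ, Module.End.mul_apply, ih, hadj1, pow_succ', Module.End.mul_apply]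
  have hadj : ∀ (f : F[X]) (x y : V), polar Q (aeval z f x) y = polar Q x (aeval (z ^ (p - 1)) f y) := by
    intro f
    induction f using Polynomial.induction_on' with
    | add f g hf hg =>
      intro x y
      rw [map_add, map_add, LinearMap.add_apply, LinearMap.add_apply, polar_add_left, polar_add_right, hf, hg]
    | monomial n a =>
      intro x y
      rw [aeval_monomial, aeval_monomial, Module.End.mul_apply, Module.End.mul_apply]
      change polar Q (a • (z ^ n) x) y = polar Q x (a • ((z ^ (p - 1)) ^ n) y)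
      rw [polar_smul_left, polar_smul_right, hadjn]
  have hcomm : aeval (z ^ (p - 1)) G * aeval z G = 1 := by
    have h1 : aeval (z ^ (p - 1)) G = aeval z (G.comp (X ^ (p - 1))) := by
      rw [aeval_comp, map_pow, aeval_X]
    rw [h1] at hG ⊢
    rw [← map_mul, mul_comm, map_mul, hG]
  have hB : ∀ x y, polar Q (aeval z G x) (aeval z G y) = polar Q x y := by
    intro x y
    rw [hadj, ← Module.End.mul_apply, hcomm]
    rfl
  let f : V → F := fun v => Q (aeval z G v) - Q v
  have hfadd : ∀ x y, f (x + y) = f x + f y := by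
    intro x y
    have h1 := hB x y
    simp only [polar] at h1
    simp only [f]
    rw [map_add]
    linear_combination h1
  have hfz : ∀ x, f (z x) = f x := by
    intro x
    simp only [f]
    have h1 : aeval z G (z x) = z (aeval z G x) := by
      rw [← Module.End.mul_apply, ← Module.End.mul_apply]
      congr 1
      have h2 : z = aeval z (X : F[X]) := (aeval_X z).symm
      nth_rw 2 [h2]
      nth_rw 3 [h2]
      rw [← map_mul, ← map_mul, mul_comm]
    rw [h1, hQ, hQ]
  have hfzn : ∀ (n : ℕ) (x : V), f ((z ^ n) x) = f x := by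
    intro n
    induction n with
    | zero => intro x; rfl
    | succ n ih => intro x; rw [pow_succ, Module.End.mul_apply, ih, hfz]
  have hf0 : f 0 = 0 := by simp only [f]; rw [map_zero, sub_self]
  have hfsum : ∀ (n : ℕ) (x : V), f (∑ i ∈ Finset.range n, (z ^ i) x) = (n : F) * f x := by
    intro n x
    induction n with
    | zero => simp [hf0]
    | succ n ih =>
      rw [Finset.sum_range_succ, hfadd, ih, hfzn]
      push_cast
      ring
  have hfix : z (∑ i ∈ Finset.range p, (z ^ i) v) = ∑ i ∈ Finset.range p, (z ^ i) v := by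
    rw [map_sum]
    have h1 : ∀ i, z ((z ^ i) v) = (z ^ (i + 1)) v := fun i => by
      rw [pow_succ', Module.End.mul_apply]
    simp only [h1]
    have h2 := Finset.sum_range_succ' (fun i => (z ^ i) v) p
    have h3 := Finset.sum_range_succ (fun i => (z ^ i) v) p
    rw [h3] at h2
    rw [hz] at h2
    have h4 : (1 : Module.End F V) v = (z ^ 0) v := rfl
    rw [h4] at h2
    exact (add_right_cancel h2).symm
  have h1 : f (∑ i ∈ Finset.range p, (z ^ i) v) = 0 := by
    simp only [f]
    rw [aeval_fix hfix, hG1, one_smul, sub_self]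
  rw [hfsum] at h1
  have h2 : f v = 0 := (mul_eq_zero.1 h1).resolve_left hpF
  exact sub_eq_zero.1 h2

end aeval

section refl

open Cfsg.Agent.H903.SylReg

variable {F : Type*} [Field F] {V : Type*} [AddCommGroup V] [Module F V] [FiniteDimensional F V]
  (Q : QuadraticForm F V)

/-- **The reflection trick.** `y`, `y'` in the `p`-group `R` of isometries with `y' = r_v y r_v`. -/
theorem refl_trick {p : ℕ} (hp2 : Odd p) (hQ : ∀ x, (∀ y, polar Q x y = 0) → x = 0)
    {R : Subgroup (V ≃ₗ[F] V)} (hR : IsPGroup p R) (hRQ : ∀ h ∈ R, ∀ x, Q (h x) = Q x) {v : V} (hv : Q v ≠ 0)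
    (hreg : ∀ h ∈ R, h v = v → h = 1) (hav : Avoid R v) {y y' : V ≃ₗ[F] V} (hy : y ∈ R) (hy' : y' ∈ R)
    {r : V ≃ₗ[F] V} (hr : ∀ x, r x = x - ((Q v)⁻¹ * polar Q v x) • v) (hyy : y' * r = r * y) : y = 1 := by
  have hv0 : v ≠ 0 := by
    rintro rfl
    exact hv (map_zero Q)
  have hypol : ∀ a b, polar Q (y a) (y b) = polar Q a b := by
    intro a b
    simp only [polar, ← map_add, hRQ y hy]
  set w : V := y v with hw
  have hQw : Q w = Q v := hRQ y hy v
  by_cases hdep : ∃ c : F, w = c • v
  · -- `y v = ± v`
    obtain ⟨c, hc⟩ := hdep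
    have hc2 : c * c = 1 := by
      rw [hc, QuadraticMap.map_smul, smul_eq_mul] at hQw
      have h1 : (c * c - 1) * Q v = 0 := by linear_combination hQw
      exact sub_eq_zero.1 ((mul_eq_zero.1 h1).resolve_right hv)
    have hpow : ∀ k : ℕ, (y ^ k) v = c ^ k • v := by
      intro k
      induction k with
      | zero => rw [pow_zero, pow_zero, one_smul]; rfl
      | succ k ih =>
        rw [pow_succ', LinearEquiv.mul_apply, ih, map_smul, ← hw, hc, smul_smul, ← pow_succ]
    obtain ⟨k, hk⟩ := hR ⟨y, hy⟩
    have hk' : y ^ p ^ k = 1 := congrArg Subtype.val hk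
    have h1 : c ^ p ^ k = 1 := by
      have h2 := hpow (p ^ k)
      rw [hk'] at h2
      have h3 : (c ^ p ^ k - 1) • v = 0 := by
        rw [sub_smul, one_smul, ← h2]
        exact sub_self v
      exact sub_eq_zero.1 ((smul_eq_zero.1 h3).resolve_right hv0)
    have h4 : c = 1 := by
      obtain ⟨j, hj⟩ := hp2.pow (n := k)
      rw [hj, pow_succ, pow_mul, pow_two, hc2, one_pow, one_mul] at h1
      exact h1
    rw [h4, one_smul] at hc
    exact hreg y hy hc
  · exfalso
    -- `z = y' y⁻¹`
    have hzR : y' * y⁻¹ ∈ R := R.mul_mem hy' (R.inv_mem hy)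
    have hrr : ∀ x, r (r x) = x := by
      intro x
      rw [hr, hr]
      have h1 : polar Q v v = 2 * Q v := by
        rw [QuadraticMap.polar_self, two_smul, two_mul]
      rw [polar_sub_right, polar_smul_right, h1, smul_eq_mul, sub_sub, ← add_smul, ]
      have h2 : (Q v)⁻¹ * polar Q v x + (Q v)⁻¹ * (polar Q v x - (Q v)⁻¹ * polar Q v x * (2 * Q v)) = 0 := by
        field_simp
        ring
      rw [h2, zero_smul, sub_zero]
    have hz : ∀ x, (y' * y⁻¹) x = r (x - ((Q v)⁻¹ * polar Q w x) • w) := by
      intro x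
      obtain ⟨u, rfl⟩ := y.surjective x
      have h1 : (y' * y⁻¹) (y u) = y' u := by
        rw [← LinearEquiv.mul_apply, mul_assoc, inv_mul_cancel, mul_one]
      have h2 : y' u = r (y (r u)) := by
        have h3 := LinearEquiv.congr_fun hyy (r u)
        rw [LinearEquiv.mul_apply, LinearEquiv.mul_apply, hrr] at h3
        exact h3
      rw [h1, h2, hw, hypol, hr u, map_sub, map_smul]
    have hcom : com (y' * y⁻¹) ≤ Submodule.span F ({v, w} : Set V) := by
      rintro _ ⟨x, rfl⟩
      rw [LinearMap.sub_apply, LinearMap.id_apply, LinearEquiv.coe_coe, hz, hr, Submodule.mem_span_pair]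
      refine ⟨-((Q v)⁻¹ * polar Q v (x - ((Q v)⁻¹ * polar Q w x) • w)), -((Q v)⁻¹ * polar Q w x), ?_⟩
      module
    have hle : Module.finrank F (com (y' * y⁻¹)) ≤ 2 := by
      classical
      refine (Submodule.finrank_mono hcom).trans ?_
      have h1 := finrank_span_finset_le_card (R := F) ({v, w} : Finset V)
      rw [Finset.coe_insert, Finset.coe_singleton] at h1
      exact h1.trans Finset.card_le_two
    have hw0 : w ≠ 0 := by
      intro h0
      apply hdep
      exact ⟨0, by rw [h0, zero_smul]⟩
    -- a vector orthogonal to `w` and not to `v`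
    obtain ⟨x, hxw, hxv⟩ : ∃ x, polar Q w x = 0 ∧ polar Q v x ≠ 0 := by
      by_contra hcon
      push Not at hcon
      obtain ⟨x₀, hx₀⟩ : ∃ x, polar Q w x ≠ 0 := by
        by_contra hcon2
        push Not at hcon2
        exact hw0 (hQ w hcon2)
      have h1 : ∀ x, polar Q v x = polar Q w x * ((polar Q w x₀)⁻¹ * polar Q v x₀) := by
        intro x
        have h2 := hcon (x - (polar Q w x * (polar Q w x₀)⁻¹) • x₀) (by
          rw [polar_sub_right, polar_smul_right, smul_eq_mul, mul_assoc, inv_mul_cancel₀ hx₀, mul_one, sub_self])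
        rw [polar_sub_right, polar_smul_right, smul_eq_mul] at h2
        linear_combination h2
      set μ : F := (polar Q w x₀)⁻¹ * polar Q v x₀ with hμ
      have h3 : v = μ • w := by
        rw [← sub_eq_zero]
        apply hQ
        intro y
        rw [polar_sub_left, polar_smul_left, h1 y, smul_eq_mul, mul_comm, sub_self]
      have hμ0 : μ ≠ 0 := by
        intro h0
        rw [h0, zero_smul] at h3
        exact hv0 h3
      apply hdep
      exact ⟨μ⁻¹, by rw [h3, smul_smul, inv_mul_cancel₀ hμ0, one_smul]⟩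
    have hzx : (y' * y⁻¹) x - x = (-((Q v)⁻¹ * polar Q v x)) • v := by
      rw [hz, hxw, mul_zero, zero_smul, sub_zero, hr]
      module
    have hc0 : (-((Q v)⁻¹ * polar Q v x)) ≠ 0 := neg_ne_zero.2 (mul_ne_zero (inv_ne_zero hv) hxv)
    have hvcom : v ∈ com (y' * y⁻¹) := by
      have h1 : (y' * y⁻¹) x - x ∈ com (y' * y⁻¹) := ⟨x, rfl⟩
      rw [hzx] at h1
      have h2 := Submodule.smul_mem _ (-((Q v)⁻¹ * polar Q v x))⁻¹ h1
      rwa [smul_smul, inv_mul_cancel₀ hc0, one_smul] at h2
    have hne : y' * y⁻¹ ≠ 1 := by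
      intro h1
      rw [h1] at hzx
      have h2 : (0 : V) = (-((Q v)⁻¹ * polar Q v x)) • v := by
        rw [← hzx]
        exact (sub_self x).symm
      exact (smul_ne_zero hc0 hv0) h2.symm
    have := hav _ hzR hne hvcom
    omega

end refl

end Cfsg.Agent.H579.Mpo
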