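import Cfsg.Agent.H377.ToOmega

/-!
# Isometries of odd order as elements of `Ω(Q)` (helper579)

* `exists_isom_elt`, `exists_omega_elt`.
-/

set_option autoImplicit false
set_option linter.unusedSectionVars false
set_option linter.style.haveILetI false

namespace Cfsg.Agent.H579.OmElt

open QuadraticMap Cfsg
open Cfsg.Agent.LieClassical.OrthCore Cfsg.Agent.LieClassical.OrthForms
open Cfsg.Agent.LieClassical.OrthCenter
open Cfsg.Agent.H403.Classify Cfsg.Agent.H377

universe u

variable {ι : Type} [Fintype ι] [DecidableEq ι] {F : Type u} [Field F] [Finite F]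

/-- the action of an element of the isometry group as a linear equivalence -/
def actEquiv (Q : QuadraticForm F (ι → F)) (g : isometryGroup F (⇑Q)) : (ι → F) ≃ₗ[F] (ι → F) where
  toFun := act Q g
  invFun := act Q g⁻¹
  map_add' := act_add g
  map_smul' := act_smul g
  left_inv := act_inv_act g
  right_inv := act_act_inv g

theorem actEquiv_apply (Q : QuadraticForm F (ι → F)) (g : isometryGroup F (⇑Q)) (x : ι → F) :
    actEquiv Q g x = act Q g x := rfl

/-- an isometry of a space isometric to `Q` as an element of the isometry group -/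
theorem exists_isom_elt (Q : QuadraticForm F (ι → F)) (hQ : Nondeg Q) {V : Type*} [AddCommGroup V] [Module F V]
    {Q' : V → F} (e : (ι → F) ≃ₗ[F] V) (he : ∀ u, Q' (e u) = Q u) {T : Module.End F V} (hT : ∀ v, Q' (T v) = Q' v) :
    ∃ M : isometryGroup F (⇑Q), ∀ x, act Q M x = e.symm (T (e x)) := by
  let φ : Module.End F V ≃ₐ[F] Matrix ι ι F := (e.symm.conjAlgEquiv F).trans LinearMap.toMatrixAlgEquiv'
  have hφ : ∀ (S : Module.End F V) (x : ι → F), (φ S).mulVec x = e.symm (S (e x)) := by
    intro S x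
    show (LinearMap.toMatrix' (e.symm.conj S)).mulVec x = _
    rw [LinearMap.toMatrix'_mulVec]
    rfl
  have hM : ∀ x, Q ((φ T).mulVec x) = Q x := by
    intro x
    rw [← he, ← he, hφ, e.apply_symm_apply, hT]
  have hinj : ∀ x, (φ T).mulVec x = 0 → x = 0 := by
    intro x hx
    apply hQ
    intro y
    have h1 : polar Q ((φ T).mulVec x) ((φ T).mulVec y) = polar Q x y := by
      rw [polar, polar, ← Matrix.mulVec_add, hM, hM, hM]
    rw [← h1, hx]
    simp [polar]
  have hunit : IsUnit (φ T) := by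
    rw [← Matrix.mulVec_injective_iff_isUnit]
    intro x y hxy
    have h1 : (φ T).mulVec (x - y) = 0 := by
      rw [Matrix.mulVec_sub]
      exact sub_eq_zero.2 hxy
    exact sub_eq_zero.1 (hinj _ h1)
  obtain ⟨M, hM'⟩ := hunit
  have hmem : M ∈ isometryGroup F ⇑Q := by
    rw [Cfsg.Agent.LieClassical.OrthFinite.mem_isometryGroup_iff]
    intro x
    rw [hM']
    exact hM x
  refine ⟨⟨M, hmem⟩, fun x => ?_⟩
  rw [act_def, ← hφ, ← hM']

theorem act_pow_eq (Q : QuadraticForm F (ι → F)) {V : Type*} [AddCommGroup V] [Module F V]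
    (e : (ι → F) ≃ₗ[F] V) {T : Module.End F V} {z : Omega F (⇑Q)} (hz : ∀ x, act Q z x = e.symm (T (e x))) (j : ℕ)
    (x : ι → F) : act Q ((z ^ j : Omega F (⇑Q)) : isometryGroup F (⇑Q)) x = e.symm ((T ^ j) (e x)) := by
  induction j generalizing x with
  | zero =>
    rw [pow_zero, pow_zero]
    change act Q 1 x = _
    rw [act_one]
    exact (e.symm_apply_apply x).symm
  | succ j ih =>
    rw [pow_succ, pow_succ]
    change act Q ((z ^ j : Omega F (⇑Q)) * (z : isometryGroup F (⇑Q))) x = _
    rw [act_mul, ih, hz, e.apply_symm_apply]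
    rfl

/-- an isometry of odd order lies in `Ω(Q)` -/
theorem exists_omega_elt (Q : QuadraticForm F (ι → F)) (hQ : Nondeg Q) (h5 : 5 ≤ Fintype.card ι)
    {V : Type*} [AddCommGroup V] [Module F V]
    {Q' : V → F} (e : (ι → F) ≃ₗ[F] V) (he : ∀ u, Q' (e u) = Q u) {T : Module.End F V} (hT : ∀ v, Q' (T v) = Q' v)
    {N : ℕ} (hN : Odd N) (hTN : T ^ N = 1) :
    ∃ z : Omega F (⇑Q), ∀ x, act Q z x = e.symm (T (e x)) := by
  obtain ⟨M, hM⟩ := exists_isom_elt Q hQ e he hT
  obtain ⟨k, hk⟩ := hN
  have hpow : ∀ (j : ℕ) (x : ι → F), act Q (M ^ j) x = e.symm ((T ^ j) (e x)) := by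
    intro j
    induction j with
    | zero =>
      intro x
      rw [pow_zero, pow_zero, act_one]
      exact (e.symm_apply_apply x).symm
    | succ j ih =>
      intro x
      rw [pow_succ, pow_succ, act_mul, ih, hM, e.apply_symm_apply]
      rfl
  refine ⟨⟨M ^ (k + 1) * M ^ (k + 1), mul_self_mem_Omega Q hQ h5 _⟩, fun x => ?_⟩
  change act Q (M ^ (k + 1) * M ^ (k + 1)) x = _
  rw [← pow_add, hpow, show k + 1 + (k + 1) = N + 1 by omega, pow_succ, hTN, one_mul]

end Cfsg.Agent.H579.OmElt
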