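import Cfsg.Agent.H152.MeetOmega
import Cfsg.Agent.H579.OmElt
import Cfsg.Agent.H579.MpoLin

/-!
# S5762, orthogonal groups in cross characteristic (helper579, task 612)

`meet_cross` : `Meet p (POmega F Q)` from the existence of regular vectors (`RegO`).
-/

set_option autoImplicit false
set_option linter.unusedSectionVars false
set_option linter.style.haveILetI false

namespace Cfsg.Agent.H579.Mpo

open Cfsg QuadraticMap Cfsg.Agent.H903.SylMeet Cfsg.Agent.H903.SylSemi Cfsg.Agent.H903.SylReg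
open Cfsg.Agent.LieClassical.OrthCore Cfsg.Agent.LieClassical.OrthTrans
open Cfsg.Agent.LieClassical.OrthCenter
open Cfsg.Agent.AutOrth.Main
open Cfsg.Agent.H152.MeetOmega Cfsg.Agent.H579.OmElt

variable {ι : Type} [Fintype ι] [DecidableEq ι] {F : Type*} [Field F] [Finite F] {Q : QuadraticForm F (ι → F)}

/-- `Ω(Q)` acting by linear maps -/
noncomputable def lin (hG : Good Q) : ↥(Omega F ⇑Q) →* ((ι → F) ≃ₗ[F] (ι → F)) :=
  (E Q).subtype.comp (oe hG).toMonoidHom

theorem lin_apply (hG : Good Q) (s : ↥(Omega F ⇑Q)) (v : ι → F) : lin hG s v = rho ⇑Q s v := rfl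

theorem lin_injective (hG : Good Q) : Function.Injective (lin hG) := fun _ _ h =>
  (oe hG).injective (Subtype.ext h)

theorem rho_eq_act (s : ↥(Omega F ⇑Q)) (v : ι → F) : rho ⇑Q s v = act Q s v := rfl

theorem card_ge (hG : Good Q) : 5 ≤ Fintype.card ι := by
  have := hG.dim
  rwa [Module.finrank_fintype_fun_eq_card] at this

/-- the kernel of the projection has exponent two -/
theorem sq_of_proj (hG : Good Q) {c : ↥(Omega F ⇑Q)} (hc : proj ⇑Q c = 1) :
    (∀ s : ↥(Omega F ⇑Q), s * c = c * s) ∧ c * c = 1 := by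
  have h1 : c ∈ Subgroup.center ↥(Omega F ⇑Q) := (QuotientGroup.eq_one_iff c).1 hc
  refine ⟨fun s => Subgroup.mem_center_iff.1 h1 s, ?_⟩
  rw [mem_center_omega_iff (H377.nondegenerate_of_nondeg hG.nondeg) (by have := card_ge hG; omega) hG.sing] at h1
  apply Subtype.ext
  apply Subtype.ext
  apply Units.ext
  change (((c : ↥(isometryGroup F ⇑Q)) : Matrix.GeneralLinearGroup ι F) : Matrix ι ι F) *
    (((c : ↥(isometryGroup F ⇑Q)) : Matrix.GeneralLinearGroup ι F) : Matrix ι ι F) = 1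
  rcases h1 with h1 | h1
  · rw [h1, mul_one]
  · rw [h1, neg_mul_neg, mul_one]

/-- elements of odd order are determined by their projection -/
theorem eq_of_proj (hG : Good Q) {s s' : ↥(Omega F ⇑Q)} (h : proj ⇑Q s = proj ⇑Q s') {N : ℕ} (hN : Odd N)
    (h1 : s ^ N = 1) (h2 : s' ^ N = 1) : s = s' := by
  have h3 : proj ⇑Q (s⁻¹ * s') = 1 := by rw [map_mul, map_inv, h, inv_mul_cancel]
  obtain ⟨hcomm, hsq⟩ := sq_of_proj hG h3
  set c := s⁻¹ * s' with hc
  have hs' : s' = s * c := by rw [hc]; group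
  have h4 : c ^ N = 1 := by
    have h5 : Commute s c := hcomm s
    rw [hs', h5.mul_pow, h1, one_mul] at h2
    exact h2
  obtain ⟨k, hk⟩ := hN
  rw [hk, pow_succ, pow_mul, pow_two, hsq, one_pow, one_mul] at h4
  rw [hs', h4, mul_one]

theorem not_comm (hG : Good Q) : ¬ IsMulCommutative (POmega F ⇑Q) := by
  intro hcomm
  haveI : IsSimpleGroup (E Q ⧸ Subgroup.center (E Q)) := LieClassical.OrthSimple.good_isSimpleGroup hG
  have hc : ∀ a b : E Q ⧸ Subgroup.center (E Q), a * b = b * a := by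
    intro a b
    have h1 : ∀ x : E Q ⧸ Subgroup.center (E Q), ∃ y : POmega F ⇑Q, pe hG y = x := (pe hG).surjective
    obtain ⟨a', rfl⟩ := h1 a
    obtain ⟨b', rfl⟩ := h1 b
    rw [← map_mul, ← map_mul, hcomm.1.1 a' b']
  have htop : commutator ↥(E Q) = ⊤ := by
    rw [eq_top_iff, ← Subgroup.map_le_map_iff_of_injective (Subgroup.subtype_injective (E Q)),
      commutator_def, Subgroup.map_commutator, ← MonoidHom.range_eq_map, Subgroup.range_subtype,
      hG.E_perfect]
  have hle : commutator ↥(E Q) ≤ Subgroup.center (E Q) := by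
    rw [commutator_def, Subgroup.commutator_le]
    intro a _ b _
    rw [← QuotientGroup.eq_one_iff]
    change ((a * b * a⁻¹ * b⁻¹ : ↥(E Q)) : E Q ⧸ Subgroup.center (E Q)) = 1
    rw [QuotientGroup.mk_mul, QuotientGroup.mk_mul, QuotientGroup.mk_mul, hc (a : E Q ⧸ Subgroup.center (E Q)) b,
      QuotientGroup.mk_inv, QuotientGroup.mk_inv, mul_inv_cancel_right, mul_inv_cancel]
  rw [htop, top_le_iff] at hle
  obtain ⟨x, y, hxy⟩ := exists_pair_ne (E Q ⧸ Subgroup.center (E Q))
  apply hxy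
  have h1 : ∀ z : E Q ⧸ Subgroup.center (E Q), z = 1 := by
    intro z
    induction z using QuotientGroup.induction_on with
    | H y => exact (QuotientGroup.eq_one_iff y).2 (hle ▸ Subgroup.mem_top y)
  rw [h1 x, h1 y]

theorem isSimple (hG : Good Q) : IsSimpleGroup (POmega F ⇑Q) := by
  haveI : IsSimpleGroup (E Q ⧸ Subgroup.center (E Q)) := LieClassical.OrthSimple.good_isSimpleGroup hG
  haveI : Nontrivial (POmega F ⇑Q) := (pe hG).toEquiv.nontrivial
  exact IsSimpleGroup.isSimpleGroup_of_surjective (pe hG).symm.toMonoidHom (pe hG).symm.surjective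

/-- a Sylow subgroup of the preimage of a Sylow subgroup -/
theorem sylow_lift {p : ℕ} [Fact p.Prime] {R : Subgroup (POmega F ⇑Q)} (hR : IsPGroup p R)
    (hRi : ¬ p ∣ R.index) :
    ∃ S : Subgroup ↥(Omega F ⇑Q), IsPGroup p S ∧ ¬ p ∣ S.index ∧ (∀ s ∈ S, proj ⇑Q s ∈ R) ∧
      ∀ t ∈ R, ∃ s ∈ S, proj ⇑Q s = t := by
  let N : Subgroup ↥(Omega F ⇑Q) := R.comap (proj ⇑Q)
  let ψ : N →* R := (proj ⇑Q).subgroupComap R
  have hψ : Function.Surjective ψ := (proj ⇑Q).subgroupComap_surjective_of_surjective R (proj_surjective ⇑Q)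
  let S : Sylow p N := default
  refine ⟨(S : Subgroup N).map N.subtype, S.2.map _, ?_, ?_, ?_⟩
  · have h1 : ((S : Subgroup N).map N.subtype).index = (S : Subgroup N).index * N.index :=
      Subgroup.index_map_subtype (S : Subgroup N)
    have h2 : N.index = R.index := Subgroup.index_comap_of_surjective R (proj_surjective ⇑Q)
    rw [h1, Nat.Prime.dvd_mul Fact.out, h2]
    rintro (h3 | h3)
    · exact S.not_dvd_index h3
    · exact hRi h3
  · rintro _ ⟨s, -, rfl⟩
    exact s.2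
  · intro t ht
    have hSmap : (S : Subgroup N).map ψ = ⊤ := by
      have h1 : ((S.mapSurjective hψ : Sylow p R) : Subgroup R) = (S : Subgroup N).map ψ :=
        Sylow.coe_mapSurjective hψ S
      rw [← h1]
      have htop : IsPGroup p (⊤ : Subgroup R) := hR.of_equiv Subgroup.topEquiv.symm
      exact ((S.mapSurjective hψ).3 htop le_top).symm
    have h1 : (⟨t, ht⟩ : R) ∈ (S : Subgroup N).map ψ := hSmap ▸ Subgroup.mem_top _
    obtain ⟨s, hs, hst⟩ := h1
    exact ⟨s, ⟨s, hs, rfl⟩, congrArg Subtype.val hst⟩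

/-- **part 1**: a Sylow `p`-subgroup of `Ω(Q)` meets a conjugate of itself trivially -/
theorem part1 {p : ℕ} [hp : Fact p.Prime] (hp2 : p ≠ 2) (hG : Good Q) (hreg : RegO p F (ι → F))
    {S : Subgroup ↥(Omega F ⇑Q)} (hS : IsPGroup p S) (hSi : ¬ p ∣ S.index) :
    ∃ x : ↥(Omega F ⇑Q), ∀ s ∈ S, x * s * x⁻¹ ∈ S → s = 1 := by
  have hQ : Nondeg Q := hG.nondeg
  obtain ⟨v, hv, hvreg, hav⟩ := hreg Q (fun x hx => hQ x hx) (S.map (lin hG)) (hS.map _) (by
    rintro _ ⟨s, -, rfl⟩ x
    rw [lin_apply, rho_eq_act, map_act])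
  -- the reflection
  let f : Module.End F (ι → F) := LinearMap.id - (LinearMap.toSpanSingleton F (ι → F) v).comp
    ((Q v)⁻¹ • (polarBilin Q v))
  have hf : ∀ x, f x = x - ((Q v)⁻¹ * polar Q v x) • v := fun x => rfl
  have hfQ : ∀ x, Q (f x) = Q x := by
    intro x
    have h1 := Cfsg.Agent.ClassicalGeometry.Reflection.reflectionMatrix_isometry Q v hv x
    rwa [Cfsg.Agent.ClassicalGeometry.Reflection.reflectionMatrix_mulVec, ← hf] at h1
  obtain ⟨M, hM⟩ := exists_isom_elt Q hQ (LinearEquiv.refl F (ι → F)) (Q' := ⇑Q) (fun _ => rfl) (T := f) hfQ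
  have hM' : ∀ x, act Q M x = x - ((Q v)⁻¹ * polar Q v x) • v := hM
  let φ : MulAut ↥(Omega F ⇑Q) := MulAut.conjNormal M
  have hφ : ∀ s : ↥(Omega F ⇑Q), ((φ s : ↥(Omega F ⇑Q)) : ↥(isometryGroup F ⇑Q)) = M * s * M⁻¹ := fun s =>
    MulAut.conjNormal_apply M s
  have hS' : IsPGroup p (S.map φ.toMonoidHom) := hS.map _
  have hSi' : ¬ p ∣ (S.map φ.toMonoidHom).index := by
    have h1 : (S.map φ.toMonoidHom).index = S.index := Subgroup.index_map_equiv S φ
    rw [h1]
    exact hSi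
  let S₁ : Sylow p ↥(Omega F ⇑Q) := hS.toSylow hSi
  let S₂ : Sylow p ↥(Omega F ⇑Q) := hS'.toSylow hSi'
  obtain ⟨x, hx⟩ := MulAction.exists_smul_eq ↥(Omega F ⇑Q) S₁ S₂
  refine ⟨x, fun s hs hxs => ?_⟩
  have h1 : x * s * x⁻¹ ∈ S₂ := by
    rw [← hx, Sylow.smul_def]
    exact ⟨s, hs, rfl⟩
  obtain ⟨y, hy, hyx⟩ : x * s * x⁻¹ ∈ S.map φ.toMonoidHom := h1
  have hyx' : φ y = x * s * x⁻¹ := hyx
  have hy1 : lin hG y = 1 := by
    refine refl_trick Q (hp.out.odd_of_ne_two hp2) (fun x hx => hQ x hx) (hS.map (lin hG)) ?_ hv hvreg hav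
      (y := lin hG y) (y' := lin hG (x * s * x⁻¹)) ⟨y, hy, rfl⟩ ⟨_, hxs, rfl⟩ (r := actEquiv Q M)
      (fun x => by rw [actEquiv_apply, hM']) ?_
    · rintro _ ⟨s, -, rfl⟩ x
      rw [lin_apply, rho_eq_act, map_act]
    · refine LinearEquiv.ext fun u => ?_
      rw [LinearEquiv.mul_apply, LinearEquiv.mul_apply, actEquiv_apply, actEquiv_apply, lin_apply, lin_apply,
        rho_eq_act, rho_eq_act, ← hyx', hφ, ← act_mul, ← act_mul]
      congr 1
      group
  have hy2 : y = 1 := lin_injective hG (by rw [hy1, map_one])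
  rw [hy2, map_one] at hyx'
  have h3 : s = x⁻¹ * (x * s * x⁻¹) * x := by group
  rw [h3, ← hyx']
  group

section semi

variable {V : Type*} [AddCommGroup V] [Module F V]

theorem semi_mul {y y' : Equiv.Perm V} {θ θ' : F ≃+* F} (h : Semi F y θ) (h' : Semi F y' θ') :
    Semi F (y * y') ((θ : RingAut F) * (θ' : RingAut F) : RingAut F) := by
  refine ⟨fun u v => ?_, fun a v => ?_⟩
  · rw [Equiv.Perm.mul_apply, h'.1, h.1]
    rfl
  · rw [Equiv.Perm.mul_apply, h'.2, h.2]
    rfl

theorem semi_scal (a : Fˣ) : Semi F (scal F V a) (1 : RingAut F) :=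
  ⟨fun u v => smul_add (a : F) u v, fun b v => smul_comm (a : F) b v⟩

theorem semi_unique [Nontrivial V] {y : Equiv.Perm V} {θ θ' : F ≃+* F} (h : Semi F y θ) (h' : Semi F y θ') :
    θ = θ' := by
  obtain ⟨v, hv⟩ := exists_ne (0 : V)
  have h0 : y 0 = 0 := by
    have h1 := h.1 0 0
    rw [add_zero] at h1
    exact left_eq_add.1 h1
  have hyv : y v ≠ 0 := fun h1 => hv (y.injective (by rw [h1, h0]))
  ext a
  have h1 := (h.2 a v).symm.trans (h'.2 a v)
  have h2 : (θ a - θ' a) • y v = 0 := by rw [sub_smul, h1, sub_self]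
  exact sub_eq_zero.1 ((smul_eq_zero.1 h2).resolve_right hyv)

end semi

theorem isCyclic_ringAut (F : Type*) [Field F] [Finite F] : IsCyclic (RingAut F) := by
  obtain ⟨p, hp⟩ := CharP.exists F
  have hpp : Fact p.Prime := ⟨CharP.char_is_prime F p⟩
  let _ : Algebra (ZMod p) F := ZMod.algebra F p
  let φ : (F ≃ₐ[ZMod p] F) →* (RingAut F) :=
    { toFun := fun σ => σ.toRingEquiv
      map_one' := rfl
      map_mul' := fun _ _ => rfl }
  have hφ : Function.Surjective φ := by
    intro σ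
    refine ⟨AlgEquiv.ofRingEquiv (f := σ) ?_, ?_⟩
    · intro x
      have : (σ : F →+* F).comp (algebraMap (ZMod p) F) = algebraMap (ZMod p) F :=
        Subsingleton.elim _ _
      exact RingHom.congr_fun this x
    · ext x
      rfl
  exact isCyclic_of_surjective φ hφ

/-- a linear similarity inducing an automorphism of odd order induces an inner automorphism -/
theorem inner_of_linear (hG : Good Q) {y : Equiv.Perm (ι → F)} {c : F} (hc : c ≠ 0)
    (hsemi : Semi F y (1 : RingAut F)) (hform : ∀ v, Q (y v) = c * Q v) {β : MulAut (POmega F ⇑Q)}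
    (hind : H903.SylSemi.Ind (proj ⇑Q) (rho ⇑Q) y β) {N : ℕ} (hN : Odd N) (hβ : β ^ N = 1) :
    ∃ t : POmega F ⇑Q, MulAut.conj t = β := by
  have hQ : Nondeg Q := hG.nondeg
  obtain ⟨k, hk⟩ := hN
  -- `c` is a square
  have hpow : ∀ (n : ℕ) (v : ι → F), Q ((y ^ n) v) = c ^ n * Q v := by
    intro n
    induction n with
    | zero => intro v; rw [pow_zero, pow_zero, one_mul]; rfl
    | succ n ih => intro v; rw [pow_succ, pow_succ, Equiv.Perm.mul_apply, ih, hform]; ring
  have hSemiO : ∀ n : ℕ, SemiO F ⇑Q (y ^ n) := by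
    intro n
    refine ⟨(1 : RingAut F), c ^ n, pow_ne_zero n hc, ?_, hpow n⟩
    induction n with
    | zero => exact ⟨fun _ _ => rfl, fun _ _ => rfl⟩
    | succ n ih => rw [pow_succ]; exact semi_mul ih hsemi
  obtain ⟨a, ha⟩ := unique hG (hSemiO N) (by
    have h1 := hind.pow N
    rwa [hβ] at h1)
  obtain ⟨v, hv⟩ : ∃ v, Q v ≠ 0 := by
    by_contra hcon
    push Not at hcon
    obtain ⟨x, hx0, -⟩ := hG.sing
    exact hx0 (hQ x fun y => by rw [polar, hcon, hcon, hcon, sub_zero, sub_zero])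
  have hca : c ^ N = (a : F) * a := by
    have h1 := hpow N v
    rw [ha, scal_apply, QuadraticMap.map_smul, smul_eq_mul] at h1
    exact (mul_right_cancel₀ hv h1).symm
  have hck : c ^ k ≠ 0 := pow_ne_zero k hc
  set b : F := (a : F) * (c ^ k)⁻¹ with hb
  have hb2 : b * b = c := by
    have h1 : c ^ N = c ^ k * c ^ k * c := by rw [hk]; ring
    rw [h1] at hca
    rw [hb]
    field_simp
    rw [pow_two, ← hca]
    ring
  have hb0 : b ≠ 0 := by
    rintro h0
    rw [h0, mul_zero] at hb2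
    exact hc hb2.symm
  -- an isometry inducing `β`
  let y' : Equiv.Perm (ι → F) := scal F (ι → F) (Units.mk0 b hb0)⁻¹ * y
  have hy' : ∀ v, y' v = b⁻¹ • y v := fun v => by
    change scal F (ι → F) (Units.mk0 b hb0)⁻¹ (y v) = _
    rw [scal_apply, Units.val_inv_eq_inv_val, Units.val_mk0]
  have hQ' : ∀ v, Q (y' v) = Q v := by
    intro v
    rw [hy', QuadraticMap.map_smul, hform, smul_eq_mul, ← hb2]
    field_simp
  have hscal : H903.SylSemi.Ind (proj ⇑Q) (rho ⇑Q) (scal F (ι → F) (Units.mk0 b hb0)⁻¹) 1 := by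
    intro s
    refine ⟨s, ?_, rfl⟩
    rw [eq_mul_inv_iff_mul_eq]
    ext v : 1
    simp only [Equiv.Perm.mul_apply, scal_apply]
    rw [rho_apply, rho_apply, Matrix.mulVec_smul]
  have hind' : H903.SylSemi.Ind (proj ⇑Q) (rho ⇑Q) y' β := by
    have h1 := hscal.mul hind
    rwa [one_mul] at h1
  have hlin : Semi F y' (1 : RingAut F) := by
    have h1 := semi_mul (semi_scal (V := ι → F) (Units.mk0 b hb0)⁻¹) hsemi
    rwa [one_mul] at h1
  let T : Module.End F (ι → F) :=
    { toFun := y'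
      map_add' := hlin.1
      map_smul' := hlin.2 }
  obtain ⟨M, hM⟩ := exists_isom_elt Q hQ (LinearEquiv.refl F (ι → F)) (Q' := ⇑Q) (fun _ => rfl) (T := T) hQ'
  have hM' : ∀ x, act Q M x = y' x := hM
  let g : ↥(Omega F ⇑Q) := ⟨M * M, H377.mul_self_mem_Omega Q hQ (card_ge hG) M⟩
  have hg : rho ⇑Q g = y' * y' := by
    ext v : 1
    rw [rho_eq_act]
    change act Q (M * M) v = y' (y' v)
    rw [act_mul, hM', hM']
  have h2 := H903.SylSemi.Ind.conj (proj ⇑Q) (rho ⇑Q) g
  rw [hg] at h2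
  have h3 : β * β = MulAut.conj (proj ⇑Q g) :=
    Ind.unique (proj_surjective ⇑Q) (rho_injective ⇑Q) (hind'.mul hind') h2
  refine ⟨proj ⇑Q g ^ (k + 1), ?_⟩
  rw [map_pow, ← h3, ← pow_two, ← pow_mul, show 2 * (k + 1) = N + 1 by omega, pow_succ, hβ, one_mul]

theorem relIndex_sup_of_normal {G : Type*} [Group G] [Finite G] (P N : Subgroup G) [N.Normal] :
    P.relIndex N = P.relIndex (P ⊔ N) := by
  have h1 := Subgroup.relIndex_mul_relIndex (P ⊓ N) P (P ⊔ N) inf_le_left le_sup_left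
  have h2 := Subgroup.relIndex_mul_relIndex (P ⊓ N) N (P ⊔ N) inf_le_right le_sup_right
  rw [Subgroup.inf_relIndex_left] at h1
  rw [Subgroup.inf_relIndex_right, Subgroup.relIndex_sup_right, ← h1, mul_comm] at h2
  have h3 : N.relIndex P ≠ 0 := Subgroup.index_ne_zero_of_finite (H := N.subgroupOf P)
  exact Nat.eq_of_mul_eq_mul_left (Nat.pos_of_ne_zero h3) h2

/-- an element fixed by a `p`-group of automorphisms acting on `R` -/
theorem exists_fixed {T : Type*} [Group T] [Finite T] {p : ℕ} [hp : Fact p.Prime] {P : Subgroup (MulAut T)}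
    (hP : IsPGroup p P) {R : Subgroup T} (hRp : IsPGroup p R) (hR : R ≠ ⊥) (hPR : ∀ y ∈ P, ∀ r ∈ R, y r ∈ R) :
    ∃ b ∈ R, b ≠ 1 ∧ ∀ y ∈ P, y b = b := by
  let act' : MulAction P R :=
    { smul := fun y r => ⟨(y : MulAut T) r, hPR y y.2 r r.2⟩
      one_smul := fun r => Subtype.ext rfl
      mul_smul := fun y y' r => Subtype.ext rfl }
  have hdvd : p ∣ Nat.card R := by
    haveI : Nontrivial R := (Subgroup.nontrivial_iff_ne_bot R).2 hR
    obtain ⟨n, hn⟩ := hRp.exists_card_eq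
    rw [hn]
    rcases Nat.eq_zero_or_pos n with h0 | h0
    · subst h0
      have := Finite.one_lt_card (α := R)
      rw [hn, pow_zero] at this
      exact absurd this (lt_irrefl 1)
    · exact dvd_pow_self p h0.ne'
  obtain ⟨b, hb, hb1⟩ := hP.exists_fixed_point_of_prime_dvd_card_of_fixed_point R hdvd (a := 1) (by
    intro y
    exact Subtype.ext (map_one (y : MulAut T)))
  exact ⟨b, b.2, fun h => hb1 (Subtype.ext h.symm), fun y hy => congrArg Subtype.val (hb ⟨y, hy⟩)⟩

/-- a power of order `p` -/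
theorem exists_pow_order {G : Type*} [Group G] {p : ℕ} (hp : p.Prime) {z₀ : G} (h1 : z₀ ≠ 1)
    {k : ℕ} (hk : z₀ ^ p ^ k = 1) : ∃ m : ℕ, (z₀ ^ m) ^ p = 1 ∧ z₀ ^ m ≠ 1 := by
  have hfin : IsOfFinOrder z₀ := isOfFinOrder_iff_pow_eq_one.2 ⟨p ^ k, pow_pos hp.pos k, hk⟩
  have hpos := hfin.orderOf_pos
  have hpo : p ∣ orderOf z₀ := by
    have h2 : orderOf z₀ ∣ p ^ k := orderOf_dvd_of_pow_eq_one hk
    obtain ⟨j, -, hj⟩ := (Nat.dvd_prime_pow hp).1 h2
    rcases Nat.eq_zero_or_pos j with h0 | h0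
    · rw [h0, pow_zero, orderOf_eq_one_iff] at hj
      exact absurd hj h1
    · rw [hj]
      exact dvd_pow_self p h0.ne'
  have hmp : orderOf z₀ / p * p = orderOf z₀ := Nat.div_mul_cancel hpo
  refine ⟨orderOf z₀ / p, ?_, ?_⟩
  · rw [← pow_mul, hmp, pow_orderOf_eq_one]
  · intro h
    have h3 : orderOf z₀ ∣ orderOf z₀ / p := orderOf_dvd_of_pow_eq_one h
    have hmpos : 0 < orderOf z₀ / p := by
      rcases Nat.eq_zero_or_pos (orderOf z₀ / p) with h0 | h0
      · rw [h0, zero_mul] at hmp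
        omega
      · exact h0
    have h4 := Nat.le_of_dvd hmpos h3
    have h5 : orderOf z₀ / p < orderOf z₀ := Nat.div_lt_self hpos hp.one_lt
    omega

set_option maxHeartbeats 2000000 in
/-- **S5762, orthogonal groups in cross characteristic** -/
theorem meet_cross {p : ℕ} [hp : Fact p.Prime] (hp5 : 5 ≤ p) (hpF : (p : F) ≠ 0) (hG : Good Q)
    (hall : ∀ P : Subgroup (MulAut (POmega F ⇑Q)), IsPGroup p P → ∀ β ∈ P, AutOrth.Main.Ind ⇑Q β)
    (hreg : RegO p F (ι → F)) : Meet p (POmega F ⇑Q) := by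
  classical
  have hp2 : p ≠ 2 := by omega
  have hpodd : Odd p := hp.out.odd_of_ne_two hp2
  have hQ : Nondeg Q := hG.nondeg
  haveI := isSimple hG
  haveI : Finite (POmega F ⇑Q) := inferInstance
  have hinj := conj_injective (not_comm hG)
  haveI : Nontrivial (ι → F) := Module.nontrivial_of_finrank_pos (R := F) (by have := hG.dim; omega)
  obtain ⟨P⟩ : Nonempty (Sylow p (MulAut (POmega F ⇑Q))) := inferInstance
  apply meet_of_sylow P
  let R : Subgroup (POmega F ⇑Q) := (P : Subgroup (MulAut (POmega F ⇑Q))).comap MulAut.conj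
  have hRp : IsPGroup p R := P.2.comap_of_injective _ hinj
  have hnorm : ((MulAut.conj : POmega F ⇑Q →* MulAut (POmega F ⇑Q)).range).Normal := ⟨by
    rintro _ ⟨t, rfl⟩ g
    exact ⟨g t, (conj_apply_aut g t).symm⟩⟩
  have hRi : ¬ p ∣ R.index := by
    have h1 : R.index = (P : Subgroup (MulAut (POmega F ⇑Q))).relIndex
        (MulAut.conj : POmega F ⇑Q →* MulAut (POmega F ⇑Q)).range := Subgroup.index_comap _ _
    rw [h1, relIndex_sup_of_normal]
    intro h2
    exact P.not_dvd_index (h2.trans (Subgroup.relIndex_dvd_index_of_le le_sup_left))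
  obtain ⟨S, hS, hSi, hSR, hRS⟩ := sylow_lift hRp hRi
  obtain ⟨x₀, hx₀⟩ := part1 hp2 hG hreg hS hSi
  -- elements of `S` are determined by their projection
  have huniqS : ∀ s s' : ↥(Omega F ⇑Q), (∃ k, s ^ p ^ k = 1) → (∃ k, s' ^ p ^ k = 1) → proj ⇑Q s = proj ⇑Q s' →
      s = s' := by
    rintro s s' ⟨k, hk⟩ ⟨k', hk'⟩ h
    refine eq_of_proj hG h (N := p ^ (k + k')) hpodd.pow ?_ ?_
    · rw [pow_add, pow_mul, hk, one_pow]
    · rw [pow_add, mul_comm, pow_mul, hk', one_pow]
  have hSpow : ∀ s ∈ S, ∃ k, s ^ p ^ k = 1 := by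
    intro s hs
    obtain ⟨k, hk⟩ := hS ⟨s, hs⟩
    exact ⟨k, congrArg Subtype.val hk⟩
  -- lifts of the elements of `P`
  have hlift : ∀ β : (P : Subgroup (MulAut (POmega F ⇑Q))), ∃ (y : Equiv.Perm (ι → F)) (θ : F ≃+* F) (c : F), c ≠ 0 ∧
      Semi F y θ ∧ (∀ v, Q (y v) = c * θ (Q v)) ∧ H903.SylSemi.Ind (proj ⇑Q) (rho ⇑Q) y β := by
    intro β
    obtain ⟨y, ⟨θ, c, hc, hs, hf⟩, hi⟩ := exists_of_ind hG (hall _ P.2 β β.2)
    exact ⟨y, θ, c, hc, hs, hf, hi⟩
  choose yf θf cf hcf hsemi hform hind using hlift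
  have hGam : ∀ β, yf β ∈ ClassicalGeometry.OrthSemi.Gam Q := fun β =>
    mem_gam_iff.2 ⟨θf β, cf β, hcf β, hsemi β, hform β⟩
  let χ : (P : Subgroup (MulAut (POmega F ⇑Q))) →* RingAut F := MonoidHom.mk' (fun β => (θf β : RingAut F)) (by
    intro β β'
    have h1 : H903.SylSemi.Ind (proj ⇑Q) (rho ⇑Q) (yf (β * β') * (yf β * yf β')⁻¹) 1 := by
      have h2 := (hind (β * β')).mul ((hind β).mul (hind β')).inv
      rwa [Subgroup.coe_mul, mul_inv_cancel] at h2
    obtain ⟨a, ha⟩ := unique hG (mem_gam_iff.1 (mul_mem (hGam _) (inv_mem (mul_mem (hGam _) (hGam _))))) h1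
    rw [mul_inv_eq_iff_eq_mul] at ha
    have h3 := semi_mul (semi_scal (V := ι → F) a) (semi_mul (hsemi β) (hsemi β'))
    rw [← ha, one_mul] at h3
    exact semi_unique (hsemi (β * β')) h3)
  have hχθ : ∀ β, χ β = (θf β : RingAut F) := fun _ => rfl
  have hχ : ∀ y : (P : Subgroup (MulAut (POmega F ⇑Q))), χ y = 1 →
      ∃ t : POmega F ⇑Q, MulAut.conj t = (y : MulAut (POmega F ⇑Q)) := by
    intro β hβ
    rw [hχθ] at hβ
    have h1 := hsemi β
    have h2 := hform β
    rw [hβ] at h1 h2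
    obtain ⟨k, hk⟩ := P.2 β
    exact inner_of_linear hG (hcf β) h1 h2 (hind β) (N := p ^ k) hpodd.pow (congrArg Subtype.val hk)
  haveI := isCyclic_ringAut F
  haveI : Finite (RingAut F) := DFunLike.finite _
  refine good_of_fk hinj (P : Subgroup (MulAut (POmega F ⇑Q))) P.2 R (fun t => Iff.rfl) hRi χ hχ
    ⟨proj ⇑Q x₀, fun t ht hxt => ?_⟩ ?_
  · obtain ⟨s, hs, rfl⟩ := hRS t ht
    obtain ⟨s', hs', hss'⟩ := hRS _ hxt
    have h1 : s' = x₀ * s * x₀⁻¹ := by
      refine huniqS _ _ (hSpow _ hs') ?_ (by rw [hss', map_mul, map_mul, map_inv])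
      obtain ⟨k, hk⟩ := hSpow _ hs
      refine ⟨k, ?_⟩
      rw [conj_pow, hk]
      group
    rw [hx₀ s hs (h1 ▸ hs'), map_one]
  · intro β hβ hβp hβout
    -- the companion has order `p`
    have hθ1 : χ ⟨β, hβ⟩ ≠ 1 := by
      intro h
      obtain ⟨t, ht⟩ := hχ _ h
      exact hβout t ht
    have hθp : orderOf (χ ⟨β, hβ⟩) = p := by
      refine orderOf_eq_prime ?_ hθ1
      rw [← map_pow]
      convert map_one χ
      apply Subtype.ext
      change β ^ p = 1
      rw [← hβp]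
      exact pow_orderOf_eq_one β
    by_cases hR : R = ⊥
    · -- `p` does not divide the order
      have hβ1 : β ≠ 1 := by
        rintro rfl
        rw [orderOf_one] at hβp
        exact hp.out.one_lt.ne hβp
      obtain ⟨a, ha⟩ : ∃ a, β a ≠ a := by
        by_contra hcon
        push Not at hcon
        exact hβ1 (MulEquiv.ext hcon)
      refine ⟨a, fun r hr => ?_, fun hd => ?_, ha⟩
      · rw [hR, Subgroup.mem_bot] at hr
        rw [hr, mul_one, one_mul]
      · rw [hR, Subgroup.index_bot] at hRi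
        exact hRi (hd.trans (orderOf_dvd_natCard a))
    · -- a fixed point of `P` on `R`
      have hPR : ∀ y ∈ P, ∀ r ∈ R, y r ∈ R := by
        intro y hy r hr
        change MulAut.conj (y r) ∈ P
        rw [← conj_apply_aut]
        exact P.mul_mem (P.mul_mem hy hr) (P.inv_mem hy)
      obtain ⟨b, hbR, hb1', hbfix⟩ := exists_fixed P.2 hRp hR hPR
      -- its lift, of order `p`
      obtain ⟨z₀, hz₀S, hz₀b⟩ := hRS _ hbR
      obtain ⟨k, hk⟩ := hSpow _ hz₀S
      have hz₀1 : z₀ ≠ 1 := by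
        rintro rfl
        exact hb1' (by rw [← hz₀b, map_one])
      obtain ⟨m, hzp, hz1⟩ := exists_pow_order hp.out hz₀1 hk
      obtain ⟨z, hzdef⟩ : ∃ z, z = z₀ ^ m := ⟨_, rfl⟩
      rw [← hzdef] at hzp hz1
      have hzfix : ∀ y ∈ P, y (proj ⇑Q z) = proj ⇑Q z := by
        intro y hy
        rw [hzdef, map_pow, map_pow, hz₀b, hbfix y hy]
      let zL : Module.End F (ι → F) := (lin hG z : (ι → F) →ₗ[F] (ι → F))
      have hzL : ∀ v, zL v = rho ⇑Q z v := fun _ => rfl
      have hzLn : ∀ (n : ℕ) (v : ι → F), (zL ^ n) v = rho ⇑Q (z ^ n) v := by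
        intro n
        induction n with
        | zero => intro v; rw [pow_zero, pow_zero, map_one]; rfl
        | succ n ih => intro v; rw [pow_succ, pow_succ, Module.End.mul_apply, ih, map_mul]; rfl
      have hzLp : zL ^ p = 1 := by
        refine LinearMap.ext fun v => ?_
        rw [hzLn, hzp, map_one]
        rfl
      have hzL1 : zL ≠ 1 := by
        intro h
        apply hz1
        apply rho_injective ⇑Q
        ext v : 1
        rw [← hzL, h, map_one]
        rfl
      have hzQ : ∀ v, Q (zL v) = Q v := fun v => by rw [hzL, rho_eq_act, map_act]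
      obtain ⟨G, s, hs, hs2, hsp, hGs, hGG, hG1, hGθ⟩ := exists_poly hp5 hpF (θ := θf ⟨β, hβ⟩) hθp hzLp hzL1
      -- the element `a`
      have haQ : ∀ v, Q (Polynomial.aeval zL G v) = Q v :=
        isometry_aeval Q hp.out.pos hpF hzLp hzQ hGG hG1
      have hsodd : Odd s := hs.odd_of_ne_two hs2
      obtain ⟨a, ha⟩ := exists_omega_elt Q hQ (card_ge hG) (LinearEquiv.refl F (ι → F)) (Q' := ⇑Q) (fun _ => rfl)
        (T := Polynomial.aeval zL G) haQ hsodd hGs
      have ha' : ∀ v, rho ⇑Q a v = Polynomial.aeval zL G v := ha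
      have hpowa : ∀ (n : ℕ) (v : ι → F), rho ⇑Q (a ^ n) v = ((Polynomial.aeval zL G) ^ n) v := by
        intro n
        induction n with
        | zero => intro v; rw [pow_zero, pow_zero, map_one]; rfl
        | succ n ih => intro v; rw [pow_succ, pow_succ, Module.End.mul_apply, map_mul, Equiv.Perm.mul_apply, ih, ha']
      have has : a ^ s = 1 := by
        apply rho_injective ⇑Q
        ext v : 1
        rw [hpowa, hGs, map_one]
        rfl
      refine ⟨proj ⇑Q a, fun r hr => ?_, fun hd => ?_, fun hcon => ?_⟩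
      · obtain ⟨r', hr'S, rfl⟩ := hRS r hr
        -- `r'` commutes with `z`
        have h1 : r' * z * r'⁻¹ = z := by
          refine huniqS _ _ ⟨1, ?_⟩ ⟨1, by rw [pow_one, hzp]⟩ ?_
          · rw [pow_one, conj_pow, hzp]
            group
          · rw [map_mul, map_mul, map_inv]
            have h2 := hzfix _ hr
            rw [MulAut.conj_apply] at h2
            exact h2
        have h2 : r' * z = z * r' := by
          nth_rw 2 [← h1]
          group
        have h3 : ∀ v, rho ⇑Q r' (zL v) = zL (rho ⇑Q r' v) := by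
          intro v
          rw [hzL, hzL, ← Equiv.Perm.mul_apply, ← Equiv.Perm.mul_apply, ← map_mul, ← map_mul, h2]
        have h4 : ∀ v, rho ⇑Q r' (Polynomial.aeval zL G v) = Polynomial.aeval zL G (rho ⇑Q r' v) := by
          intro v
          have h5 := semi_aeval (z := zL) (θ := RingEquiv.refl F) (y := rho ⇑Q r')
            (fun u v => by rw [rho_apply, rho_apply, rho_apply, Matrix.mulVec_add])
            (fun a v => by rw [rho_apply, rho_apply, Matrix.mulVec_smul]; rfl) h3 G v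
          rw [h5]
          congr 2
          exact Polynomial.map_id
        have h5 : a * r' = r' * a := by
          apply rho_injective ⇑Q
          ext v : 1
          rw [map_mul, map_mul, Equiv.Perm.mul_apply, Equiv.Perm.mul_apply, ha', ha', h4]
        rw [← map_mul, ← map_mul, h5]
      · have h1 : orderOf (proj ⇑Q a) ∣ s := orderOf_dvd_of_pow_eq_one (by rw [← map_pow, has, map_one])
        exact hsp ((Nat.prime_dvd_prime_iff_eq hp.out hs).1 (hd.trans h1)).symm
      · -- `y` the lift of `β`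
        set y := yf ⟨β, hβ⟩ with hy
        -- `y` commutes with `z`
        obtain ⟨z', hz', hz'2⟩ := hind ⟨β, hβ⟩ z
        have hz'z : z' = z := by
          refine huniqS _ _ ⟨1, ?_⟩ ⟨1, by rw [pow_one, hzp]⟩ ?_
          · apply rho_injective ⇑Q
            rw [pow_one, map_pow, hz', conj_pow, ← map_pow, hzp, map_one]
            group
          · rw [← hz'2]
            exact hzfix β hβ
        have hyz : ∀ v, y (zL v) = zL (y v) := by
          intro v
          have h1 : rho ⇑Q z * y = y * rho ⇑Q z := by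
            rw [hz'z, eq_mul_inv_iff_mul_eq] at hz'
            exact hz'
          rw [hzL, hzL, ← Equiv.Perm.mul_apply, ← Equiv.Perm.mul_apply, h1]
        obtain ⟨a', ha'1, ha'2⟩ := hind ⟨β, hβ⟩ a
        have haa : a' = a := by
          refine eq_of_proj hG ?_ hsodd ?_ has
          · rw [← ha'2]
            exact hcon
          · apply rho_injective ⇑Q
            rw [map_pow, ha'1, conj_pow, ← map_pow, has, map_one]
            group
        apply hGθ
        refine LinearMap.ext fun v => ?_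
        obtain ⟨u, rfl⟩ := y.surjective v
        have h1 := semi_aeval (z := zL) (θ := θf ⟨β, hβ⟩) (y := y) (hsemi ⟨β, hβ⟩).1 (hsemi ⟨β, hβ⟩).2 hyz G u
        rw [← h1, ← ha', ← ha']
        have h2 : y * rho ⇑Q a = rho ⇑Q a * y := by
          rw [haa, eq_mul_inv_iff_mul_eq] at ha'1
          exact ha'1.symm
        rw [← Equiv.Perm.mul_apply, ← Equiv.Perm.mul_apply, h2]

section rows

open Cfsg.Agent.LieClassical.QuadForms

variable {p m : ℕ} [hp : Fact p.Prime] {F : Type*} [Field F]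

/-- Task 612, plus type. -/
theorem meet_POmega_plus_cross [Finite F] (hp5 : 5 ≤ p) (hpF : (p : F) ≠ 0) (hm : 4 ≤ m)
    (hreg : RegO p F (Fin m ⊕ Fin m → F)) : Meet p (POmega F (quadFormPlus m F)) := by
  have h1 : ∀ P : Subgroup (MulAut (POmega F (quadFormPlus m F))), IsPGroup p P → ∀ β ∈ P,
    AutOrth.Main.Ind (quadFormPlus m F) β := fun P hP => ind_plus hp5 hm hP
  revert h1
  rw [← coe_plusForm]
  intro h1
  exact meet_cross hp5 hpF (good_plus (by omega)) h1 hreg

/-- Task 612, minus type. -/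
theorem meet_POmega_minus_cross [Finite F] (hp5 : 5 ≤ p) (hpF : (p : F) ≠ 0) (hm : 3 ≤ m) (a b : F)
    (hab : ∀ z₁ z₂ : F, z₁ ^ 2 + a * z₁ * z₂ + b * z₂ ^ 2 = 0 → z₁ = 0 ∧ z₂ = 0)
    (hreg : RegO p F ((Fin m ⊕ Fin m) ⊕ Fin 2 → F)) :
    Meet p (POmega F (quadFormMinus m F a b)) := by
  have h1 : ∀ P : Subgroup (MulAut (POmega F (quadFormMinus m F a b))), IsPGroup p P → ∀ β ∈ P,
    AutOrth.Main.Ind (quadFormMinus m F a b) β := fun _ _ β _ => all_minus hm hab β
  revert h1
  rw [← coe_minusForm]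
  intro h1
  exact meet_cross hp5 hpF (good_minus (by omega) hab) h1 hreg

/-- Task 612, odd dimension. -/
theorem meet_POmega_odd_cross [Fintype F] (hp5 : 5 ≤ p) (hpF : (p : F) ≠ 0) (hm : 3 ≤ m)
    (ho : Odd (Fintype.card F)) (hreg : RegO p F (Unit ⊕ (Fin m ⊕ Fin m) → F)) :
    Meet p (POmega F (quadFormOdd m F)) := by
  have h2 : (2 : F) ≠ 0 := LieClassical.PomegaCard.odd_card_iff.1 ho
  have h1 : ∀ P : Subgroup (MulAut (POmega F (quadFormOdd m F))), IsPGroup p P → ∀ β ∈ P,
    AutOrth.Main.Ind (quadFormOdd m F) β := fun _ _ β _ => all_odd hm h2 β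
  revert h1
  rw [← coe_oddForm]
  intro h1
  exact meet_cross hp5 hpF (good_odd (by omega) h2) h1 hreg

end rows

end Cfsg.Agent.H579.Mpo
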