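/-
Reduction for finite groups whose maximal subgroups have a normal `p`-complement or prime index.
-/
import Cfsg.Agent.S0117
import Cfsg.Agent.Transfer.PNilpotentBasic
import Cfsg.Agent.PLocal.PSolvable
import Cfsg.Agent.Lib.PSolvable
import Cfsg.Agent.OddOrderLocal.NilpotentQuotient
import Cfsg.Agent.SolvableStructure.Schmidt

set_option autoImplicit false

namespace Cfsg.Agent.H579.MaxPNilRed

open Cfsg Subgroup Cfsg.Agent.Transfer.PNilpotentBasic

/-- The hypothesis. -/
def Hyp (p : ℕ) (Q : Type*) [Group Q] : Prop :=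
  ∀ M : Subgroup Q, IsCoatom M → HasNormalPComplement p M ∨ M.index.Prime

/-- No nontrivial normal `p`-solvable subgroups. -/
def Rad (p : ℕ) (Q : Type*) [Group Q] : Prop :=
  ∀ N : Subgroup Q, N.Normal → IsPSolvable p N → N = ⊥

theorem isPSolvable_of_hnc {K : Type*} [Group K] [Finite K] {p : ℕ} [hp : Fact p.Prime]
    (h : HasNormalPComplement p K) : IsPSolvable p K := by
  obtain ⟨N, hN, h1, k, h2⟩ :=
    Cfsg.Agent.OddOrderLocal.NilpotentQuotient.exists_of_hasNormalPComplement h
  refine Cfsg.Agent.Lib.PSolvable.IsPSolvable_of_quotient p N (Or.inr ?_) ?_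
  · exact ((Nat.Prime.coprime_iff_not_dvd hp.out).2 h1).symm
  · refine Cfsg.Agent.PLocal.PSolvable.isPSolvable_of_isPGroup ?_
    exact IsPGroup.of_card (n := k) (by rw [← Subgroup.index_eq_card]; exact h2)

/-- The hypothesis on maximal subgroups passes to quotients. -/
theorem hyp_quotient {G : Type*} [Group G] [Finite G] {p : ℕ} [hp : Fact p.Prime]
    (hmax : ∀ M : Subgroup G, IsCoatom M → (∃ K : Subgroup ↥M, K.Normal ∧ ¬ p ∣ Nat.card K ∧
      ∃ k : ℕ, K.index = p ^ k) ∨ (M.index).Prime) (S : Subgroup G) [S.Normal] :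
    Hyp p (G ⧸ S) := by
  intro M hM
  set π := QuotientGroup.mk' S with hπ
  have hs : Function.Surjective π := QuotientGroup.mk'_surjective S
  have hc : IsCoatom (M.comap π) := by
    refine ⟨fun h => hM.1 ?_, fun B hB => ?_⟩
    · rw [← Subgroup.map_comap_eq_self_of_surjective hs M, h,
        Subgroup.map_top_of_surjective π hs]
    · have h1 : π.ker ≤ B := (Subgroup.ker_le_comap π M).trans hB.le
      have h2 : (B.map π).comap π = B := Subgroup.comap_map_eq_self h1
      have h3 : M < B.map π := by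
        rw [← h2] at hB
        exact (Subgroup.comap_lt_comap_of_surjective hs).1 hB
      rw [← h2, hM.2 _ h3, Subgroup.comap_top]
  rcases hmax _ hc with ⟨K, hK, h1, k, h2⟩ | h
  · left
    have h3 : HasNormalPComplement p (M.comap π) :=
      Cfsg.Agent.OddOrderLocal.NilpotentQuotient.hasNormalPComplement_of_index K hK h1 h2
    have h4 := hnc_map π (M.comap π) h3
    rwa [Subgroup.map_comap_eq_self_of_surjective hs] at h4
  · right
    rwa [Subgroup.index_comap_of_surjective M hs] at h

/-- The radical condition for the quotient by the largest normal `p`-solvable subgroup. -/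
theorem rad_quotient {G : Type*} [Group G] [Finite G] {p : ℕ} [hp : Fact p.Prime]
    (S : Subgroup G) [S.Normal] (hS : IsPSolvable p S)
    (hSmax : ∀ N : Subgroup G, N.Normal → IsPSolvable p N → N ≤ S) : Rad p (G ⧸ S) := by
  intro N hN hNs
  set π := QuotientGroup.mk' S with hπ
  have hs : Function.Surjective π := QuotientGroup.mk'_surjective S
  have hk : π.ker = S := QuotientGroup.ker_mk' S
  have hSN : S ≤ N.comap π := hk.symm.le.trans (Subgroup.ker_le_comap π N)
  have h1 : IsPSolvable p (N.comap π) := by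
    have hn : (S.subgroupOf (N.comap π)).Normal := inferInstance
    refine Cfsg.Agent.Lib.PSolvable.IsPSolvable_of_extension p (S.subgroupOf (N.comap π)) ?_ ?_
    · exact (Cfsg.Agent.PLocal.PSolvable.isPSolvable_congr
        (Subgroup.subgroupOfEquivOfLe hSN)).2 hS
    · -- the quotient embeds into `N`
      let f : N.comap π →* N := π.subgroupComap N
      have hf : Function.Surjective f := by
        rintro ⟨n, hn⟩
        obtain ⟨g, hg⟩ := hs n
        exact ⟨⟨g, by rw [Subgroup.mem_comap, hg]; exact hn⟩, Subtype.ext hg⟩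
      have hker : f.ker = S.subgroupOf (N.comap π) := by
        ext x
        rw [MonoidHom.mem_ker, Subgroup.mem_subgroupOf]
        constructor
        · intro h
          have h0 : π x = 1 := congrArg Subtype.val h
          exact hk.le (MonoidHom.mem_ker.2 h0)
        · intro h
          apply Subtype.ext
          exact MonoidHom.mem_ker.1 (hk.symm.le h)
      have e1 := QuotientGroup.quotientKerEquivOfSurjective f hf
      have e2 := QuotientGroup.quotientMulEquivOfEq hker
      exact (Cfsg.Agent.PLocal.PSolvable.isPSolvable_congr (e2.symm.trans e1)).2 hNs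
  have h2 : N.comap π ≤ S := hSmax _ (hN.comap π) h1
  rw [← Subgroup.map_comap_eq_self_of_surjective hs N, Subgroup.map_eq_bot_iff, hk]
  exact h2

variable {Q : Type*} [Group Q] [Finite Q] {p : ℕ} [hp : Fact p.Prime]

/-- A nontrivial finite group has a minimal normal subgroup. -/
theorem exists_minimal_normal [Nontrivial Q] :
    ∃ N : Subgroup Q, N.Normal ∧ N ≠ ⊥ ∧ ∀ A : Subgroup Q, A.Normal → A ≤ N → A ≠ ⊥ → A = N := by
  obtain ⟨N, ⟨hN1, hN2⟩, hN3⟩ := Set.Finite.exists_minimal (s := {N : Subgroup Q | N.Normal ∧ N ≠ ⊥})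
    (Set.toFinite _) ⟨⊤, inferInstance, top_ne_bot⟩
  exact ⟨N, hN1, hN2, fun A hA hAN hA1 => le_antisymm hAN (hN3 ⟨hA, hA1⟩ hAN)⟩

omit [Finite Q] in
/-- `p` divides the order of a nontrivial normal subgroup. -/
theorem dvd_card (hrad : Rad p Q) {N : Subgroup Q} (hN : N.Normal) (hN1 : N ≠ ⊥) :
    p ∣ Nat.card N := by
  by_contra h
  apply hN1
  apply hrad N hN
  exact Cfsg.Agent.PLocal.PSolvable.isPSolvable_of_coprime
    ((Nat.Prime.coprime_iff_not_dvd hp.out).2 h).symm

theorem not_hnc (hrad : Rad p Q) {N : Subgroup Q} (hN : N.Normal) (hN1 : N ≠ ⊥) :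
    ¬ HasNormalPComplement p N := fun h => hN1 (hrad N hN (isPSolvable_of_hnc h))

/-- A proper subgroup is contained in a maximal one. -/
theorem exists_coatom {L : Subgroup Q} (hL : L ≠ ⊤) : ∃ M : Subgroup Q, IsCoatom M ∧ L ≤ M := by
  rcases eq_top_or_exists_le_coatom L with h | h
  · exact absurd h hL
  · exact h

/-- The index of a supplement. -/
theorem index_eq_relIndex {M N : Subgroup Q} [hN : N.Normal] (h : N ⊔ M = ⊤) :
    M.index = M.relIndex N := by
  have h1 : N.relIndex M = N.index := by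
    rw [← Subgroup.relIndex_top_right, ← h, Subgroup.relIndex_sup_left]
  have h2 : (M ⊓ N).relIndex N * N.index = (M ⊓ N).index :=
    Subgroup.relIndex_mul_index inf_le_right
  have h3 : (M ⊓ N).relIndex M * M.index = (M ⊓ N).index :=
    Subgroup.relIndex_mul_index inf_le_left
  rw [Subgroup.inf_relIndex_right] at h2
  rw [Subgroup.inf_relIndex_left, h1] at h3
  have h4 : N.index ≠ 0 := Subgroup.index_ne_zero_of_finite
  refine Nat.eq_of_mul_eq_mul_left (Nat.pos_of_ne_zero h4) ?_
  rw [h3, ← h2, mul_comm]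

omit [Finite Q] hp in
theorem normalizer_map_le {U : Subgroup Q} :
    normalizer (U : Set Q) ≤ normalizer (centerThompsonOf p U : Set Q) := by
  intro g hg
  rw [Subgroup.mem_normalizer_iff_map_conj_eq] at hg ⊢
  rw [Cfsg.Agent.S0117.map_centerThompsonOf p _ U (MulAut.conj g).injective.injOn]
  exact congrArg _ hg

/-- Step 2: a maximal subgroup of prime index `≠ p` supplementing `N`. -/
theorem exists_prime_index (hp2 : p ≠ 2) (hmax : Hyp p Q) (hrad : Rad p Q) {N : Subgroup Q}
    [hN : N.Normal] (hN1 : N ≠ ⊥) :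
    ∃ M : Subgroup Q, IsCoatom M ∧ ¬ N ≤ M ∧ M.index.Prime ∧ M.index ≠ p := by
  obtain ⟨P⟩ : Nonempty (Sylow p N) := inferInstance
  set P' : Subgroup Q := (P : Subgroup N).map N.subtype with hP'
  set Z' : Subgroup Q := centerThompsonOf p P' with hZ'
  set Z : Subgroup N := centerThompsonOf p (P : Subgroup N) with hZ
  have hmapZ : Z.map N.subtype = Z' :=
    Cfsg.Agent.S0117.map_centerThompsonOf p N.subtype P N.subtype_injective.injOn
  have hpN : p ∣ Nat.card N := dvd_card hrad hN hN1
  have hP1 : (P : Subgroup N) ≠ ⊥ := by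
    intro h
    exact P.ne_bot_of_dvd_card hpN h
  have hZ1 : Z ≠ ⊥ := Cfsg.Agent.S0117.centerThompsonOf_ne_bot P.isPGroup' hP1
  have hZ'1 : Z' ≠ ⊥ := by
    rw [← hmapZ]
    intro h
    exact hZ1 ((Subgroup.map_eq_bot_iff_of_injective Z N.subtype_injective).1 h)
  have hZ'p : IsPGroup p Z' := by
    rw [← hmapZ]
    exact (P.isPGroup'.to_le (Cfsg.Agent.S0117.centerThompsonOf_le p _)).map N.subtype
  have hfr : normalizer (P' : Set Q) ⊔ N = ⊤ := Sylow.normalizer_sup_eq_top P
  have hle : normalizer (P' : Set Q) ≤ normalizer (Z' : Set Q) := normalizer_map_le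
  have hsup : normalizer (Z' : Set Q) ⊔ N = ⊤ :=
    top_le_iff.1 (hfr.symm.le.trans (sup_le_sup_right hle N))
  have hL : normalizer (Z' : Set Q) ≠ ⊤ := by
    intro h
    have hZn : Z'.Normal := Subgroup.normalizer_eq_top_iff.1 h
    exact hZ'1 (hrad Z' hZn (Cfsg.Agent.PLocal.PSolvable.isPSolvable_of_isPGroup hZ'p))
  obtain ⟨M, hM, hLM⟩ := exists_coatom hL
  have hNM : ¬ N ≤ M := by
    intro h
    exact hM.1 (top_le_iff.1 (hsup.symm.le.trans (sup_le hLM h)))
  have hNM' : N ⊔ M = ⊤ := by
    rw [sup_comm]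
    exact hM.2 _ (left_lt_sup.2 hNM)
  have hnot : ¬ HasNormalPComplement p M := by
    intro h
    apply not_hnc hrad hN hN1
    rw [Cfsg.Agent.S0117.result hp2 P]
    refine hnc_of_map_le N.subtype N.subtype_injective _ M ?_ h
    refine le_trans ?_ hLM
    rintro _ ⟨g, hg, rfl⟩
    rw [SetLike.mem_coe, Subgroup.mem_normalizer_iff_map_conj_eq] at hg
    rw [Subgroup.mem_normalizer_iff_map_conj_eq]
    change Z.map _ = Z at hg
    rw [← hmapZ, Subgroup.map_map]
    conv_rhs => rw [← hg, Subgroup.map_map]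
    congr 1
  have hidx := (hmax M hM).resolve_left hnot
  refine ⟨M, hM, hNM, hidx, ?_⟩
  intro h
  have h1 : M.index = M.relIndex N := index_eq_relIndex hNM'
  have h2 : P' ≤ M ⊓ N := le_inf (Subgroup.le_normalizer.trans (hle.trans hLM))
    (Subgroup.map_subtype_le _)
  have h3 : (M ⊓ N).relIndex N ∣ P'.relIndex N := Subgroup.relIndex_dvd_of_le_left N h2
  rw [Subgroup.inf_relIndex_right, ← h1, h] at h3
  have h4 : P'.relIndex N = (P : Subgroup N).index := by
    rw [Subgroup.relIndex, Subgroup.subgroupOf, hP',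
      Subgroup.comap_map_eq_self_of_injective N.subtype_injective]
  rw [h4] at h3
  exact P.not_dvd_index h3

/-- If a group with trivial core intersection acts on the cosets of a subgroup of index `r`, its
order divides `r!`. -/
theorem card_dvd_factorial {N M : Subgroup Q} (h : N ⊓ M.normalCore = ⊥) :
    Nat.card N ∣ (M.index).factorial := by
  have h1 : Nat.card (Equiv.Perm (Q ⧸ M)) = (M.index).factorial := by
    rw [Nat.card_perm, Subgroup.index]
  rw [← h1]
  let f : N →* Equiv.Perm (Q ⧸ M) := (MulAction.toPermHom Q (Q ⧸ M)).comp N.subtype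
  have hf : Function.Injective f := by
    rw [injective_iff_map_eq_one]
    intro x hx
    have h2 : (x : Q) ∈ M.normalCore := by
      rw [Subgroup.normalCore_eq_ker]
      exact hx
    have h3 : (x : Q) ∈ N ⊓ M.normalCore := ⟨x.2, h2⟩
    rw [h, Subgroup.mem_bot] at h3
    exact Subtype.ext h3
  exact Subgroup.card_dvd_of_injective f hf

/-- The structure of the minimal normal subgroup. -/
structure Red (p : ℕ) (Q : Type*) [Group Q] (N : Subgroup Q) (r : ℕ) : Prop where
  normal : N.Normal
  simple : IsSimpleGroup N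
  cent : centralizer (N : Set Q) = ⊥
  notComm : ¬ ∀ a b : N, a * b = b * a
  dvd : p ∣ Nat.card N
  prime : r.Prime
  ne : r ≠ p
  rdvd : r ∣ Nat.card N
  max : ∀ M : Subgroup Q, IsCoatom M → ¬ N ≤ M → HasNormalPComplement p M ∨ M.index = r
  ex : ∃ M : Subgroup Q, IsCoatom M ∧ ¬ N ≤ M ∧ M.index = r

theorem prime_index_unique {N : Subgroup Q} [hN : N.Normal]
    (hmin : ∀ A : Subgroup Q, A.Normal → A ≤ N → A ≠ ⊥ → A = N) {M M' : Subgroup Q}
    (hM : IsCoatom M) (hNM : ¬ N ≤ M) (hi : M.index.Prime) (hM' : IsCoatom M') (hNM' : ¬ N ≤ M')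
    (hi' : M'.index.Prime) : M.index = M'.index := by
  have key : ∀ {M M' : Subgroup Q}, IsCoatom M → ¬ N ≤ M → M.index.Prime → IsCoatom M' →
      ¬ N ≤ M' → M'.index.Prime → M.index ≤ M'.index := by
    intro M M' hM hNM hi hM' hNM' hi'
    have h1 : N ⊔ M = ⊤ := by
      rw [sup_comm]
      exact hM.2 _ (left_lt_sup.2 hNM)
    have h2 : M.index = M.relIndex N := index_eq_relIndex h1
    have h3 : M.index ∣ Nat.card N := h2.dvd.trans (Subgroup.relIndex_dvd_card M N)
    have h4 : N ⊓ M'.normalCore = ⊥ := by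
      by_contra hne
      have h5 : N ⊓ M'.normalCore = N := hmin _ inferInstance inf_le_left hne
      exact hNM' ((inf_eq_left.1 h5).trans (Subgroup.normalCore_le M'))
    have h5 := h3.trans (card_dvd_factorial h4)
    exact (Nat.Prime.dvd_factorial hi).1 h5
  exact le_antisymm (key hM hNM hi hM' hNM' hi') (key hM' hNM' hi' hM hNM hi)

/-- The minimal normal subgroup is simple. -/
theorem isSimple {N : Subgroup Q} [hN : N.Normal] (hN1 : N ≠ ⊥)
    (hmin : ∀ A : Subgroup Q, A.Normal → A ≤ N → A ≠ ⊥ → A = N) {M : Subgroup Q}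
    (hM : IsCoatom M) (hNM : ¬ N ≤ M) (hi : M.index.Prime) : IsSimpleGroup N := by
  have h1 : N ⊔ M = ⊤ := by
    rw [sup_comm]
    exact hM.2 _ (left_lt_sup.2 hNM)
  have h2 : M.index = M.relIndex N := index_eq_relIndex h1
  have h4 : N ⊓ M.normalCore = ⊥ := by
    by_contra hne
    have h5 : N ⊓ M.normalCore = N := hmin _ inferInstance inf_le_left hne
    exact hNM ((inf_eq_left.1 h5).trans (Subgroup.normalCore_le M))
  have hfac := card_dvd_factorial h4
  set r := M.index with hr
  have hr2 : ¬ r ^ 2 ∣ Nat.card N := by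
    intro h
    have h5 := h.trans hfac
    have h6 : r.factorial = r * (r - 1).factorial := by
      rw [Nat.mul_factorial_pred hi.ne_zero]
    rw [h6, pow_two] at h5
    have h7 : r ∣ (r - 1).factorial := Nat.dvd_of_mul_dvd_mul_left hi.pos h5
    have h8 := (Nat.Prime.dvd_factorial hi).1 h7
    have := hi.pos
    omega
  -- nontrivial subgroups of `N` normalized by `N` have order divisible by `r`
  have hdvd : ∀ A : Subgroup Q, A ≤ N → N ≤ normalizer (A : Set Q) → A ≠ ⊥ → r ∣ Nat.card A := by
    intro A hAN hNA hA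
    -- consider `H = M ⊓ N`, of prime index `r` in `N`
    set H := M.subgroupOf N with hH
    have hHi : H.index = r := h2.symm
    have hHc : IsCoatom H := by
      refine ⟨fun h => ?_, fun B hB => ?_⟩
      · rw [h, Subgroup.index_top] at hHi
        exact hi.one_lt.ne hHi
      · have h5 : H.relIndex B * B.index = H.index := Subgroup.relIndex_mul_index hB.le
        have h6 : B.index ∣ r := hHi ▸ Dvd.intro_left _ h5
        rcases (Nat.dvd_prime hi).1 h6 with h7 | h7
        · exact Subgroup.index_eq_one.1 h7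
        · exfalso
          rw [h7, hHi] at h5
          have h8 : H.relIndex B = 1 := by
            have := hi.pos
            nlinarith
          exact hB.not_ge (Subgroup.relIndex_eq_one.1 h8)
    have hAn : (A.subgroupOf N).Normal := by
      rw [← Subgroup.normalizer_eq_top_iff, ← top_le_iff]
      intro x _
      rw [Subgroup.mem_normalizer_iff]
      intro y
      have := Subgroup.mem_normalizer_iff.1 (hNA x.2) (y : Q)
      rw [Subgroup.mem_subgroupOf, Subgroup.mem_subgroupOf]
      exact this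
    by_cases hAH : A.subgroupOf N ≤ H
    · -- then `A` lies in the core of `H`, which is trivial
      exfalso
      apply hA
      -- `A ≤ M`, `A` normal in `N`
      have hAM : A ≤ M := by
        intro a ha
        have : (⟨a, hAN ha⟩ : N) ∈ A.subgroupOf N := ha
        exact hAH this
      have hcore : A ≤ M.normalCore := by
        intro a ha g
        -- `g = m * n`
        have hg : g ∈ N ⊔ M := h1 ▸ Subgroup.mem_top g
        rw [sup_comm] at hg
        obtain ⟨m, hm, n, hn, rfl⟩ := Subgroup.mem_sup_of_normal_right.1 hg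
        have h5 : n * a * n⁻¹ ∈ A := (Subgroup.mem_normalizer_iff.1 (hNA hn) a).1 ha
        have h6 : m * (n * a * n⁻¹) * m⁻¹ ∈ M := M.mul_mem (M.mul_mem hm (hAM h5)) (M.inv_mem hm)
        have h7 : m * n * a * (m * n)⁻¹ = m * (n * a * n⁻¹) * m⁻¹ := by group
        rw [h7]
        exact h6
      rw [← le_bot_iff, ← h4]
      exact le_inf hAN hcore
    · have h5 : A.subgroupOf N ⊔ H = ⊤ := by
        rw [sup_comm]
        exact hHc.2 _ (left_lt_sup.2 hAH)
      have h6 : H.index = H.relIndex (A.subgroupOf N) := index_eq_relIndex h5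
      have h7 : r ∣ Nat.card (A.subgroupOf N) := by
        rw [← hHi, h6]
        exact Subgroup.relIndex_dvd_card _ _
      rwa [Nat.card_congr (Subgroup.subgroupOfEquivOfLe hAN).toEquiv] at h7
  have hnt : Nontrivial N := (Subgroup.nontrivial_iff_ne_bot N).2 hN1
  refine ⟨fun A hA => ?_⟩
  by_contra hcon
  push Not at hcon
  obtain ⟨hA1, hA2⟩ := hcon
  -- a minimal such subgroup
  obtain ⟨B, ⟨hB1, hB2, hB3⟩, hB4⟩ := Set.Finite.exists_minimal
    (s := {B : Subgroup Q | B ≤ N ∧ N ≤ normalizer (B : Set Q) ∧ B ≠ ⊥})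
    (Set.toFinite _) ⟨N, le_rfl, Subgroup.le_normalizer, hN1⟩
  -- `B` is contained in `A`
  have hint : ∀ C D : Subgroup Q, C ≤ N → N ≤ normalizer (C : Set Q) → C ≠ ⊥ → D ≤ N →
      N ≤ normalizer (D : Set Q) → D ≠ ⊥ → C ⊓ D ≠ ⊥ := by
    intro C D hC1 hC2 hC3 hD1 hD2 hD3 hbot
    apply hr2
    rw [pow_two]
    have h5 : Disjoint C D := disjoint_iff.2 hbot
    have h6 : Nat.card C * Nat.card D ∣ Nat.card N := by
      have hCn : (C.subgroupOf N).Normal := by
        rw [← Subgroup.normalizer_eq_top_iff, ← top_le_iff]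
        intro x _
        rw [Subgroup.mem_normalizer_iff]
        intro y
        exact Subgroup.mem_normalizer_iff.1 (hC2 x.2) (y : Q)
      have h7 : Nat.card C * Nat.card D = Nat.card (C.subgroupOf N ⊔ D.subgroupOf N : Subgroup N) := by
        have h8 : Disjoint (C.subgroupOf N) (D.subgroupOf N) := by
          rw [disjoint_iff, Subgroup.subgroupOf, Subgroup.subgroupOf, ← Subgroup.comap_inf, hbot]
          exact Subgroup.bot_subgroupOf N
        have h9 : (C.subgroupOf N).relIndex (C.subgroupOf N ⊔ D.subgroupOf N) =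
            Nat.card (D.subgroupOf N) := by
          rw [Subgroup.relIndex_sup_left, ← Subgroup.inf_relIndex_right, h8.eq_bot,
            Subgroup.relIndex_bot_left]
        have h10 := Subgroup.relIndex_mul_relIndex ⊥ (C.subgroupOf N)
          (C.subgroupOf N ⊔ D.subgroupOf N) bot_le le_sup_left
        rw [Subgroup.relIndex_bot_left, Subgroup.relIndex_bot_left, h9] at h10
        rw [← h10, Nat.card_congr (Subgroup.subgroupOfEquivOfLe hC1).toEquiv,
          Nat.card_congr (Subgroup.subgroupOfEquivOfLe hD1).toEquiv]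
      rw [h7]
      exact Subgroup.card_subgroup_dvd_card _
    exact (mul_dvd_mul (hdvd C hC1 hC2 hC3) (hdvd D hD1 hD2 hD3)).trans h6
  have hnorm : ∀ C D : Subgroup Q, N ≤ normalizer (C : Set Q) → N ≤ normalizer (D : Set Q) →
      N ≤ normalizer ((C ⊓ D : Subgroup Q) : Set Q) := by
    intro C D hC hD x hx
    rw [Subgroup.mem_normalizer_iff]
    intro y
    rw [Subgroup.mem_inf, Subgroup.mem_inf, Subgroup.mem_normalizer_iff.1 (hC hx) y,
      Subgroup.mem_normalizer_iff.1 (hD hx) y]
  have hBall : ∀ C : Subgroup Q, C ≤ N → N ≤ normalizer (C : Set Q) → C ≠ ⊥ → B ≤ C := by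
    intro C hC1 hC2 hC3
    have h5 := hB4 (y := B ⊓ C) ⟨inf_le_left.trans hB1, hnorm B C hB2 hC2,
      hint B C hB1 hB2 hB3 hC1 hC2 hC3⟩ inf_le_left
    exact h5.trans inf_le_right
  -- `B` is normal
  have hBn : B.Normal := by
    constructor
    intro b hb g
    have h5 : B ≤ B.map (MulAut.conj g⁻¹).toMonoidHom := by
      apply hBall
      · rintro _ ⟨x, hx, rfl⟩
        exact hN.conj_mem x (hB1 hx) g⁻¹
      · intro x hx
        rw [Subgroup.mem_normalizer_iff_map_conj_eq]
        have h6 : g * x * g⁻¹ ∈ normalizer (B : Set Q) := hB2 (hN.conj_mem x hx g)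
        rw [Subgroup.mem_normalizer_iff_map_conj_eq] at h6
        rw [Subgroup.map_map]
        conv_rhs => rw [← h6, Subgroup.map_map]
        congr 1
        ext y
        simp [mul_assoc]
      · intro h6
        exact hB3 ((Subgroup.map_eq_bot_iff_of_injective B (MulAut.conj g⁻¹).injective).1 h6)
    obtain ⟨x, hx, hxb⟩ := h5 hb
    have h7 : g * b * g⁻¹ = x := by
      rw [← hxb]
      simp [mul_assoc]
    rw [h7]
    exact hx
  have hBN : B = N := hmin B hBn hB1 hB3
  apply hA2
  have h5 : B ≤ A.map N.subtype := by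
    apply hBall
    · exact Subgroup.map_subtype_le A
    · intro x hx
      rw [Subgroup.mem_normalizer_iff]
      intro y
      constructor
      · rintro ⟨a, ha, rfl⟩
        exact ⟨⟨x, hx⟩ * a * ⟨x, hx⟩⁻¹, hA.conj_mem a ha _, rfl⟩
      · rintro ⟨a, ha, h6⟩
        refine ⟨⟨x, hx⟩⁻¹ * a * ⟨x, hx⟩, ?_, ?_⟩
        · have := hA.conj_mem a ha (⟨x, hx⟩⁻¹)
          rwa [inv_inv] at this
        · change x⁻¹ * (a : Q) * x = y
          have h7 : (a : Q) = x * y * x⁻¹ := h6
          rw [h7]
          group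
    · intro h6
      exact hA1 ((Subgroup.map_eq_bot_iff_of_injective A N.subtype_injective).1 h6)
  rw [hBN] at h5
  rw [← top_le_iff]
  intro x _
  obtain ⟨a, ha, hax⟩ := h5 x.2
  have : a = x := Subtype.ext hax
  rwa [← this]

/-- **Reduction.** -/
theorem exists_red (hp2 : p ≠ 2) (hmax : Hyp p Q) (hrad : Rad p Q) [Nontrivial Q] :
    ∃ (N : Subgroup Q) (r : ℕ), Red p Q N r := by
  obtain ⟨N, hN, hN1, hmin⟩ := exists_minimal_normal (Q := Q)
  obtain ⟨M, hM, hNM, hi, hip⟩ := exists_prime_index hp2 hmax hrad hN1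
  have hsimple : IsSimpleGroup N := isSimple hN1 hmin hM hNM hi
  have hsup : N ⊔ M = ⊤ := by
    rw [sup_comm]
    exact hM.2 _ (left_lt_sup.2 hNM)
  have hidx : M.index = M.relIndex N := index_eq_relIndex hsup
  have hrdvd : M.index ∣ Nat.card N := hidx.dvd.trans (Subgroup.relIndex_dvd_card M N)
  have hmaxr : ∀ M' : Subgroup Q, IsCoatom M' → ¬ N ≤ M' →
      HasNormalPComplement p M' ∨ M'.index = M.index := by
    intro M' hM' hNM'
    rcases hmax M' hM' with h | h
    · exact Or.inl h
    · exact Or.inr (prime_index_unique hmin hM' hNM' h hM hNM hi)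
  have hnc : ¬ ∀ a b : N, a * b = b * a := by
    intro hc
    apply not_hnc hrad hN hN1
    have hcomm : IsMulCommutative N := ⟨⟨hc⟩⟩
    have hnil : Group.IsNilpotent N := by
      letI : CommGroup N := { (inferInstance : Group N) with mul_comm := hc }
      infer_instance
    have := Cfsg.Agent.SolvableStructure.Schmidt.exists_normal_complement_of_isNilpotent hnil p
    obtain ⟨L, hL1, hL2, k, hL3⟩ := this
    exact Cfsg.Agent.OddOrderLocal.NilpotentQuotient.hasNormalPComplement_of_index L hL1 hL2 hL3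
  refine ⟨N, M.index, hN, hsimple, ?_, hnc, dvd_card hrad hN hN1, hi, hip, hrdvd, hmaxr,
    M, hM, hNM, rfl⟩
  -- the centralizer is trivial
  have hrf : Fact (M.index).Prime := ⟨hi⟩
  obtain ⟨R⟩ : Nonempty (Sylow M.index N) := inferInstance
  set R' : Subgroup Q := (R : Subgroup N).map N.subtype with hR'
  have hfr : normalizer (R' : Set Q) ⊔ N = ⊤ := Sylow.normalizer_sup_eq_top R
  have hR1 : (R : Subgroup N) ≠ ⊥ := fun h => R.ne_bot_of_dvd_card hrdvd h
  have hR'1 : R' ≠ ⊥ := by
    intro h
    exact hR1 ((Subgroup.map_eq_bot_iff_of_injective _ N.subtype_injective).1 h)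
  have hR'p : IsPGroup M.index R' := R.isPGroup'.map N.subtype
  have hL : normalizer (R' : Set Q) ≠ ⊤ := by
    intro h
    have hRn : R'.Normal := Subgroup.normalizer_eq_top_iff.1 h
    apply hR'1
    apply hrad R' hRn
    refine Cfsg.Agent.PLocal.PSolvable.isPSolvable_of_coprime ?_
    obtain ⟨k, hk⟩ := IsPGroup.iff_card.1 hR'p
    rw [hk]
    exact Nat.Coprime.pow_left k ((Nat.coprime_primes hi hp.out).2 hip)
  obtain ⟨M₂, hM₂, hLM₂⟩ := exists_coatom hL
  have hNM₂ : ¬ N ≤ M₂ := by
    intro h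
    exact hM₂.1 (top_le_iff.1 (hfr.symm.le.trans (sup_le hLM₂ h)))
  have hne : M₂.index ≠ M.index := by
    intro h
    have hsup₂ : N ⊔ M₂ = ⊤ := by
      rw [sup_comm]
      exact hM₂.2 _ (left_lt_sup.2 hNM₂)
    have h1 : M₂.index = M₂.relIndex N := index_eq_relIndex hsup₂
    have h2 : R' ≤ M₂ ⊓ N := le_inf (Subgroup.le_normalizer.trans hLM₂)
      (Subgroup.map_subtype_le _)
    have h3 : (M₂ ⊓ N).relIndex N ∣ R'.relIndex N := Subgroup.relIndex_dvd_of_le_left N h2
    rw [Subgroup.inf_relIndex_right, ← h1, h] at h3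
    have h4 : R'.relIndex N = (R : Subgroup N).index := by
      rw [Subgroup.relIndex, Subgroup.subgroupOf, hR',
        Subgroup.comap_map_eq_self_of_injective N.subtype_injective]
    rw [h4] at h3
    exact R.not_dvd_index h3
  have hhnc : HasNormalPComplement p M₂ := (hmaxr M₂ hM₂ hNM₂).resolve_right hne
  have hC : centralizer (N : Set Q) ≤ M₂ := by
    refine le_trans ?_ hLM₂
    intro c hc
    rw [Subgroup.mem_normalizer_iff]
    intro y
    have hcy : ∀ z ∈ R', c * z * c⁻¹ = z := by
      intro z hz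
      have h5 : z ∈ N := Subgroup.map_subtype_le _ hz
      have h6 := Subgroup.mem_centralizer_iff.1 hc z h5
      rw [← h6, mul_inv_cancel_right]
    constructor
    · intro hy
      rw [hcy y hy]
      exact hy
    · intro hy
      have h7 := hcy _ hy
      have h8 : c * y * c⁻¹ = y := by
        have h9 : c * (c * y * c⁻¹) * c⁻¹ = c * y * c⁻¹ := h7
        have h10 : c * y * c⁻¹ = y := by
          have h11 := congrArg (fun z => c⁻¹ * z * c) h9
          simp only [mul_assoc, inv_mul_cancel_left, inv_mul_cancel, mul_one] at h11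
          simpa [mul_assoc] using h11
        exact h10
      rwa [h8] at hy
  have hCn : (centralizer (N : Set Q)).Normal := Subgroup.normal_centralizer
  exact hrad _ hCn (isPSolvable_of_hnc (hnc_of_le hC hhnc))

/-- The principle: a subgroup of `N` whose class is invariant has a normal `p`-complement or is
contained in a maximal subgroup of index `r`. -/
theorem Red.sub {N : Subgroup Q} {r : ℕ} (R : Red p Q N r) {X : Subgroup Q}
    (hX : N ⊔ normalizer (X : Set Q) = ⊤) (hX1 : X ≠ ⊥) (hX2 : ¬ N ≤ X) (hX3 : X ≤ N) :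
    HasNormalPComplement p X ∨ ∃ M : Subgroup Q, IsCoatom M ∧ ¬ N ≤ M ∧ M.index = r ∧
      normalizer (X : Set Q) ≤ M ∧ X ≤ M := by
  have hN := R.normal
  have hsimple := R.simple
  have hL : normalizer (X : Set Q) ≠ ⊤ := by
    intro h
    have hXn : X.Normal := Subgroup.normalizer_eq_top_iff.1 h
    have h1 : (X.subgroupOf N).Normal := inferInstance
    rcases h1.eq_bot_or_eq_top with h2 | h2
    · rw [Subgroup.subgroupOf_eq_bot] at h2
      exact hX1 (h2.eq_bot_of_le hX3)
    · rw [Subgroup.subgroupOf_eq_top] at h2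
      exact hX2 h2
  obtain ⟨M, hM, hLM⟩ := exists_coatom hL
  have hNM : ¬ N ≤ M := by
    intro h
    exact hM.1 (top_le_iff.1 (hX.symm.le.trans (sup_le h hLM)))
  have hXM : X ≤ M := Subgroup.le_normalizer.trans hLM
  rcases R.max M hM hNM with h | h
  · exact Or.inl (hnc_of_le hXM h)
  · exact Or.inr ⟨M, hM, hNM, h, hLM, hXM⟩

/-- A group with a `p`-element inverted by another element has no normal `p`-complement. -/
theorem not_hnc_of_inverts (hp2 : p ≠ 2) {X : Type*} [Group X] [Finite X] {x y : X}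
    (hx : x ≠ 1) (hxp : x ^ p = 1) (hy : y * x * y⁻¹ = x⁻¹) : ¬ HasNormalPComplement p X := by
  intro h
  obtain ⟨K, hK, h1, k, h2⟩ :=
    Cfsg.Agent.OddOrderLocal.NilpotentQuotient.exists_of_hasNormalPComplement h
  -- in the quotient, a `p`-group, everything has odd order
  have hodd : Odd (Nat.card (X ⧸ K)) := by
    rw [← Subgroup.index_eq_card, h2]
    exact (hp.out.odd_of_ne_two hp2).pow
  have h3 : (y : X ⧸ K) * x * (y : X ⧸ K)⁻¹ = (x : X ⧸ K)⁻¹ := by
    rw [← QuotientGroup.mk_mul, ← QuotientGroup.mk_inv, ← QuotientGroup.mk_mul, hy,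
      QuotientGroup.mk_inv]
  have h4 : ∀ n : ℕ, Odd n → (y : X ⧸ K) ^ n * x * ((y : X ⧸ K) ^ n)⁻¹ = (x : X ⧸ K)⁻¹ := by
    intro n hn
    obtain ⟨m, rfl⟩ := hn
    induction m with
    | zero => simpa using h3
    | succ m ih =>
      have h5 : (y : X ⧸ K) ^ (2 * (m + 1) + 1) = y * (y * (y : X ⧸ K) ^ (2 * m + 1)) := by
        rw [← pow_succ', ← pow_succ']
        congr 1
      rw [h5]
      have h6 : (y : X ⧸ K) * (y * (y : X ⧸ K) ^ (2 * m + 1)) * x *
          ((y : X ⧸ K) * (y * (y : X ⧸ K) ^ (2 * m + 1)))⁻¹ =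
          (y : X ⧸ K) * (y * ((y : X ⧸ K) ^ (2 * m + 1) * x * ((y : X ⧸ K) ^ (2 * m + 1))⁻¹) *
            (y : X ⧸ K)⁻¹) * (y : X ⧸ K)⁻¹ := by group
      rw [h6, ih]
      have h7 : (y : X ⧸ K) * (x : X ⧸ K)⁻¹ * (y : X ⧸ K)⁻¹ = x := by
        have := congrArg (·⁻¹) h3
        simpa [mul_assoc] using this
      rw [h7, h3]
  have h5 := h4 _ hodd
  rw [pow_card_eq_one'] at h5
  simp only [one_mul, inv_one, mul_one] at h5
  -- so `x ^ 2 ∈ K` and `x ∈ K`
  have h6 : (x : X ⧸ K) ^ 2 = 1 := by
    rw [pow_two]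
    nth_rewrite 2 [h5]
    exact mul_inv_cancel _
  have h7 : (x : X ⧸ K) ^ p = 1 := by
    rw [← QuotientGroup.mk_pow, hxp, QuotientGroup.mk_one]
  have h8 : Nat.Coprime 2 p := (Nat.coprime_primes Nat.prime_two hp.out).2 (Ne.symm hp2)
  have h9 : (x : X ⧸ K) = 1 := by
    rw [← orderOf_eq_one_iff]
    exact Nat.eq_one_of_dvd_coprimes h8 (orderOf_dvd_of_pow_eq_one h6)
      (orderOf_dvd_of_pow_eq_one h7)
  rw [QuotientGroup.eq_one_iff] at h9
  apply h1
  have h10 : orderOf x = p := orderOf_eq_prime hxp hx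
  have h11 : orderOf (⟨x, h9⟩ : K) = p := by
    rw [Subgroup.orderOf_mk, h10]
  rw [← h11]
  exact orderOf_dvd_natCard _

end Cfsg.Agent.H579.MaxPNilRed
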