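/-
The case of an alternating socle of prime degree.
-/
import Cfsg.Agent.H579.MaxPNilRed

set_option autoImplicit false

namespace Cfsg.Agent.H579.AltCase

open Cfsg Subgroup Cfsg.Agent.Transfer.PNilpotentBasic
open Cfsg.Agent.H579.MaxPNilRed
open scoped Pointwise

section perm

variable {Ω : Type*} [Fintype Ω] [DecidableEq Ω] {p : ℕ} [hp : Fact p.Prime]

/-- A `p`-element fixing two given points and an even permutation inverting it, preserving the pair
of points. -/
theorem exists_perms (hp2 : p ≠ 2) {a b : Ω} (hab : a ≠ b) (hc : p + 2 ≤ Fintype.card Ω) :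
    ∃ x y : Equiv.Perm Ω, x ∈ alternatingGroup Ω ∧ y ∈ alternatingGroup Ω ∧ x ≠ 1 ∧ x ^ p = 1 ∧
      y * x * y⁻¹ = x⁻¹ ∧ x a = a ∧ x b = b ∧ ((y a = a ∧ y b = b) ∨ (y a = b ∧ y b = a)) := by
  have hcard : Fintype.card (ZMod p) ≤ Fintype.card {z : Ω // z ≠ a ∧ z ≠ b} := by
    rw [ZMod.card, Fintype.card_subtype]
    have h1 : (Finset.univ.filter fun z : Ω => z ≠ a ∧ z ≠ b) = Finset.univ \ {a, b} := by
      ext z
      simp
    rw [h1, Finset.card_sdiff_of_subset (Finset.subset_univ _), Finset.card_univ, Finset.card_pair hab]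
    omega
  obtain ⟨g⟩ := Function.Embedding.nonempty_of_card_le hcard
  let g' : ZMod p → Ω := fun i => (g i : Ω)
  have hg' : Function.Injective g' := Subtype.val_injective.comp g.injective
  let f : ZMod p ≃ {z : Ω // z ∈ Set.range g'} := Equiv.ofInjective g' hg'
  let H : Equiv.Perm (ZMod p) →* Equiv.Perm Ω := Equiv.Perm.extendDomainHom f
  have hH : Function.Injective H := Equiv.Perm.extendDomainHom_injective f
  have hfix : ∀ (σ : Equiv.Perm (ZMod p)) (z : Ω), z ∉ Set.range g' → H σ z = z := by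
    intro σ z hz
    exact Equiv.Perm.extendDomain_apply_not_subtype σ f hz
  have ha : a ∉ Set.range g' := by
    rintro ⟨i, hi⟩
    exact (g i).2.1 hi
  have hb : b ∉ Set.range g' := by
    rintro ⟨i, hi⟩
    exact (g i).2.2 hi
  let x₀ : Equiv.Perm (ZMod p) := Equiv.addRight 1
  let y₀ : Equiv.Perm (ZMod p) := Equiv.neg (ZMod p)
  have hxy : y₀ * x₀ * y₀⁻¹ = x₀⁻¹ := by
    ext i
    change -((-i) + 1) = i + -1
    ring
  have hxp : x₀ ^ p = 1 := by
    have h1 : ∀ k : ℕ, ∀ i, (x₀ ^ k) i = i + k := by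
      intro k
      induction k with
      | zero => intro i; simp
      | succ k ih =>
        intro i
        rw [pow_succ', Equiv.Perm.mul_apply, ih]
        change i + k + 1 = _
        push_cast
        ring
    ext i
    rw [h1, ZMod.natCast_self, add_zero]
    rfl
  have hx1 : x₀ ≠ 1 := by
    intro h
    have h1 := congrArg (fun σ : Equiv.Perm (ZMod p) => σ 0) h
    have h2 : (0 : ZMod p) + 1 = 0 := h1
    rw [zero_add] at h2
    exact one_ne_zero h2
  have hsw : ∀ σ, Equiv.swap a b * H σ = H σ * Equiv.swap a b := by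
    intro σ
    have h1 : Equiv.swap (H σ a) (H σ b) = H σ * Equiv.swap a b * (H σ)⁻¹ :=
      Equiv.swap_apply_apply (H σ) a b
    rw [hfix σ a ha, hfix σ b hb] at h1
    exact mul_inv_eq_iff_eq_mul.1 h1.symm |>.symm
  have hxA : H x₀ ∈ alternatingGroup Ω := by
    rw [Equiv.Perm.mem_alternatingGroup]
    have h1 : (Equiv.Perm.sign (H x₀)) ^ p = 1 := by
      rw [← map_pow, ← map_pow, hxp, map_one, map_one]
    rcases Int.units_eq_one_or (Equiv.Perm.sign (H x₀)) with h2 | h2
    · exact h2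
    · rw [h2, (hp.out.odd_of_ne_two hp2).neg_one_pow] at h1
      exact absurd h1 (by decide)
  by_cases hy : Equiv.Perm.sign (H y₀) = 1
  · refine ⟨H x₀, H y₀, hxA, Equiv.Perm.mem_alternatingGroup.2 hy, ?_, ?_, ?_, hfix _ a ha,
      hfix _ b hb, Or.inl ⟨hfix _ a ha, hfix _ b hb⟩⟩
    · intro h
      exact hx1 (hH (by rw [h, map_one]))
    · rw [← map_pow, hxp, map_one]
    · rw [← map_mul, ← map_inv, ← map_mul, hxy, map_inv]
  · have hy' : Equiv.Perm.sign (H y₀) = -1 := (Int.units_eq_one_or _).resolve_left hy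
    refine ⟨H x₀, Equiv.swap a b * H y₀, hxA, ?_, ?_, ?_, ?_, hfix _ a ha,
      hfix _ b hb, Or.inr ⟨?_, ?_⟩⟩
    · rw [Equiv.Perm.mem_alternatingGroup, map_mul, Equiv.Perm.sign_swap hab, hy']
      decide
    · intro h
      exact hx1 (hH (by rw [h, map_one]))
    · rw [← map_pow, hxp, map_one]
    · have h1 : Equiv.swap a b * H y₀ * H x₀ * (Equiv.swap a b * H y₀)⁻¹
          = Equiv.swap a b * (H (y₀ * x₀ * y₀⁻¹)) * (Equiv.swap a b)⁻¹ := by
        rw [map_mul, map_mul, map_inv]
        group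
      rw [h1, hxy, hsw, mul_inv_cancel_right, map_inv]
    · rw [Equiv.Perm.mul_apply, hfix _ a ha, Equiv.swap_apply_left]
    · rw [Equiv.Perm.mul_apply, hfix _ b hb, Equiv.swap_apply_right]

end perm

variable {Q : Type*} [Group Q] [Finite Q] {p : ℕ} [hp : Fact p.Prime]

/-- The action of `Q` on the cosets of a supplement of the socle is faithful. -/
theorem toPermHom_injective {N : Subgroup Q} {r : ℕ} (R : Red p Q N r) {M : Subgroup Q}
    (hNM : ¬ N ≤ M) : Function.Injective (MulAction.toPermHom Q (Q ⧸ M)) := by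
  have hN := R.normal
  have hsimple := R.simple
  rw [← MonoidHom.ker_eq_bot_iff]
  set K := (MulAction.toPermHom Q (Q ⧸ M)).ker with hK
  have hKM : K ≤ M := by
    intro k hk
    have h1 : MulAction.toPermHom Q (Q ⧸ M) k = 1 := hk
    have h2 := congrArg (fun σ : Equiv.Perm (Q ⧸ M) => σ ((1 : Q) : Q ⧸ M)) h1
    have h3 : ((k * 1 : Q) : Q ⧸ M) = ((1 : Q) : Q ⧸ M) := h2
    rw [mul_one, QuotientGroup.eq, mul_one] at h3
    exact (M.inv_mem_iff).1 h3
  have hKn : K.Normal := MonoidHom.normal_ker _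
  have h1 : (K.subgroupOf N).Normal := inferInstance
  rcases h1.eq_bot_or_eq_top with h2 | h2
  · rw [Subgroup.subgroupOf_eq_bot] at h2
    rw [eq_bot_iff, ← R.cent]
    intro k hk
    rw [Subgroup.mem_centralizer_iff]
    intro y hy
    exact (Subgroup.commute_of_normal_of_disjoint N K hN hKn h2.symm y k hy hk)
  · rw [Subgroup.subgroupOf_eq_top] at h2
    exact absurd (h2.trans hKM) hNM

/-- **Alternating socles do not occur.** -/
theorem alt_case (hp2 : p ≠ 2) {N : Subgroup Q} {r : ℕ} (R : Red p Q N r)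
    (e : N ≃* alternatingGroup (Fin r)) : False := by
  classical
  have hN := R.normal
  have hr := R.prime
  have hfr : Fintype.card (Fin r) = r := Fintype.card_fin r
  have hnt : Nontrivial (Fin r) := Fin.nontrivial_iff_two_le.2 hr.two_le
  have hcN : Nat.card N = r.factorial / 2 := by
    rw [Nat.card_congr e.toEquiv, nat_card_alternatingGroup, Nat.card_eq_fintype_card, hfr]
  have h2c : 2 * Nat.card N = r.factorial := by
    rw [Nat.card_congr e.toEquiv, two_mul_nat_card_alternatingGroup, Nat.card_perm,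
      Nat.card_eq_fintype_card, hfr]
  have hpr : p ≤ r := by
    have h1 : p ∣ r.factorial := h2c ▸ Dvd.dvd.mul_left R.dvd 2
    exact (hp.out.dvd_factorial).1 h1
  have hpr' : p < r := lt_of_le_of_ne hpr R.ne.symm
  have hp3 : 3 ≤ p := by
    have := hp.out.two_le
    omega
  have hrodd : Odd r := hr.odd_of_ne_two (by omega)
  have hpodd : Odd p := hp.out.odd_of_ne_two hp2
  have hpr2 : p + 2 ≤ r := by
    obtain ⟨s, hs⟩ := hrodd
    obtain ⟨t, ht⟩ := hpodd
    omega
  obtain ⟨M, hM, hNM, hi⟩ := R.ex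
  have hΩ : Nat.card (Q ⧸ M) = r := by
    rw [← hi]
    rfl
  let _ : Fintype (Q ⧸ M) := Fintype.ofFinite _
  have hΩ' : Fintype.card (Q ⧸ M) = r := by rw [← Nat.card_eq_fintype_card, hΩ]
  set φ := MulAction.toPermHom Q (Q ⧸ M) with hφ
  have hinj : Function.Injective φ := toPermHom_injective R hNM
  have hntΩ : Nontrivial (Q ⧸ M) := by
    rw [← Fintype.one_lt_card_iff_nontrivial, hΩ']
    exact hr.one_lt
  -- the image of `N` is the alternating group
  have hNA : N.map φ = alternatingGroup (Q ⧸ M) := by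
    apply Equiv.Perm.eq_alternatingGroup_of_index_eq_two
    have h1 := Subgroup.card_mul_index (N.map φ)
    rw [Nat.card_perm, hΩ, Nat.card_congr (N.equivMapOfInjective φ hinj).symm.toEquiv,
      ← h2c] at h1
    have h2 : Nat.card N * (N.map φ).index = Nat.card N * 2 := by rw [h1, mul_comm]
    exact Nat.eq_of_mul_eq_mul_left Nat.card_pos h2
  have hlift : ∀ σ ∈ alternatingGroup (Q ⧸ M), ∃ n ∈ N, φ n = σ := by
    intro σ hσ
    rw [← hNA] at hσ
    exact hσ
  obtain ⟨a, b, hab⟩ := exists_pair_ne (Q ⧸ M)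
  obtain ⟨x, y, hxA, hyA, hx1, hxp, hxy, hxa, hxb, hyab⟩ :=
    exists_perms hp2 hab (by rw [hΩ']; exact hpr2)
  obtain ⟨x', hx'N, hx'⟩ := hlift x hxA
  obtain ⟨y', hy'N, hy'⟩ := hlift y hyA
  set s : Set (Q ⧸ M) := {a, b} with hs
  set D : Subgroup Q := MulAction.stabilizer Q s with hD
  have hsmul : ∀ (g : Q) (z : Q ⧸ M), g • z = φ g z := fun g z => rfl
  have hpair : ∀ g : Q, g • s = {g • a, g • b} := by
    intro g
    rw [hs, Set.smul_set_insert, Set.smul_set_singleton]
  have hxD : x' ∈ D := by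
    rw [hD, MulAction.mem_stabilizer_iff, hpair, hsmul, hsmul, hx', hxa, hxb]
  have hyD : y' ∈ D := by
    rw [hD, MulAction.mem_stabilizer_iff, hpair, hsmul, hsmul, hy']
    rcases hyab with ⟨h1, h2⟩ | ⟨h1, h2⟩
    · rw [h1, h2]
    · rw [h1, h2, Set.pair_comm]
  set X : Subgroup Q := D ⊓ N with hX
  have hXnot : ¬ HasNormalPComplement p X := by
    refine not_hnc_of_inverts hp2 (x := (⟨x', hxD, hx'N⟩ : X)) (y := ⟨y', hyD, hy'N⟩) ?_ ?_ ?_
    · intro h
      apply hx1
      have h1 : x' = 1 := congrArg Subtype.val h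
      rw [← hx', h1, map_one]
    · apply Subtype.ext
      apply hinj
      change φ (x' ^ p) = φ 1
      rw [map_pow, hx', hxp, map_one]
    · apply Subtype.ext
      apply hinj
      change φ (y' * x' * y'⁻¹) = φ x'⁻¹
      rw [map_mul, map_mul, map_inv, map_inv, hx', hy', hxy]
  have hDX : D ≤ normalizer (X : Set Q) := by
    intro g hg
    rw [Subgroup.mem_normalizer_iff]
    intro z
    rw [hX, Subgroup.mem_inf, Subgroup.mem_inf]
    constructor
    · rintro ⟨h1, h2⟩
      exact ⟨D.mul_mem (D.mul_mem hg h1) (D.inv_mem hg), hN.conj_mem z h2 g⟩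
    · rintro ⟨h1, h2⟩
      have h3 : z = g⁻¹ * (g * z * g⁻¹) * g := by group
      refine ⟨?_, ?_⟩
      · rw [h3]
        exact D.mul_mem (D.mul_mem (D.inv_mem hg) h1) hg
      · have h4 := hN.conj_mem _ h2 g⁻¹
        rw [inv_inv] at h4
        rw [h3]
        exact h4
  -- two-transitivity of the alternating group
  have h2t : ∀ {c d : Q ⧸ M}, c ≠ d → ∃ n ∈ N, n • a = c ∧ n • b = d := by
    intro c d hcd
    have h1 := alternatingGroup.isMultiplyPretransitive (Q ⧸ M)
    have h2 : MulAction.IsMultiplyPretransitive (alternatingGroup (Q ⧸ M)) (Q ⧸ M) 2 := by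
      refine MulAction.isMultiplyPretransitive_of_le (n := Nat.card (Q ⧸ M) - 2) ?_ ?_
      · rw [hΩ]; omega
      · rw [hΩ]; omega
    rw [MulAction.is_two_pretransitive_iff] at h2
    obtain ⟨σ, hσ1, hσ2⟩ := h2 hab hcd
    obtain ⟨n, hn, hnσ⟩ := hlift σ.1 σ.2
    refine ⟨n, hn, ?_, ?_⟩
    · rw [hsmul, hnσ]; exact hσ1
    · rw [hsmul, hnσ]; exact hσ2
  have hND : N ⊔ normalizer (X : Set Q) = ⊤ := by
    rw [eq_top_iff]
    intro g _
    have hgab : g • a ≠ g • b := fun h => hab (smul_left_cancel g h)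
    obtain ⟨n, hn, h1, h2⟩ := h2t hgab
    have h3 : n⁻¹ * g ∈ D := by
      rw [hD, MulAction.mem_stabilizer_iff, mul_smul, hpair g, ← h1, ← h2, ← hpair n,
        inv_smul_smul]
    have h4 : g = n * (n⁻¹ * g) := by group
    rw [h4]
    exact Subgroup.mul_mem_sup hn (hDX h3)
  have hX1 : X ≠ ⊥ := by
    intro h
    apply hXnot
    apply hnc_of_coprime
    rw [h, Subgroup.card_bot]
    exact Nat.coprime_one_left p
  -- the stabiliser in the alternating group
  have hncard : s.ncard = 2 := Set.ncard_pair hab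
  have hcoat : IsCoatom (MulAction.stabilizer (alternatingGroup (Q ⧸ M)) s) := by
    apply alternatingGroup.isCoatom_stabilizer_of_ncard_lt_ncard_compl
    · exact ⟨a, Or.inl rfl, b, Or.inr rfl, hab⟩
    · have h1 := Set.ncard_add_ncard_compl s
      rw [hΩ, hncard] at h1
      rw [hncard]
      omega
  -- transport of subgroups of `N`
  let ψ : N →* alternatingGroup (Q ⧸ M) := (φ.comp N.subtype).codRestrict _ fun n => by
    rw [← hNA]
    exact ⟨n, n.2, rfl⟩
  have hψi : Function.Injective ψ := by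
    intro u v huv
    apply Subtype.ext
    apply hinj
    exact congrArg Subtype.val huv
  have hψs : Function.Surjective ψ := by
    intro σ
    obtain ⟨n, hn, hnσ⟩ := hlift σ.1 σ.2
    exact ⟨⟨n, hn⟩, Subtype.ext hnσ⟩
  have hcomap : (MulAction.stabilizer (alternatingGroup (Q ⧸ M)) s).comap ψ = D.subgroupOf N := by
    ext n
    rw [Subgroup.mem_comap, Subgroup.mem_subgroupOf, MulAction.mem_stabilizer_iff,
      MulAction.mem_stabilizer_iff]
    rfl
  have hX2 : ¬ N ≤ X := by
    intro h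
    apply hcoat.1
    rw [eq_top_iff]
    intro σ _
    obtain ⟨n, rfl⟩ := hψs σ
    rw [← Subgroup.mem_comap, hcomap, Subgroup.mem_subgroupOf]
    exact (h n.2).1
  rcases R.sub hND hX1 hX2 inf_le_right with h | ⟨M', hM', hNM', hi', -, hXM'⟩
  · exact hXnot h
  · have hsup : N ⊔ M' = ⊤ := by
      rw [sup_comm]
      exact hM'.2 _ (left_lt_sup.2 hNM')
    have h1 : M'.index = M'.relIndex N := index_eq_relIndex hsup
    set H := (M'.subgroupOf N).map ψ with hH
    have h2 : H.index = r := by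
      have h3 : H.comap ψ = M'.subgroupOf N := Subgroup.comap_map_eq_self_of_injective hψi _
      rw [← Subgroup.index_comap_of_surjective H hψs, h3, ← hi', h1]
      rfl
    have h3 : MulAction.stabilizer (alternatingGroup (Q ⧸ M)) s ≤ H := by
      intro σ hσ
      obtain ⟨n, rfl⟩ := hψs σ
      rw [← Subgroup.mem_comap, hcomap, Subgroup.mem_subgroupOf] at hσ
      exact ⟨n, hXM' ⟨hσ, n.2⟩, rfl⟩
    have h4 : H ≠ ⊤ := by
      intro h
      rw [h, Subgroup.index_top] at h2
      exact hr.one_lt.ne h2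
    have h5 : H = MulAction.stabilizer (alternatingGroup (Q ⧸ M)) s := by
      rcases eq_or_lt_of_le h3 with h6 | h6
      · exact h6.symm
      · exact absurd (hcoat.2 _ h6) h4
    rw [h5, MulAction.index_stabilizer] at h2
    -- the orbit contains all pairs
    let F : Finset (Q ⧸ M) → Set (Q ⧸ M) := fun t => (t : Set (Q ⧸ M))
    have h6 : F '' ((Finset.powersetCard 2 (Finset.univ : Finset (Q ⧸ M)) :
        Finset (Finset (Q ⧸ M))) : Set (Finset (Q ⧸ M)))
        ⊆ MulAction.orbit (alternatingGroup (Q ⧸ M)) s := by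
      rintro _ ⟨t, ht, rfl⟩
      rw [Finset.mem_coe, Finset.mem_powersetCard] at ht
      obtain ⟨c, d, hcd, rfl⟩ := Finset.card_eq_two.1 ht.2
      obtain ⟨n, hn, hn1, hn2⟩ := h2t hcd
      refine ⟨ψ ⟨n, hn⟩, ?_⟩
      change n • s = _
      rw [hpair, hn1, hn2]
      simp [F]
    have h7 := Set.ncard_le_ncard h6 (Set.toFinite _)
    rw [Set.ncard_image_of_injective _ Finset.coe_injective, Set.ncard_coe_finset,
      Finset.card_powersetCard, Finset.card_univ, hΩ', h2, Nat.choose_two_right] at h7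
    have h8 : r * (r - 1) / 2 ≥ r * 2 := by
      rw [ge_iff_le, Nat.le_div_iff_mul_le (by omega), mul_assoc]
      exact Nat.mul_le_mul_left r (by omega)
    omega

end Cfsg.Agent.H579.AltCase
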