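import Cfsg.Agent.H579.EightReg
import Cfsg.Agent.H579.MpoMain
import Cfsg.Agent.S0636

/-!
# Blocks of semilinear `3`-groups (helper579, for S2484)

`exists_blocks` : a semilinear `3`-group `Γ` of isometries containing a linear element of order `3` with a nonzero fixed
vector permutes the blocks of an orthogonal decomposition (`Blocks`).
-/

set_option autoImplicit false
set_option linter.unusedSectionVars false
set_option linter.style.haveILetI false

namespace Cfsg.Agent.H579.Eight

open Cfsg.Agent.H903.SylRegT Cfsg.Agent.H903.SylSemi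

variable {F : Type*} [Field F] {V : Type*} [AddCommGroup V] [Module F V] [Finite V]
  {Q : QuadraticForm F V} {Γ : Subgroup (Equiv.Perm V)}

theorem polar_iso (hq : ∀ v, ∀ r ∈ lp (F := F) Γ, Q (r v) = Q v) {r : V ≃ₗ[F] V} (hr : r ∈ lp (F := F) Γ) (x y : V) :
    QuadraticMap.polar Q (r x) (r y) = QuadraticMap.polar Q x y := by
  rw [QuadraticMap.polar, QuadraticMap.polar, ← map_add, hq _ r hr, hq _ r hr, hq _ r hr]

theorem apply_inv' (y : Equiv.Perm V) (v : V) : y (y⁻¹ v) = v := by
  rw [← Equiv.Perm.mul_apply, mul_inv_cancel]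
  rfl

theorem smul_zero' {y : Equiv.Perm V} {θ : F ≃+* F} (hθ : Semi F y θ) : y 0 = 0 := by
  have := hθ.2 0 0
  rwa [zero_smul, map_zero θ, zero_smul] at this

/-- two blocks from a central element of order three -/
theorem blocks_two (h3 : (3 : F) ≠ 0) (hs : ∀ y ∈ Γ, ∃ θ : F ≃+* F, Semi F y θ)
    (hq : ∀ v, ∀ r ∈ lp (F := F) Γ, Q (r v) = Q v) {z : V ≃ₗ[F] V} (hz : z ∈ lp (F := F) Γ)
    (hz3 : ∀ v, z (z (z v)) = v) (hz1 : z ≠ 1) (hc : ∀ y ∈ Γ, ∀ v, y (z v) = z (y v)) (hfix : ∃ x, x ≠ 0 ∧ z x = x) :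
    ∃ (W : Bool → Submodule F V) (cp : Bool → V →ₗ[F] V), Blocks Q Γ Bool true W cp := by
  let N : V →ₗ[F] V := LinearMap.id + (z : V →ₗ[F] V) + (z : V →ₗ[F] V) ∘ₗ (z : V →ₗ[F] V)
  have hN : ∀ v, N v = v + z v + z (z v) := fun v => rfl
  let W : Bool → Submodule F V := fun i => match i with
    | true => LinearMap.ker ((z : V →ₗ[F] V) - LinearMap.id)
    | false => LinearMap.ker N
  have hWt : ∀ v, v ∈ W true ↔ z v = v := fun v => by
    change v ∈ LinearMap.ker ((z : V →ₗ[F] V) - LinearMap.id) ↔ _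
    rw [LinearMap.mem_ker, LinearMap.sub_apply, sub_eq_zero]
    rfl
  have hWf : ∀ v, v ∈ W false ↔ v + z v + z (z v) = 0 := fun v => LinearMap.mem_ker
  let cp : Bool → V →ₗ[F] V := fun i => match i with
    | true => (3 : F)⁻¹ • N
    | false => LinearMap.id - (3 : F)⁻¹ • N
  have hct : ∀ v, cp true v = (3 : F)⁻¹ • (v + z v + z (z v)) := fun v => rfl
  have hcf : ∀ v, cp false v = v - (3 : F)⁻¹ • (v + z v + z (z v)) := fun v => rfl
  have h333 : ∀ v : V, v + v + v = (3 : F) • v := by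
    intro v
    have : (3 : F) = 1 + 1 + 1 := by norm_num
    rw [this, add_smul, add_smul, one_smul]
  have hfx : ∀ v, z v = v → (3 : F)⁻¹ • (v + z v + z (z v)) = v := by
    intro v hv
    rw [hv, hv, h333, smul_smul, inv_mul_cancel₀ h3, one_smul]
  have hzN : ∀ v, z (v + z v + z (z v)) = v + z v + z (z v) := by
    intro v
    rw [map_add, map_add, hz3]
    abel
  have hNc : ∀ v, z ((3 : F)⁻¹ • (v + z v + z (z v))) = (3 : F)⁻¹ • (v + z v + z (z v)) := fun v => by
    rw [map_smul, hzN]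
  refine ⟨W, cp, ⟨fun i => le_top, ?_, ?_, ?_, ?_⟩, ?_, ?_, ?_⟩
  · rintro (_ | _) w -
    · rw [hWf, hcf, map_sub, map_sub, hNc, hNc]
      have h4 : w - (3 : F)⁻¹ • (w + z w + z (z w)) + (z w - (3 : F)⁻¹ • (w + z w + z (z w))) +
          (z (z w) - (3 : F)⁻¹ • (w + z w + z (z w))) = (w + z w + z (z w)) -
          ((3 : F)⁻¹ • (w + z w + z (z w)) + (3 : F)⁻¹ • (w + z w + z (z w)) + (3 : F)⁻¹ • (w + z w + z (z w))) := by
        abel
      rw [h4, h333, smul_smul, mul_inv_cancel₀ h3, one_smul, sub_self]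
    · rw [hWt, hct, hNc]
  · intro w _
    rw [Fintype.sum_bool, hct, hcf]
    abel
  · rintro (_ | _) w hw
    · rw [hcf, (hWf w).1 hw, smul_zero, sub_zero]
    · rw [hct, hfx w ((hWt w).1 hw)]
  · rintro (_ | _) (_ | _) hij w hw
    · exact absurd rfl hij
    · rw [hct, (hWf w).1 hw, smul_zero]
    · rw [hcf, hfx w ((hWt w).1 hw), sub_self]
    · exact absurd rfl hij
  · rintro (_ | _) hb
    · apply hz1
      ext v
      have h4 : z v - v ∈ W false := by
        rw [hWf, map_sub, map_sub, hz3]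
        abel
      rw [hb, Submodule.mem_bot, sub_eq_zero] at h4
      exact h4
    · obtain ⟨x, hx0, hx⟩ := hfix
      have h4 : x ∈ W true := (hWt x).2 hx
      rw [hb, Submodule.mem_bot] at h4
      exact hx0 h4
  · have key : ∀ x ∈ W true, ∀ y ∈ W false, QuadraticMap.polar Q x y = 0 := by
      intro x hx y hy
      have hx' := (hWt x).1 hx
      have hy' := (hWf y).1 hy
      have h4 : ∀ u, QuadraticMap.polar Q x (z u) = QuadraticMap.polar Q x u := by
        intro u
        have := polar_iso hq hz x u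
        rwa [hx'] at this
      have h5 : QuadraticMap.polar Q x (y + z y + z (z y)) = 0 := by
        rw [hy']
        simp [QuadraticMap.polar]
      rw [QuadraticMap.polar_add_right, QuadraticMap.polar_add_right, h4, h4, h4] at h5
      have h6 : (3 : F) * QuadraticMap.polar Q x y = 0 := by linear_combination h5
      exact (mul_eq_zero.1 h6).resolve_left h3
    rintro (_ | _) (_ | _) hij x hx y hy
    · exact absurd rfl hij
    · rw [QuadraticMap.polar_comm]
      exact key y hy x hx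
    · exact key x hx y hy
    · exact absurd rfl hij
  · intro y hy
    obtain ⟨θ, hθ⟩ := hs y hy
    refine ⟨1, ?_, fun _ => rfl, fun _ => rfl, false, by decide, by decide⟩
    rintro (_ | _) w hw
    · change y w ∈ W false
      rw [hWf, ← hc y hy, ← hc y hy, ← hθ.1, ← hθ.1, (hWf w).1 hw, smul_zero' hθ]
    · change y w ∈ W true
      rw [hWt, ← hc y hy, (hWt w).1 hw]

theorem zmod3_a : ∀ k : ZMod 3, 0 + k + k = 0 → 0 + k = 0 := by decide

theorem zmod3_b : ∀ k : ZMod 3, ∃ i : ZMod 3, i ≠ 0 ∧ i + k ≠ 0 := by decide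

theorem zmod3_c : ∀ i k : ZMod 3, k ≠ 0 → ∀ j : ZMod 3, j = i ∨ j = i + k ∨ j = i + k + k := by decide

/-- three blocks permuted transitively -/
theorem blocks_three (h3 : ((3 : ℕ) : F) ≠ 0)
    (hq : ∀ v, ∀ r ∈ lp (F := F) Γ, Q (r v) = Q v) {z b : V ≃ₗ[F] V} (hz : z ∈ lp (F := F) Γ) (hb : b ∈ lp (F := F) Γ)
    (hz3 : z ^ 3 = 1) (hb3 : b ^ 3 = 1) (hbz : b * z = z * b) (hz0 : ∀ v, z v = v → v = 0)
    (hc : ∀ y ∈ Γ, ∀ v, y (z v) = z (y v))
    (hcb : ∀ y ∈ Γ, ∃ k : ZMod 3, ∀ v, y (b v) = (b * z ^ k.val) (y v))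
    (hne : ∀ i : ZMod 3, fx (b * z ^ i.val) ⊤ ≠ ⊥) :
    ∃ (W : ZMod 3 → Submodule F V) (cp : ZMod 3 → V →ₗ[F] V), Blocks Q Γ (ZMod 3) 0 W cp := by
  have : Fact (Nat.Prime 3) := ⟨Nat.prime_three⟩
  have D := dec_ind (p := 3) (z := z) (a := b) (W := (⊤ : Submodule F V)) h3 (fun _ _ => trivial) (fun _ _ => trivial)
    (fun w _ => by rw [hz3]; rfl) (fun w _ => by rw [hb3]; rfl)
    (fun w _ => by rw [← LinearEquiv.mul_apply, ← LinearEquiv.mul_apply, hbz]) (fun w _ h => hz0 w h)
  have hpow : ∀ n : ℕ, z ^ n = z ^ (n % 3) := fun n => by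
    conv_lhs => rw [← Nat.div_add_mod n 3, pow_add, pow_mul, hz3, one_pow, one_mul]
  have hadd : ∀ i j : ZMod 3, z ^ (i + j).val = z ^ i.val * z ^ j.val := fun i j => by
    rw [ZMod.val_add, ← hpow, pow_add]
  have hcz : ∀ n : ℕ, Commute b (z ^ n) := fun n => Commute.pow_right hbz n
  have hyz : ∀ y ∈ Γ, ∀ (n : ℕ) (v : V), y ((z ^ n) v) = (z ^ n) (y v) := by
    intro y hy n
    induction n with
    | zero => intro v; rfl
    | succ n ih => intro v; rw [pow_succ', LinearEquiv.mul_apply, LinearEquiv.mul_apply, hc y hy, ih]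
  refine ⟨_, _, D, hne, ?_, ?_⟩
  · intro i j hij x hx y hy
    have hx' : (b * z ^ i.val) x = x := (mem_fx.1 hx).2
    have hy' : (b * z ^ j.val) y = y := (mem_fx.1 hy).2
    set m : ZMod 3 := i - j with hm
    have hm0 : m ≠ 0 := sub_ne_zero.2 hij
    set c : V ≃ₗ[F] V := b * z ^ i.val with hcdef
    have hcl : c ∈ lp (F := F) Γ := (lp Γ).mul_mem hb ((lp Γ).pow_mem hz _)
    set u : V ≃ₗ[F] V := z ^ m.val with hu
    have hcu : c * u = u * c := by
      have h1 : Commute (b * z ^ i.val) (z ^ m.val) := (hcz _).mul_left ((Commute.refl z).pow_pow _ _)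
      exact h1
    have hcy : c y = u y := by
      have h1 : c = u * (b * z ^ j.val) := by
        rw [hcdef, hu, ← mul_assoc, ← (hcz _).eq, mul_assoc, ← hadd, hm, sub_add_cancel]
      rw [h1, LinearEquiv.mul_apply, hy']
    have hpc : ∀ w, QuadraticMap.polar Q x (c w) = QuadraticMap.polar Q x w := by
      intro w
      have := polar_iso hq hcl x w
      rwa [hx'] at this
    have e1 : QuadraticMap.polar Q x (u y) = QuadraticMap.polar Q x y := by rw [← hcy, hpc]
    have e2 : QuadraticMap.polar Q x (u (u y)) = QuadraticMap.polar Q x y := by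
      have h1 : c (u y) = u (u y) := by
        rw [← LinearEquiv.mul_apply, hcu, LinearEquiv.mul_apply, hcy]
      rw [← h1, hpc, e1]
    have hu3 : u (u (u y)) = y := by
      have h1 : u * (u * u) = 1 := by
        rw [hu, ← pow_add, ← pow_add]
        have : m.val + (m.val + m.val) = 3 * m.val := by ring
        rw [this, pow_mul, hz3, one_pow]
      have h2 := congrArg (fun f : V ≃ₗ[F] V => f y) h1
      exact h2
    have hu0 : ∀ w, u w = w → w = 0 := by
      intro w hw
      have h1 : ∀ n : ℕ, (u ^ n) w = w := by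
        intro n
        induction n with
        | zero => rfl
        | succ n ih => rw [pow_succ, LinearEquiv.mul_apply, hw, ih]
      apply hz0
      have h2 : u ^ (m⁻¹).val = z := by
        rw [hu, ← pow_mul, hpow, ← ZMod.val_mul, mul_inv_cancel₀ hm0]
        exact pow_one z
      rw [← h2]
      exact h1 _
    have e3 : y + u y + u (u y) = 0 := by
      apply hu0
      rw [map_add, map_add, hu3]
      abel
    have e4 : QuadraticMap.polar Q x (y + u y + u (u y)) = 0 := by
      rw [e3]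
      simp [QuadraticMap.polar]
    rw [QuadraticMap.polar_add_right, QuadraticMap.polar_add_right, e1, e2] at e4
    have e5 : ((3 : ℕ) : F) * QuadraticMap.polar Q x y = 0 := by
      push_cast
      linear_combination e4
    exact (mul_eq_zero.1 e5).resolve_left h3
  · intro y hy
    obtain ⟨k, hk⟩ := hcb y hy
    refine ⟨Equiv.addRight k, ?_, ?_, ?_, ?_⟩
    · intro i w hw
      have hw' : (b * z ^ i.val) w = w := (mem_fx.1 hw).2
      refine mem_fx.2 ⟨trivial, ?_⟩
      change (b * z ^ (i + k).val) (y w) = y w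
      conv_rhs => rw [← hw', LinearEquiv.mul_apply, hk, hyz y hy, ← LinearEquiv.mul_apply]
      rw [hadd, mul_assoc, ((Commute.refl z).pow_pow k.val i.val).eq]
    · intro h
      have h1 : (0 : ZMod 3) + k = 0 := h
      rw [zero_add] at h1
      subst h1
      ext i
      simp
    · intro h
      exact zmod3_a k h
    · exact zmod3_b k

/-- the elements of order three of a cyclic group -/
theorem mem_zpowers_of_cyclic {S : Type*} [Group S] [Finite S] [IsCyclic S] {x γ : S} (hx : orderOf x = 3)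
    (hγ : γ ^ 3 = 1) : γ ∈ Subgroup.zpowers x := by
  classical
  have := Fintype.ofFinite S
  have h1 : (Finset.univ.filter fun a : S => a ^ 3 = 1).card ≤ 3 := IsCyclic.card_pow_eq_one_le (by norm_num)
  have h2 : (Finset.univ.filter fun a : S => a ∈ Subgroup.zpowers x) ⊆ Finset.univ.filter fun a : S => a ^ 3 = 1 := by
    intro a ha
    rw [Finset.mem_filter] at ha ⊢
    refine ⟨Finset.mem_univ _, ?_⟩
    obtain ⟨n, rfl⟩ := Subgroup.mem_zpowers_iff.1 ha.2
    rw [← zpow_natCast, ← zpow_mul, mul_comm, zpow_mul, zpow_natCast, ← hx, pow_orderOf_eq_one, one_zpow]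
  have h3 : (Finset.univ.filter fun a : S => a ∈ Subgroup.zpowers x).card = 3 := by
    rw [← hx, ← Nat.card_zpowers, Nat.card_eq_fintype_card, Fintype.card_subtype]
  have h4 := Finset.eq_of_subset_of_card_le h2 (by rw [h3]; exact h1)
  have h5 : γ ∈ Finset.univ.filter fun a : S => a ^ 3 = 1 := Finset.mem_filter.2 ⟨Finset.mem_univ _, hγ⟩
  rw [← h4, Finset.mem_filter] at h5
  exact h5.2

/-- **Blocks** -/
theorem exists_blocks (h3 : ((3 : ℕ) : F) ≠ 0) [Nontrivial V] (hΓ : IsPGroup 3 Γ)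
    (hs : ∀ y ∈ Γ, ∃ θ : F ≃+* F, Semi F y θ ∧ ∀ v, Q (y v) = θ (Q v))
    {g : V ≃ₗ[F] V} (hg : g ∈ lp (F := F) Γ) (hg3 : g ^ 3 = 1) (hg1 : g ≠ 1) (hgx : ∃ x, x ≠ 0 ∧ g x = x) :
    (∃ (W : Bool → Submodule F V) (cp : Bool → V →ₗ[F] V), Blocks Q Γ Bool true W cp) ∨
    ∃ (W : ZMod 3 → Submodule F V) (cp : ZMod 3 → V →ₗ[F] V), Blocks Q Γ (ZMod 3) 0 W cp := by
  classical
  have : Fact (Nat.Prime 3) := ⟨Nat.prime_three⟩
  have h3' : (3 : F) ≠ 0 := by simpa using h3
  have hs' : ∀ y ∈ Γ, ∃ θ : F ≃+* F, Semi F y θ := fun y hy => (hs y hy).imp fun _ h => h.1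
  have hq : ∀ v, ∀ r ∈ lp (F := F) Γ, Q (r v) = Q v := fun v r hr => lp_iso hs hr v
  have hfinΓ : Finite Γ := inferInstance
  have hnil : Group.IsNilpotent Γ := hΓ.isNilpotent
  obtain ⟨w₀, hw₀⟩ := exists_ne (0 : V)
  -- the linear part
  let S : Subgroup Γ :=
    { carrier := {y | ∀ (a : F) (v : V), (y : Equiv.Perm V) (a • v) = a • (y : Equiv.Perm V) v}
      mul_mem' := by
        intro y y' h h' a v
        rw [Subgroup.coe_mul, Equiv.Perm.mul_apply, h', h, Equiv.Perm.mul_apply]
      one_mem' := fun a v => rfl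
      inv_mem' := by
        intro y h a v
        rw [Subgroup.coe_inv, Equiv.Perm.inv_eq_iff_eq, h, apply_inv'] }
  have hSm : ∀ y : Γ, y ∈ S ↔ ∀ (a : F) (v : V), (y : Equiv.Perm V) (a • v) = a • (y : Equiv.Perm V) v := fun _ => Iff.rfl
  have hSn : S.Normal := by
    refine ⟨fun r hr y a v => ?_⟩
    obtain ⟨θ, hθ⟩ := hs' _ y.2
    have h1 : ∀ (c : F) (u : V), (y : Equiv.Perm V)⁻¹ (c • u) = θ.symm c • (y : Equiv.Perm V)⁻¹ u := by
      intro c u
      rw [Equiv.Perm.inv_eq_iff_eq, hθ.2, θ.apply_symm_apply, apply_inv']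
    simp only [Subgroup.coe_mul, Subgroup.coe_inv, Equiv.Perm.mul_apply]
    rw [h1, (hSm r).1 hr, hθ.2, θ.apply_symm_apply]
  have hlift : ∀ y ∈ S, ∃ r : V ≃ₗ[F] V, r ∈ lp (F := F) Γ ∧ MulAction.toPermHom (V ≃ₗ[F] V) V r = (y : Equiv.Perm V) := by
    intro y hy
    obtain ⟨θ, hθ⟩ := hs' _ y.2
    refine exists_lp y.2 hθ fun a => ?_
    have h1 := (hSm y).1 hy a w₀
    rw [hθ.2] at h1
    have h2 : (θ a - a) • (y : Equiv.Perm V) w₀ = 0 := by rw [sub_smul, h1, sub_self]
    rcases smul_eq_zero.1 h2 with h | h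
    · exact sub_eq_zero.1 h
    · exfalso
      apply hw₀
      apply (y : Equiv.Perm V).injective
      rw [h, smul_zero' hθ]
  have hlow : ∀ r : V ≃ₗ[F] V, ∀ hr : r ∈ lp (F := F) Γ, (⟨_, hr⟩ : Γ) ∈ S := by
    intro r hr a v
    exact map_smul r a v
  -- if there is a central element with a nonzero fixed vector we are done
  by_cases hA : ∃ z : Γ, z ∈ S ∧ z ^ 3 = 1 ∧ z ≠ 1 ∧ (∀ y : Γ, y * z = z * y) ∧ ∃ x, x ≠ 0 ∧ (z : Equiv.Perm V) x = x
  · left
    obtain ⟨z, hzS, hz3, hz1, hzc, x, hx0, hx⟩ := hA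
    obtain ⟨r, hr, hrz⟩ := hlift z hzS
    have hr' : ∀ v, r v = (z : Equiv.Perm V) v := fun v => by rw [← hrz]; rfl
    refine blocks_two h3' hs' hq hr ?_ ?_ ?_ ⟨x, hx0, by rw [hr', hx]⟩
    · intro v
      rw [hr', hr', hr', ← Equiv.Perm.mul_apply, ← Equiv.Perm.mul_apply, ← Subgroup.coe_mul, ← Subgroup.coe_mul]
      have h4 : z * z * z = 1 := by rw [← hz3, pow_succ, pow_two]
      rw [h4]
      rfl
    · rintro rfl
      apply hz1
      apply Subtype.ext
      rw [← hrz, map_one]
      rfl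
    · intro y hy v
      rw [hr', hr', ← Equiv.Perm.mul_apply, ← Equiv.Perm.mul_apply]
      have h4 := congrArg Subtype.val (hzc ⟨y, hy⟩)
      exact congrFun (congrArg DFunLike.coe h4) v
  · -- otherwise
    by_cases hcyc : IsCyclic S
    · exfalso
      have hγS := hlow g hg
      have hγ1 : (⟨_, hg⟩ : Γ) ≠ 1 := by
        intro h
        apply hg1
        apply toPerm_injective
        rw [map_one]
        exact congrArg Subtype.val h
      have hγ3 : (⟨_, hg⟩ : Γ) ^ 3 = 1 := by
        apply Subtype.ext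
        rw [Subgroup.coe_pow]
        change (MulAction.toPermHom (V ≃ₗ[F] V) V g) ^ 3 = 1
        rw [← map_pow, hg3, map_one]
      have hSb : ¬ S ≤ ⊥ := fun h => hγ1 (Subgroup.mem_bot.1 (h hγS))
      obtain ⟨x, hxS, hx1, hxc⟩ := Cfsg.Agent.Lib.NormalAbelian.exists_mem_not_mem_central_mod
        (inferInstance : (⊥ : Subgroup Γ).Normal) hSn hSb
      rw [Subgroup.mem_bot] at hx1
      obtain ⟨k, hk⟩ := hΓ x
      obtain ⟨m, hm3, hm1⟩ := Cfsg.Agent.H579.Mpo.exists_pow_order Nat.prime_three hx1 hk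
      have hxy : ∀ y : Γ, Commute x y := by
        intro y
        have h4 := Subgroup.mem_bot.1 (hxc y)
        rw [mul_inv_eq_one, mul_inv_eq_iff_eq_mul] at h4
        exact h4
      have ho : orderOf (⟨x ^ m, S.pow_mem hxS m⟩ : S) = 3 := by
        apply orderOf_eq_prime
        · exact Subtype.ext hm3
        · intro h
          exact hm1 (congrArg Subtype.val h)
      have h5 := mem_zpowers_of_cyclic ho (γ := ⟨_, hγS⟩) (Subtype.ext hγ3)
      obtain ⟨n, hn⟩ := Subgroup.mem_zpowers_iff.1 h5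
      have hn' : (x ^ m) ^ n = (⟨_, hg⟩ : Γ) := congrArg Subtype.val hn
      refine hA ⟨_, hγS, hγ3, hγ1, fun y => ?_, hgx⟩
      rw [← hn']
      exact ((((hxy y).pow_left m).zpow_left n).eq).symm
    · right
      obtain ⟨B, hBS, hBn, ⟨hBc, hB3⟩, hBcard⟩ := Cfsg.Agent.S0636.result (p := 3) (by norm_num) hΓ S hcyc
      have hBb : ¬ B ≤ ⊥ := by
        intro h
        rw [le_bot_iff] at h
        rw [h, Subgroup.card_bot] at hBcard
        norm_num at hBcard
      obtain ⟨z, hzB, hz1, hzc⟩ := Cfsg.Agent.Lib.NormalAbelian.exists_mem_not_mem_central_mod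
        (inferInstance : (⊥ : Subgroup Γ).Normal) hBn hBb
      rw [Subgroup.mem_bot] at hz1
      have hzy : ∀ y : Γ, Commute z y := by
        intro y
        have h4 := Subgroup.mem_bot.1 (hzc y)
        rw [mul_inv_eq_one, mul_inv_eq_iff_eq_mul] at h4
        exact h4
      have hz3 := hB3 z hzB
      have hz0 : ∀ x : V, (z : Equiv.Perm V) x = x → x = 0 := by
        intro x hx
        by_contra hx0
        exact hA ⟨z, hBS hzB, hz3, hz1, fun y => (hzy y).eq.symm, x, hx0, hx⟩
      have hzn : (Subgroup.zpowers z).Normal := by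
        refine ⟨fun a ha y => ?_⟩
        obtain ⟨n, rfl⟩ := Subgroup.mem_zpowers_iff.1 ha
        rw [← ((hzy y).zpow_left n).eq, mul_inv_cancel_right]
        exact ha
      have hBz : ¬ B ≤ Subgroup.zpowers z := by
        intro h
        have h4 := Subgroup.card_le_of_le h
        rw [Nat.card_zpowers, orderOf_eq_prime hz3 hz1, hBcard] at h4
        norm_num at h4
      obtain ⟨b, hbB, hbz, hbc⟩ := Cfsg.Agent.Lib.NormalAbelian.exists_mem_not_mem_central_mod hzn hBn hBz
      have hb3 := hB3 b hbB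
      have hbz' : b * z = z * b := ((hzy b).eq).symm
      -- the action on `b`
      have hyb : ∀ y : Γ, ∃ k : ZMod 3, y * b = b * z ^ k.val * y := by
        intro y
        obtain ⟨n, hn⟩ := Subgroup.mem_zpowers_iff.1 (hbc y)
        refine ⟨((-n : ℤ) : ZMod 3), ?_⟩
        have h4 : z ^ (((-n : ℤ) : ZMod 3)).val = z ^ (-n) := by
          rw [← zpow_natCast, ZMod.val_intCast]
          conv_rhs => rw [← Int.emod_add_mul_ediv (-n) 3, zpow_add, zpow_mul]
          have h5 : z ^ (3 : ℤ) = 1 := by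
            have : ((3 : ℕ) : ℤ) = 3 := rfl
            rw [← this, zpow_natCast, hz3]
          rw [h5, one_zpow, mul_one]
          rfl
        have hc : b * z ^ (-n) = z ^ (-n) * b := ((hzy b).zpow_left (-n)).eq.symm
        rw [h4, hc, zpow_neg, hn]
        group
      -- lifts
      obtain ⟨rz, hrz, hrzz⟩ := hlift z (hBS hzB)
      obtain ⟨rb, hrb, hrbb⟩ := hlift b (hBS hbB)
      have hrz' : ∀ v, rz v = (z : Equiv.Perm V) v := fun v => by rw [← hrzz]; rfl
      have hrb' : ∀ v, rb v = (b : Equiv.Perm V) v := fun v => by rw [← hrbb]; rfl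
      have hword : ∀ (n : ℕ) (v : V), (rb * rz ^ n) v = ((b * z ^ n : Γ) : Equiv.Perm V) v := by
        intro n v
        have h4 : MulAction.toPermHom (V ≃ₗ[F] V) V (rb * rz ^ n) = ((b * z ^ n : Γ) : Equiv.Perm V) := by
          rw [map_mul, map_pow, hrzz, hrbb]
          rfl
        rw [← h4]
        rfl
      have hrz3 : rz ^ 3 = 1 := by
        apply toPerm_injective
        rw [map_pow, hrzz, map_one, ← Subgroup.coe_pow, hz3]
        rfl
      have hrb3 : rb ^ 3 = 1 := by
        apply toPerm_injective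
        rw [map_pow, hrbb, map_one, ← Subgroup.coe_pow, hb3]
        rfl
      have hrbz : rb * rz = rz * rb := by
        apply toPerm_injective
        rw [map_mul, map_mul, hrzz, hrbb, ← Subgroup.coe_mul, hbz']
        rfl
      have hrz0 : ∀ v, rz v = v → v = 0 := fun v hv => hz0 v (by rw [← hrz', hv])
      have hmem : ∀ (i : ZMod 3) (v : V), v ∈ fx (rb * rz ^ i.val) ⊤ ↔ ((b * z ^ i.val : Γ) : Equiv.Perm V) v = v := by
        intro i v
        rw [mem_fx, hword]
        exact ⟨fun h => h.2, fun h => ⟨trivial, h⟩⟩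
      have hadd : ∀ i j : ZMod 3, z ^ (i + j).val = z ^ i.val * z ^ j.val := fun i j => by
        rw [ZMod.val_add, ← pow_add]
        conv_rhs => rw [← Nat.div_add_mod (i.val + j.val) 3, pow_add, pow_mul, hz3, one_pow, one_mul]
      have hmv : ∀ (y : Γ) (k : ZMod 3), y * b = b * z ^ k.val * y → ∀ (i : ZMod 3) (v : V),
          v ∈ fx (rb * rz ^ i.val) ⊤ → (y : Equiv.Perm V) v ∈ fx (rb * rz ^ (i + k).val) ⊤ := by
        intro y k hk i v hv
        rw [hmem] at hv ⊢
        have h4 : b * z ^ (i + k).val * y = y * (b * z ^ i.val) := by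
          rw [← mul_assoc, hk, add_comm, hadd]
          have := ((hzy y).pow_left i.val).eq
          rw [mul_assoc, mul_assoc, mul_assoc, mul_assoc, this]
        rw [← Equiv.Perm.mul_apply, ← Subgroup.coe_mul, h4, Subgroup.coe_mul, Equiv.Perm.mul_apply, hv]
      have hnz : ∀ (y : Γ) (k : ZMod 3), y * b = b * z ^ k.val * y → ∀ i : ZMod 3, fx (rb * rz ^ i.val) ⊤ ≠ ⊥ →
          fx (rb * rz ^ (i + k).val) ⊤ ≠ ⊥ := by
        intro y k hk i hi hi'
        obtain ⟨v, hv, hv0⟩ := (Submodule.ne_bot_iff _).1 hi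
        have h4 := hmv y k hk i v hv
        rw [hi', Submodule.mem_bot] at h4
        obtain ⟨θ, hθ⟩ := hs' _ y.2
        exact hv0 ((y : Equiv.Perm V).injective (h4.trans (smul_zero' hθ).symm))
      -- some block is nonzero
      obtain ⟨i₁, hi₁⟩ : ∃ i : ZMod 3, fx (rb * rz ^ i.val) (⊤ : Submodule F V) ≠ ⊥ := by
        by_contra hcon
        push Not at hcon
        have D := dec_ind (p := 3) (z := rz) (a := rb) (W := (⊤ : Submodule F V)) h3 (fun _ _ => trivial)
          (fun _ _ => trivial) (fun w _ => by rw [hrz3]; rfl) (fun w _ => by rw [hrb3]; rfl)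
          (fun w _ => by rw [← LinearEquiv.mul_apply, ← LinearEquiv.mul_apply, hrbz]) (fun w _ h => hrz0 w h)
        apply hw₀
        rw [← D.sum w₀ trivial]
        refine Finset.sum_eq_zero fun i _ => ?_
        have h4 := D.mem i w₀ trivial
        rw [hcon i, Submodule.mem_bot] at h4
        exact h4
      -- some element moves the blocks
      obtain ⟨y₀, k₀, hk₀, hk₀0⟩ : ∃ (y : Γ) (k : ZMod 3), y * b = b * z ^ k.val * y ∧ k ≠ 0 := by
        by_contra hcon
        push Not at hcon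
        obtain ⟨v, hv, hv0⟩ := (Submodule.ne_bot_iff _).1 hi₁
        rw [hmem] at hv
        have hby : ∀ y : Γ, y * b = b * y := by
          intro y
          obtain ⟨k, hk⟩ := hyb y
          have h4 := hcon y k hk
          rw [h4] at hk
          simpa using hk
        refine hA ⟨b * z ^ i₁.val, S.mul_mem (hBS hbB) (S.pow_mem (hBS hzB) _), ?_, ?_, ?_, v, hv0, hv⟩
        · have h4 : Commute b (z ^ i₁.val) := Commute.pow_right hbz' _
          rw [h4.mul_pow, hb3, ← pow_mul, mul_comm, pow_mul, hz3, one_pow, one_mul]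
        · intro h
          apply hbz
          rw [mul_eq_one_iff_eq_inv] at h
          rw [h]
          exact Subgroup.inv_mem _ (Subgroup.pow_mem _ (Subgroup.mem_zpowers z) _)
        · intro y
          rw [← mul_assoc, hby, mul_assoc, mul_assoc, ((hzy y).pow_left i₁.val).eq]
      have hall : ∀ i : ZMod 3, fx (rb * rz ^ i.val) (⊤ : Submodule F V) ≠ ⊥ := by
        intro i
        have e1 := hnz y₀ k₀ hk₀ i₁ hi₁
        have e2 := hnz y₀ k₀ hk₀ _ e1
        rcases zmod3_c i₁ k₀ hk₀0 i with h | h | h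
        · rw [h]; exact hi₁
        · rw [h]; exact e1
        · rw [h]; exact e2
      refine blocks_three h3 hq hrz hrb hrz3 hrb3 hrbz hrz0 ?_ ?_ hall
      · intro y hy v
        rw [hrz', hrz', ← Equiv.Perm.mul_apply, ← Equiv.Perm.mul_apply]
        have h4 := congrArg Subtype.val (hzy ⟨y, hy⟩).eq.symm
        exact congrFun (congrArg DFunLike.coe h4) v
      · intro y hy
        obtain ⟨k, hk⟩ := hyb ⟨y, hy⟩
        refine ⟨k, fun v => ?_⟩
        rw [hword, hrb']
        have h4 := congrArg Subtype.val hk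
        exact congrFun (congrArg DFunLike.coe h4) v

end Cfsg.Agent.H579.Eight
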