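import Cfsg.Agent.H579.MpoMain
import Cfsg.Agent.H579.MpoAlgT
import Cfsg.Agent.H903.SylRegTSp

/-!
# Orthogonal groups in cross characteristic, all odd primes (helper579, for S2484)

`meet_cross3` : `Meet p (POmega F Q)` from the existence of regular vectors (`RegO`), `p` odd, `|F| ≠ 8`.
-/

set_option autoImplicit false
set_option linter.unusedSectionVars false
set_option linter.style.haveILetI false

namespace Cfsg.Agent.H579.Mpo

open Cfsg QuadraticMap Cfsg.Agent.H903.SylMeet Cfsg.Agent.H903.SylSemi Cfsg.Agent.H903.SylReg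
open Cfsg.Agent.LieClassical.OrthCore Cfsg.Agent.LieClassical.OrthTrans
open Cfsg.Agent.LieClassical.OrthCenter
open Cfsg.Agent.AutOrth.Main
open Cfsg.Agent.H152.MeetOmega Cfsg.Agent.H579.OmElt

variable {ι : Type} [Fintype ι] [DecidableEq ι] {F : Type*} [Field F] [Finite F] {Q : QuadraticForm F (ι → F)}

set_option maxHeartbeats 2000000 in
/-- **Orthogonal groups in cross characteristic, all odd primes, `|F| ≠ 8`** -/
theorem meet_cross3 {p : ℕ} [hp : Fact p.Prime] (hp3 : 3 ≤ p) (hF8 : Nat.card F ≠ 8) (hpF : (p : F) ≠ 0) (hG : Good Q)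
    (hall : ∀ P : Subgroup (MulAut (POmega F ⇑Q)), IsPGroup p P → ∀ β ∈ P, AutOrth.Main.Ind ⇑Q β)
    (hreg : RegO p F (ι → F)) : Meet p (POmega F ⇑Q) := by
  classical
  have hp2 : p ≠ 2 := by omega
  have hpodd : Odd p := hp.out.odd_of_ne_two hp2
  have hQ : Nondeg Q := hG.nondeg
  haveI := isSimple hG
  haveI : Finite (POmega F ⇑Q) := inferInstance
  have hinj := conj_injective (not_comm hG)
  haveI : Nontrivial (ι → F) := Module.nontrivial_of_finrank_pos (R := F) (by have := hG.dim; omega)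
  obtain ⟨P⟩ : Nonempty (Sylow p (MulAut (POmega F ⇑Q))) := inferInstance
  apply meet_of_sylow P
  let R : Subgroup (POmega F ⇑Q) := (P : Subgroup (MulAut (POmega F ⇑Q))).comap MulAut.conj
  have hRp : IsPGroup p R := P.2.comap_of_injective _ hinj
  have hnorm : ((MulAut.conj : POmega F ⇑Q →* MulAut (POmega F ⇑Q)).range).Normal := ⟨by
    rintro _ ⟨t, rfl⟩ g
    exact ⟨g t, (conj_apply_aut g t).symm⟩⟩
  have hRi : ¬ p ∣ R.index := by
    have h1 : R.index = (P : Subgroup (MulAut (POmega F ⇑Q))).relIndex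
        (MulAut.conj : POmega F ⇑Q →* MulAut (POmega F ⇑Q)).range := Subgroup.index_comap _ _
    rw [h1, relIndex_sup_of_normal]
    intro h2
    exact P.not_dvd_index (h2.trans (Subgroup.relIndex_dvd_index_of_le le_sup_left))
  obtain ⟨S, hS, hSi, hSR, hRS⟩ := sylow_lift hRp hRi
  obtain ⟨x₀, hx₀⟩ := part1 hp2 hG hreg hS hSi
  -- elements of `S` are determined by their projection
  have huniqS : ∀ s s' : ↥(Omega F ⇑Q), (∃ k, s ^ p ^ k = 1) → (∃ k, s' ^ p ^ k = 1) → proj ⇑Q s = proj ⇑Q s' →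
      s = s' := by
    rintro s s' ⟨k, hk⟩ ⟨k', hk'⟩ h
    refine eq_of_proj hG h (N := p ^ (k + k')) hpodd.pow ?_ ?_
    · rw [pow_add, pow_mul, hk, one_pow]
    · rw [pow_add, mul_comm, pow_mul, hk', one_pow]
  have hSpow : ∀ s ∈ S, ∃ k, s ^ p ^ k = 1 := by
    intro s hs
    obtain ⟨k, hk⟩ := hS ⟨s, hs⟩
    exact ⟨k, congrArg Subtype.val hk⟩
  -- lifts of the elements of `P`
  have hlift : ∀ β : (P : Subgroup (MulAut (POmega F ⇑Q))), ∃ (y : Equiv.Perm (ι → F)) (θ : F ≃+* F) (c : F), c ≠ 0 ∧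
      Semi F y θ ∧ (∀ v, Q (y v) = c * θ (Q v)) ∧ H903.SylSemi.Ind (proj ⇑Q) (rho ⇑Q) y β := by
    intro β
    obtain ⟨y, ⟨θ, c, hc, hs, hf⟩, hi⟩ := exists_of_ind hG (hall _ P.2 β β.2)
    exact ⟨y, θ, c, hc, hs, hf, hi⟩
  choose yf θf cf hcf hsemi hform hind using hlift
  have hGam : ∀ β, yf β ∈ ClassicalGeometry.OrthSemi.Gam Q := fun β =>
    mem_gam_iff.2 ⟨θf β, cf β, hcf β, hsemi β, hform β⟩
  let χ : (P : Subgroup (MulAut (POmega F ⇑Q))) →* RingAut F := MonoidHom.mk' (fun β => (θf β : RingAut F)) (by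
    intro β β'
    have h1 : H903.SylSemi.Ind (proj ⇑Q) (rho ⇑Q) (yf (β * β') * (yf β * yf β')⁻¹) 1 := by
      have h2 := (hind (β * β')).mul ((hind β).mul (hind β')).inv
      rwa [Subgroup.coe_mul, mul_inv_cancel] at h2
    obtain ⟨a, ha⟩ := unique hG (mem_gam_iff.1 (mul_mem (hGam _) (inv_mem (mul_mem (hGam _) (hGam _))))) h1
    rw [mul_inv_eq_iff_eq_mul] at ha
    have h3 := semi_mul (semi_scal (V := ι → F) a) (semi_mul (hsemi β) (hsemi β'))
    rw [← ha, one_mul] at h3
    exact semi_unique (hsemi (β * β')) h3)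
  have hχθ : ∀ β, χ β = (θf β : RingAut F) := fun _ => rfl
  have hχ : ∀ y : (P : Subgroup (MulAut (POmega F ⇑Q))), χ y = 1 →
      ∃ t : POmega F ⇑Q, MulAut.conj t = (y : MulAut (POmega F ⇑Q)) := by
    intro β hβ
    rw [hχθ] at hβ
    have h1 := hsemi β
    have h2 := hform β
    rw [hβ] at h1 h2
    obtain ⟨k, hk⟩ := P.2 β
    exact inner_of_linear hG (hcf β) h1 h2 (hind β) (N := p ^ k) hpodd.pow (congrArg Subtype.val hk)
  haveI := isCyclic_ringAut F
  haveI : Finite (RingAut F) := DFunLike.finite _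
  refine good_of_fk hinj (P : Subgroup (MulAut (POmega F ⇑Q))) P.2 R (fun t => Iff.rfl) hRi χ hχ
    ⟨proj ⇑Q x₀, fun t ht hxt => ?_⟩ ?_
  · obtain ⟨s, hs, rfl⟩ := hRS t ht
    obtain ⟨s', hs', hss'⟩ := hRS _ hxt
    have h1 : s' = x₀ * s * x₀⁻¹ := by
      refine huniqS _ _ (hSpow _ hs') ?_ (by rw [hss', map_mul, map_mul, map_inv])
      obtain ⟨k, hk⟩ := hSpow _ hs
      refine ⟨k, ?_⟩
      rw [conj_pow, hk]
      group
    rw [hx₀ s hs (h1 ▸ hs'), map_one]
  · intro β hβ hβp hβout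
    -- the companion has order `p`
    have hθ1 : χ ⟨β, hβ⟩ ≠ 1 := by
      intro h
      obtain ⟨t, ht⟩ := hχ _ h
      exact hβout t ht
    have hθp : orderOf (χ ⟨β, hβ⟩) = p := by
      refine orderOf_eq_prime ?_ hθ1
      rw [← map_pow]
      convert map_one χ
      apply Subtype.ext
      change β ^ p = 1
      rw [← hβp]
      exact pow_orderOf_eq_one β
    by_cases hR : R = ⊥
    · -- `p` does not divide the order
      have hβ1 : β ≠ 1 := by
        rintro rfl
        rw [orderOf_one] at hβp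
        exact hp.out.one_lt.ne hβp
      obtain ⟨a, ha⟩ : ∃ a, β a ≠ a := by
        by_contra hcon
        push Not at hcon
        exact hβ1 (MulEquiv.ext hcon)
      refine ⟨a, fun r hr => ?_, fun hd => ?_, ha⟩
      · rw [hR, Subgroup.mem_bot] at hr
        rw [hr, mul_one, one_mul]
      · rw [hR, Subgroup.index_bot] at hRi
        exact hRi (hd.trans (orderOf_dvd_natCard a))
    · -- a fixed point of `P` on `R`
      have hPR : ∀ y ∈ P, ∀ r ∈ R, y r ∈ R := by
        intro y hy r hr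
        change MulAut.conj (y r) ∈ P
        rw [← conj_apply_aut]
        exact P.mul_mem (P.mul_mem hy hr) (P.inv_mem hy)
      obtain ⟨b, hbR, hb1', hbfix⟩ := exists_fixed P.2 hRp hR hPR
      -- its lift, of order `p`
      obtain ⟨z₀, hz₀S, hz₀b⟩ := hRS _ hbR
      obtain ⟨k, hk⟩ := hSpow _ hz₀S
      have hz₀1 : z₀ ≠ 1 := by
        rintro rfl
        exact hb1' (by rw [← hz₀b, map_one])
      obtain ⟨m, hzp, hz1⟩ := exists_pow_order hp.out hz₀1 hk
      obtain ⟨z, hzdef⟩ : ∃ z, z = z₀ ^ m := ⟨_, rfl⟩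
      rw [← hzdef] at hzp hz1
      have hzfix : ∀ y ∈ P, y (proj ⇑Q z) = proj ⇑Q z := by
        intro y hy
        rw [hzdef, map_pow, map_pow, hz₀b, hbfix y hy]
      let zL : Module.End F (ι → F) := (lin hG z : (ι → F) →ₗ[F] (ι → F))
      have hzL : ∀ v, zL v = rho ⇑Q z v := fun _ => rfl
      have hzLn : ∀ (n : ℕ) (v : ι → F), (zL ^ n) v = rho ⇑Q (z ^ n) v := by
        intro n
        induction n with
        | zero => intro v; rw [pow_zero, pow_zero, map_one]; rfl
        | succ n ih => intro v; rw [pow_succ, pow_succ, Module.End.mul_apply, ih, map_mul]; rfl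
      have hzLp : zL ^ p = 1 := by
        refine LinearMap.ext fun v => ?_
        rw [hzLn, hzp, map_one]
        rfl
      have hzL1 : zL ≠ 1 := by
        intro h
        apply hz1
        apply rho_injective ⇑Q
        ext v : 1
        rw [← hzL, h, map_one]
        rfl
      have hzQ : ∀ v, Q (zL v) = Q v := fun v => by rw [hzL, rho_eq_act, map_act]
      obtain ⟨G, s, hs, hs2, hsp, hGs, hGG, hG1, hGθ⟩ := exists_poly3 hp3 hF8 hpF (θ := θf ⟨β, hβ⟩) hθp hzLp hzL1
      -- the element `a`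
      have haQ : ∀ v, Q (Polynomial.aeval zL G v) = Q v :=
        isometry_aeval Q hp.out.pos hpF hzLp hzQ hGG hG1
      have hsodd : Odd s := hs.odd_of_ne_two hs2
      obtain ⟨a, ha⟩ := exists_omega_elt Q hQ (card_ge hG) (LinearEquiv.refl F (ι → F)) (Q' := ⇑Q) (fun _ => rfl)
        (T := Polynomial.aeval zL G) haQ hsodd hGs
      have ha' : ∀ v, rho ⇑Q a v = Polynomial.aeval zL G v := ha
      have hpowa : ∀ (n : ℕ) (v : ι → F), rho ⇑Q (a ^ n) v = ((Polynomial.aeval zL G) ^ n) v := by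
        intro n
        induction n with
        | zero => intro v; rw [pow_zero, pow_zero, map_one]; rfl
        | succ n ih => intro v; rw [pow_succ, pow_succ, Module.End.mul_apply, map_mul, Equiv.Perm.mul_apply, ih, ha']
      have has : a ^ s = 1 := by
        apply rho_injective ⇑Q
        ext v : 1
        rw [hpowa, hGs, map_one]
        rfl
      refine ⟨proj ⇑Q a, fun r hr => ?_, fun hd => ?_, fun hcon => ?_⟩
      · obtain ⟨r', hr'S, rfl⟩ := hRS r hr
        -- `r'` commutes with `z`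
        have h1 : r' * z * r'⁻¹ = z := by
          refine huniqS _ _ ⟨1, ?_⟩ ⟨1, by rw [pow_one, hzp]⟩ ?_
          · rw [pow_one, conj_pow, hzp]
            group
          · rw [map_mul, map_mul, map_inv]
            have h2 := hzfix _ hr
            rw [MulAut.conj_apply] at h2
            exact h2
        have h2 : r' * z = z * r' := by
          nth_rw 2 [← h1]
          group
        have h3 : ∀ v, rho ⇑Q r' (zL v) = zL (rho ⇑Q r' v) := by
          intro v
          rw [hzL, hzL, ← Equiv.Perm.mul_apply, ← Equiv.Perm.mul_apply, ← map_mul, ← map_mul, h2]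
        have h4 : ∀ v, rho ⇑Q r' (Polynomial.aeval zL G v) = Polynomial.aeval zL G (rho ⇑Q r' v) := by
          intro v
          have h5 := semi_aeval (z := zL) (θ := RingEquiv.refl F) (y := rho ⇑Q r')
            (fun u v => by rw [rho_apply, rho_apply, rho_apply, Matrix.mulVec_add])
            (fun a v => by rw [rho_apply, rho_apply, Matrix.mulVec_smul]; rfl) h3 G v
          rw [h5]
          congr 2
          exact Polynomial.map_id
        have h5 : a * r' = r' * a := by
          apply rho_injective ⇑Q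
          ext v : 1
          rw [map_mul, map_mul, Equiv.Perm.mul_apply, Equiv.Perm.mul_apply, ha', ha', h4]
        rw [← map_mul, ← map_mul, h5]
      · have h1 : orderOf (proj ⇑Q a) ∣ s := orderOf_dvd_of_pow_eq_one (by rw [← map_pow, has, map_one])
        exact hsp ((Nat.prime_dvd_prime_iff_eq hp.out hs).1 (hd.trans h1)).symm
      · -- `y` the lift of `β`
        set y := yf ⟨β, hβ⟩ with hy
        -- `y` commutes with `z`
        obtain ⟨z', hz', hz'2⟩ := hind ⟨β, hβ⟩ z
        have hz'z : z' = z := by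
          refine huniqS _ _ ⟨1, ?_⟩ ⟨1, by rw [pow_one, hzp]⟩ ?_
          · apply rho_injective ⇑Q
            rw [pow_one, map_pow, hz', conj_pow, ← map_pow, hzp, map_one]
            group
          · rw [← hz'2]
            exact hzfix β hβ
        have hyz : ∀ v, y (zL v) = zL (y v) := by
          intro v
          have h1 : rho ⇑Q z * y = y * rho ⇑Q z := by
            rw [hz'z, eq_mul_inv_iff_mul_eq] at hz'
            exact hz'
          rw [hzL, hzL, ← Equiv.Perm.mul_apply, ← Equiv.Perm.mul_apply, h1]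
        obtain ⟨a', ha'1, ha'2⟩ := hind ⟨β, hβ⟩ a
        have haa : a' = a := by
          refine eq_of_proj hG ?_ hsodd ?_ has
          · rw [← ha'2]
            exact hcon
          · apply rho_injective ⇑Q
            rw [map_pow, ha'1, conj_pow, ← map_pow, has, map_one]
            group
        apply hGθ
        refine LinearMap.ext fun v => ?_
        obtain ⟨u, rfl⟩ := y.surjective v
        have h1 := semi_aeval (z := zL) (θ := θf ⟨β, hβ⟩) (y := y) (hsemi ⟨β, hβ⟩).1 (hsemi ⟨β, hβ⟩).2 hyz G u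
        rw [← h1, ← ha', ← ha']
        have h2 : y * rho ⇑Q a = rho ⇑Q a * y := by
          rw [haa, eq_mul_inv_iff_mul_eq] at ha'1
          exact ha'1.symm
        rw [← Equiv.Perm.mul_apply, ← Equiv.Perm.mul_apply, h2]

section rows

open Cfsg.Agent.LieClassical.QuadForms

variable {p m : ℕ} [hp : Fact p.Prime] {F : Type*} [Field F]

/-- Task 1594, plus type, `m ≥ 5`, `|F| ≠ 8`. -/
theorem meet3_POmega_plus_cross_ne [Finite F] (hp3 : 3 ≤ p) (hF4 : 4 ≤ Nat.card F) (hF8 : Nat.card F ≠ 8)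
    (hpF : (p : F) ≠ 0) (hm : 5 ≤ m) : Meet p (POmega F (quadFormPlus m F)) := by
  have h1 : ∀ P : Subgroup (MulAut (POmega F (quadFormPlus m F))), IsPGroup p P → ∀ β ∈ P,
    AutOrth.Main.Ind (quadFormPlus m F) β := fun _ _ β _ => all_plus hm β
  revert h1
  rw [← coe_plusForm]
  intro h1
  exact meet_cross3 hp3 hF8 hpF (good_plus (by omega)) h1
    (Cfsg.Agent.H903.SylRegT.regO p hp3 F hF4 _ hpF (by simp; omega))

/-- Task 1594, minus type, `|F| ≠ 8`. -/
theorem meet3_POmega_minus_cross_ne [Finite F] (hp3 : 3 ≤ p) (hF4 : 4 ≤ Nat.card F) (hF8 : Nat.card F ≠ 8)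
    (hpF : (p : F) ≠ 0) (hm : 3 ≤ m) (a b : F)
    (hab : ∀ z₁ z₂ : F, z₁ ^ 2 + a * z₁ * z₂ + b * z₂ ^ 2 = 0 → z₁ = 0 ∧ z₂ = 0) :
    Meet p (POmega F (quadFormMinus m F a b)) := by
  have h1 : ∀ P : Subgroup (MulAut (POmega F (quadFormMinus m F a b))), IsPGroup p P → ∀ β ∈ P,
    AutOrth.Main.Ind (quadFormMinus m F a b) β := fun _ _ β _ => all_minus hm hab β
  revert h1
  rw [← coe_minusForm]
  intro h1
  exact meet_cross3 hp3 hF8 hpF (good_minus (by omega) hab) h1
    (Cfsg.Agent.H903.SylRegT.regO p hp3 F hF4 _ hpF (by simp; omega))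

/-- Task 1594, odd dimension (`q` odd, `q ≥ 5`). -/
theorem meet3_POmega_odd_cross [Fintype F] (hp3 : 3 ≤ p) (hF4 : 4 ≤ Nat.card F) (hpF : (p : F) ≠ 0) (hm : 3 ≤ m)
    (ho : Odd (Fintype.card F)) : Meet p (POmega F (quadFormOdd m F)) := by
  have h2 : (2 : F) ≠ 0 := LieClassical.PomegaCard.odd_card_iff.1 ho
  have hF8 : Nat.card F ≠ 8 := by
    rw [Nat.card_eq_fintype_card]
    intro h
    rw [h] at ho
    exact absurd ho (by decide)
  have h1 : ∀ P : Subgroup (MulAut (POmega F (quadFormOdd m F))), IsPGroup p P → ∀ β ∈ P,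
    AutOrth.Main.Ind (quadFormOdd m F) β := fun _ _ β _ => all_odd hm h2 β
  revert h1
  rw [← coe_oddForm]
  intro h1
  exact meet_cross3 hp3 hF8 hpF (good_odd (by omega) h2) h1
    (Cfsg.Agent.H903.SylRegT.regO p hp3 F hF4 _ hpF (by simp; omega))

end rows

end Cfsg.Agent.H579.Mpo
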