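import Cfsg.Agent.H579.EightBlk
import Cfsg.Agent.H579.MpoMainT
import Cfsg.Agent.ClassicalGeometry.WittQuad

/-!
# Orthogonal groups over a field of order `8`, `p = 3` (helper579, for S2484)

`meet_eight` : `Meet 3 (POmega F Q)`, `|F| = 8`.
-/

set_option autoImplicit false
set_option linter.unusedSectionVars false
set_option linter.style.haveILetI false

namespace Cfsg.Agent.H579.Eight

open Cfsg QuadraticMap Cfsg.Agent.H903.SylMeet Cfsg.Agent.H903.SylSemi Cfsg.Agent.H903.SylReg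
open Cfsg.Agent.LieClassical.OrthCore Cfsg.Agent.LieClassical.OrthTrans
open Cfsg.Agent.LieClassical.OrthCenter
open Cfsg.Agent.AutOrth.Main
open Cfsg.Agent.H152 Cfsg.Agent.H152.MeetOmega Cfsg.Agent.H579.OmElt Cfsg.Agent.H579.Mpo
open scoped Matrix

section refl

variable {F : Type*} [Field F] {V : Type*} [AddCommGroup V] [Module F V] [Finite V] [FiniteDimensional F V]
  (Q : QuadraticForm F V)

theorem polar_semi {y : Equiv.Perm V} {θ : F ≃+* F} (hθ : Semi F y θ) (hq : ∀ v, Q (y v) = θ (Q v)) (a b : V) :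
    polar Q (y a) (y b) = θ (polar Q a b) := by
  rw [polar, polar, ← hθ.1, hq, hq, hq, map_sub, map_sub]

/-- **The reflection trick**, semilinear form. -/
theorem refl_semi (hQ : ∀ x, (∀ y, polar Q x y = 0) → x = 0)
    {Γ : Subgroup (Equiv.Perm V)} (hs : ∀ y ∈ Γ, ∃ θ : F ≃+* F, Semi F y θ ∧ ∀ v, Q (y v) = θ (Q v)) {v : V} (hv : Q v ≠ 0)
    (hreg : ∀ y ∈ Γ, ∀ a : F, y v = a • v → y = 1) (hav : Avoid (lp (F := F) Γ) v) {y y' : Equiv.Perm V} (hy : y ∈ Γ)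
    (hy' : y' ∈ Γ) {r : Equiv.Perm V} (hr : ∀ x, r x = x - ((Q v)⁻¹ * polar Q v x) • v) (hyy : y' * r = r * y) :
    y = 1 := by
  have hv0 : v ≠ 0 := by
    rintro rfl
    exact hv (map_zero Q)
  obtain ⟨θ, hθ, hθQ⟩ := hs y hy
  set w : V := y v with hw
  have hQw : Q w = θ (Q v) := hθQ v
  have hypol : ∀ b, polar Q w (y b) = θ (polar Q v b) := fun b => polar_semi Q hθ hθQ v b
  by_cases hdep : ∃ c : F, w = c • v
  · obtain ⟨c, hc⟩ := hdep
    exact hreg y hy c hc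
  · exfalso
    have hzΓ : y' * y⁻¹ ∈ Γ := Γ.mul_mem hy' (Γ.inv_mem hy)
    have hrr : ∀ x, r (r x) = x := by
      intro x
      rw [hr, hr]
      have h1 : polar Q v v = 2 * Q v := by
        rw [QuadraticMap.polar_self, two_smul, two_mul]
      rw [polar_sub_right, polar_smul_right, h1, smul_eq_mul, sub_sub, ← add_smul]
      have h2 : (Q v)⁻¹ * polar Q v x + (Q v)⁻¹ * (polar Q v x - (Q v)⁻¹ * polar Q v x * (2 * Q v)) = 0 := by
        field_simp
        ring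
      rw [h2, zero_smul, sub_zero]
    have hz : ∀ x, (y' * y⁻¹) x = r (x - ((Q w)⁻¹ * polar Q w x) • w) := by
      intro x
      obtain ⟨u, rfl⟩ := y.surjective x
      have h1 : (y' * y⁻¹) (y u) = y' u := by
        rw [← Equiv.Perm.mul_apply, mul_assoc, inv_mul_cancel, mul_one]
      have h2 : y' u = r (y (r u)) := by
        have h3 := congrFun (congrArg DFunLike.coe hyy) (r u)
        rw [Equiv.Perm.mul_apply, Equiv.Perm.mul_apply, hrr] at h3
        exact h3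
      have h4 : y (r u) = y u - ((Q w)⁻¹ * polar Q w (y u)) • w := by
        rw [hr, sub_eq_add_neg, hθ.1, ← neg_smul, hθ.2, map_neg, neg_smul, ← sub_eq_add_neg, map_mul, map_inv₀, hypol, hQw]
      rw [h1, h2, h4]
    have hradd : ∀ a b, r (a + b) = r a + r b := by
      intro a b
      rw [hr, hr, hr, polar_add_right]
      module
    have hrsmul : ∀ (a : F) b, r (a • b) = a • r b := by
      intro a b
      rw [hr, hr, polar_smul_right, smul_eq_mul]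
      module
    obtain ⟨z, hzl, hzz⟩ := exists_lp (F := F) hzΓ (θ := RingEquiv.refl F) ⟨fun a b => by
        rw [hz, hz, hz, ← hradd, polar_add_right]
        congr 1
        module, fun a b => by
        rw [hz, hz, ← hrsmul, polar_smul_right, smul_eq_mul]
        congr 1
        change a • b - _ = a • _
        module⟩ fun a => rfl
    have hzx' : ∀ x, z x = r (x - ((Q w)⁻¹ * polar Q w x) • w) := fun x => by
      rw [← hz, ← hzz]
      rfl
    have hcom : com z ≤ Submodule.span F ({v, w} : Set V) := by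
      rintro _ ⟨x, rfl⟩
      rw [LinearMap.sub_apply, LinearMap.id_apply, LinearEquiv.coe_coe, hzx', hr, Submodule.mem_span_pair]
      refine ⟨-((Q v)⁻¹ * polar Q v (x - ((Q w)⁻¹ * polar Q w x) • w)), -((Q w)⁻¹ * polar Q w x), ?_⟩
      module
    have hle : Module.finrank F (com z) ≤ 2 := by
      classical
      refine (Submodule.finrank_mono hcom).trans ?_
      have h1 := finrank_span_finset_le_card (R := F) ({v, w} : Finset V)
      rw [Finset.coe_insert, Finset.coe_singleton] at h1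
      exact h1.trans Finset.card_le_two
    have hw0 : w ≠ 0 := by
      intro h0
      apply hdep
      exact ⟨0, by rw [h0, zero_smul]⟩
    -- a vector orthogonal to `w` and not to `v`
    obtain ⟨x, hxw, hxv⟩ : ∃ x, polar Q w x = 0 ∧ polar Q v x ≠ 0 := by
      by_contra hcon
      push Not at hcon
      obtain ⟨x₀, hx₀⟩ : ∃ x, polar Q w x ≠ 0 := by
        by_contra hcon2
        push Not at hcon2
        exact hw0 (hQ w hcon2)
      have h1 : ∀ x, polar Q v x = polar Q w x * ((polar Q w x₀)⁻¹ * polar Q v x₀) := by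
        intro x
        have h2 := hcon (x - (polar Q w x * (polar Q w x₀)⁻¹) • x₀) (by
          rw [polar_sub_right, polar_smul_right, smul_eq_mul, mul_assoc, inv_mul_cancel₀ hx₀, mul_one, sub_self])
        rw [polar_sub_right, polar_smul_right, smul_eq_mul] at h2
        linear_combination h2
      set μ : F := (polar Q w x₀)⁻¹ * polar Q v x₀ with hμ
      have h3 : v = μ • w := by
        rw [← sub_eq_zero]
        apply hQ
        intro y
        rw [polar_sub_left, polar_smul_left, h1 y, smul_eq_mul, mul_comm, sub_self]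
      have hμ0 : μ ≠ 0 := by
        intro h0
        rw [h0, zero_smul] at h3
        exact hv0 h3
      apply hdep
      exact ⟨μ⁻¹, by rw [h3, smul_smul, inv_mul_cancel₀ hμ0, one_smul]⟩
    have hzx : z x - x = (-((Q v)⁻¹ * polar Q v x)) • v := by
      rw [hzx', hxw, mul_zero, zero_smul, sub_zero, hr]
      module
    have hc0 : (-((Q v)⁻¹ * polar Q v x)) ≠ 0 := neg_ne_zero.2 (mul_ne_zero (inv_ne_zero hv) hxv)
    have hvcom : v ∈ com z := by
      have h1 : z x - x ∈ com z := ⟨x, rfl⟩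
      rw [hzx] at h1
      have h2 := Submodule.smul_mem _ (-((Q v)⁻¹ * polar Q v x))⁻¹ h1
      rwa [smul_smul, inv_mul_cancel₀ hc0, one_smul] at h2
    have hz1 : z ≠ 1 := by
      rintro rfl
      obtain ⟨u, hu⟩ := hvcom
      apply hv0
      rw [← hu]
      exact sub_self u
    have h3 := hav z hzl hz1 hvcom
    omega

end refl

section main

variable {ι : Type} [Fintype ι] [DecidableEq ι] {F : Type*} [Field F] [Finite F] {Q : QuadraticForm F (ι → F)}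

/-- an isometry as a permutation -/
def pm (M : ↥(isometryGroup F ⇑Q)) : Equiv.Perm (ι → F) := rhoGL (M : Matrix.GeneralLinearGroup ι F)

theorem pm_apply (M : ↥(isometryGroup F ⇑Q)) (v : ι → F) : pm M v = act Q M v := rfl

theorem pm_mul (M N : ↥(isometryGroup F ⇑Q)) : pm (M * N) = pm M * pm N := map_mul rhoGL _ _

theorem pm_inv (M : ↥(isometryGroup F ⇑Q)) : pm M⁻¹ = (pm M)⁻¹ := map_inv rhoGL _

theorem pm_injective : Function.Injective (pm (Q := Q)) := fun _ _ h => Subtype.ext (rhoGL_injective h)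

theorem rho_eq_pm (s : ↥(Omega F ⇑Q)) : rho ⇑Q s = pm (s : ↥(isometryGroup F ⇑Q)) := rfl

/-- commutators of isometries are in `Ω` -/
theorem comm_mem (hG : Good Q) (a b : ↥(isometryGroup F ⇑Q)) : a * b * a⁻¹ * b⁻¹ ∈ Omega F ⇑Q := by
  have h := fun g => H377.mul_self_mem_Omega Q hG.nondeg (card_ge hG) g
  have e : a * b * a⁻¹ * b⁻¹ = (a * b) * (a * b) * ((b⁻¹ * a⁻¹ * b) * (b⁻¹ * a⁻¹ * b)) * (b⁻¹ * b⁻¹) := by group
  rw [e]
  exact mul_mem (mul_mem (h _) (h _)) (h _)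

/-- the commutator of a reflection with a semilinear isometry is in `Ω` -/
theorem refl_comm (hF : Nat.card F = 8) (hG : Good Q) {v : ι → F} (hv : Q v ≠ 0) {M : ↥(isometryGroup F ⇑Q)}
    (hM : ∀ x, pm M x = x - ((Q v)⁻¹ * polar Q v x) • v) {y : Equiv.Perm (ι → F)} {θ : F ≃+* F} (hθ : Semi F y θ)
    (hq : ∀ v, Q (y v) = θ (Q v)) : ∃ s : ↥(Omega F ⇑Q), rho ⇑Q s = pm M * y * (pm M)⁻¹ * y⁻¹ := by
  have hQ : Nondeg Q := hG.nondeg
  have hv0 : v ≠ 0 := by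
    rintro rfl
    exact hv (map_zero Q)
  have hw : Q (y v) ≠ 0 := by
    rw [hq]
    exact fun h => hv ((map_eq_zero θ).1 h)
  have hw0 : y v ≠ 0 := by
    intro h
    rw [h, QuadraticMap.map_zero] at hw
    exact hw rfl
  let c : F := (Q v / Q (y v)) ^ 4
  have hc : c * c = Q v / Q (y v) := by
    change (Q v / Q (y v)) ^ 4 * (Q v / Q (y v)) ^ 4 = Q v / Q (y v)
    rw [← pow_add]
    exact pow8 hF _
  have hc0 : c ≠ 0 := pow_ne_zero _ (div_ne_zero hv hw)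
  have hQw : Q (c • y v) = Q v := by
    rw [QuadraticMap.map_smul, smul_eq_mul, hc, div_mul_cancel₀ _ hw]
  obtain ⟨g, hg, hgv⟩ := Cfsg.Agent.ClassicalGeometry.WittQuad.extend_family Q (H377.nondegenerate_of_nondeg hQ) 1
    ![v] ![c • y v] (by simpa using hv0) (by simpa using ⟨hc0, hw0⟩) (fun i => by fin_cases i; exact hQw.symm) (fun i j => by
      fin_cases i; fin_cases j
      change polarBilin Q v v = polarBilin Q (c • y v) (c • y v)
      rw [polarBilin_apply_apply, polarBilin_apply_apply, QuadraticMap.polar_self, QuadraticMap.polar_self, hQw])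
  have hgv' : g v = c • y v := hgv 0
  obtain ⟨h, hh⟩ := exists_isom_elt Q hQ (LinearEquiv.refl F (ι → F)) (Q' := ⇑Q) (fun _ => rfl)
    (T := (g : (ι → F) →ₗ[F] (ι → F))) hg
  have hh' : ∀ x, pm h x = g x := hh
  -- the conjugate reflections agree
  have hrr : ∀ x, pm M (pm M x) = x := by
    intro x
    rw [hM, hM]
    have h1 : polar Q v v = 2 * Q v := by
      rw [QuadraticMap.polar_self, two_smul, two_mul]
    rw [polar_sub_right, polar_smul_right, h1, smul_eq_mul, sub_sub, ← add_smul]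
    have h2 : (Q v)⁻¹ * polar Q v x + (Q v)⁻¹ * (polar Q v x - (Q v)⁻¹ * polar Q v x * (2 * Q v)) = 0 := by
      field_simp
      ring
    rw [h2, zero_smul, sub_zero]
  have hMi : (pm M)⁻¹ = pm M := by
    rw [inv_eq_iff_mul_eq_one]
    ext1 x
    exact hrr x
  have key : y * pm M * y⁻¹ = pm h * pm M * (pm h)⁻¹ := by
    rw [mul_inv_eq_iff_eq_mul]
    ext1 x
    simp only [Equiv.Perm.mul_apply]
    have e1 : y (pm M x) = y x - ((Q (y v))⁻¹ * polar Q (y v) (y x)) • y v := by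
      rw [hM, sub_eq_add_neg, hθ.1, ← neg_smul, hθ.2, map_neg, neg_smul, ← sub_eq_add_neg, map_mul, map_inv₀,
        polar_semi Q hθ hq, hq]
    obtain ⟨u, hu⟩ := g.surjective (y x)
    have e2 : (pm h)⁻¹ (y x) = u := by
      rw [Equiv.Perm.inv_eq_iff_eq, hh', hu]
    rw [e1, e2, hh', hM, map_sub, map_smul, hu, hgv', smul_smul]
    congr 2
    have e3 : polar Q v u = c * polar Q (y v) (y x) := by
      have e4 : polar Q (g v) (g u) = polar Q v u := by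
        simp only [polar, ← map_add, hg]
      rw [← e4, hgv', hu, polar_smul_left, smul_eq_mul]
    rw [e3]
    have e5 : (Q v)⁻¹ * (c * polar Q (y v) (y x)) * c = (Q v)⁻¹ * (c * c) * polar Q (y v) (y x) := by ring
    rw [e5, hc]
    field_simp
  refine ⟨⟨_, comm_mem hG M h⟩, ?_⟩
  rw [rho_eq_pm]
  change pm (M * h * M⁻¹ * h⁻¹) = _
  rw [pm_mul, pm_mul, pm_mul, pm_inv, pm_inv, hMi]
  have e6 : pm M * y * pm M * y⁻¹ = pm M * (y * pm M * y⁻¹) := by group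
  rw [e6, key]
  group

/-- semilinear isometries -/
def YY (Q : QuadraticForm F (ι → F)) (y : Equiv.Perm (ι → F)) : Prop := ∃ θ : F ≃+* F, Semi F y θ ∧ ∀ v, Q (y v) = θ (Q v)

theorem YY.mul {y y' : Equiv.Perm (ι → F)} (h : YY Q y) (h' : YY Q y') : YY Q (y * y') := by
  obtain ⟨θ, hθ, hq⟩ := h
  obtain ⟨θ', hθ', hq'⟩ := h'
  exact ⟨_, semi_mul hθ hθ', fun v => by
    rw [Equiv.Perm.mul_apply, hq, hq']
    rfl⟩

theorem YY.one : YY Q 1 := ⟨RingEquiv.refl F, ⟨fun _ _ => rfl, fun _ _ => rfl⟩, fun _ => rfl⟩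

theorem YY.pow {y : Equiv.Perm (ι → F)} (h : YY Q y) (n : ℕ) : YY Q (y ^ n) := by
  induction n with
  | zero => rw [pow_zero]; exact YY.one
  | succ n ih => rw [pow_succ]; exact ih.mul h

theorem YY.inv {y : Equiv.Perm (ι → F)} (h : YY Q y) : YY Q y⁻¹ := by
  have e1 : y ^ (orderOf y - 1) = y⁻¹ := by
    rw [eq_inv_iff_mul_eq_one, ← pow_succ, Nat.sub_add_cancel (orderOf_pos y), pow_orderOf_eq_one]
  rw [← e1]
  exact h.pow _

theorem YY.semiO {y : Equiv.Perm (ι → F)} (h : YY Q y) : SemiO F ⇑Q y := by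
  obtain ⟨θ, hθ, hq⟩ := h
  exact ⟨θ, 1, one_ne_zero, hθ, fun v => by rw [hq, one_mul]⟩

theorem YY.pm (M : ↥(isometryGroup F ⇑Q)) : YY Q (pm M) :=
  ⟨RingEquiv.refl F, ⟨fun a b => by
    change _ *ᵥ _ = _ *ᵥ _ + _ *ᵥ _
    rw [Matrix.mulVec_add], fun a b => by
    change _ *ᵥ _ = _ • (_ *ᵥ _)
    rw [Matrix.mulVec_smul]
    rfl⟩, fun v => by
    rw [pm_apply, map_act]
    rfl⟩

theorem exists_Q_ne (hG : Good Q) : ∃ v, Q v ≠ 0 := by
  by_contra hcon
  push Not at hcon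
  obtain ⟨x, hx0, -⟩ := hG.sing
  exact hx0 (hG.nondeg x fun y => by rw [polar, hcon, hcon, hcon, sub_zero, sub_zero])

theorem YY.unique (hF : Nat.card F = 8) (hG : Good Q) {y y' : Equiv.Perm (ι → F)} (h : YY Q y) (h' : YY Q y')
    {β : MulAut (POmega F ⇑Q)} (hi : H903.SylSemi.Ind (proj ⇑Q) (rho ⇑Q) y β)
    (hi' : H903.SylSemi.Ind (proj ⇑Q) (rho ⇑Q) y' β) : y = y' := by
  haveI : Nontrivial (ι → F) := Module.nontrivial_of_finrank_pos (R := F) (by have := hG.dim; omega)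
  have h1 := hi.mul hi'.inv
  rw [mul_inv_cancel] at h1
  have h2 := h.mul h'.inv
  obtain ⟨a, ha⟩ := MeetOmega.unique hG h2.semiO h1
  obtain ⟨θ, hθ, hq⟩ := h2
  have h3 : θ = (1 : RingAut F) := by
    apply semi_unique (V := ι → F) hθ
    rw [ha]
    exact semi_scal a
  obtain ⟨v, hv⟩ := exists_Q_ne hG
  have h4 := hq v
  rw [ha, scal_apply, QuadraticMap.map_smul, h3, smul_eq_mul] at h4
  have h5 : (a : F) ^ 2 = 1 := by
    apply mul_right_cancel₀ hv
    rw [pow_two, h4, one_mul]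
    rfl
  have h6 := eq_one8 hF h5
  rw [← mul_inv_eq_one, ha]
  ext1 v
  rw [scal_apply, h6, one_smul]
  rfl

/-- a semisimilarity has a scalar multiple which is a semilinear isometry -/
theorem exists_YY (hF : Nat.card F = 8) (hG : Good Q) {β : MulAut (POmega F ⇑Q)} (hβ : AutOrth.Main.Ind ⇑Q β) :
    ∃ y, YY Q y ∧ H903.SylSemi.Ind (proj ⇑Q) (rho ⇑Q) y β := by
  obtain ⟨y, ⟨θ, c, hc, hs, hf⟩, hi⟩ := exists_of_ind hG hβ
  have hd : c ^ 4 * c ^ 4 = c := by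
    rw [← pow_add]
    exact pow8 hF _
  have hd0 : c ^ 4 ≠ 0 := pow_ne_zero _ hc
  have hscal : H903.SylSemi.Ind (proj ⇑Q) (rho ⇑Q) (scal F (ι → F) (Units.mk0 _ hd0)⁻¹) 1 := by
    intro s
    refine ⟨s, ?_, rfl⟩
    rw [eq_mul_inv_iff_mul_eq]
    ext v : 1
    simp only [Equiv.Perm.mul_apply, scal_apply]
    rw [rho_apply, rho_apply, Matrix.mulVec_smul]
  refine ⟨scal F (ι → F) (Units.mk0 _ hd0)⁻¹ * y, ⟨_, semi_mul (semi_scal _) hs, fun v => ?_⟩, ?_⟩
  · rw [Equiv.Perm.mul_apply, scal_apply, QuadraticMap.map_smul, hf, Units.val_inv_eq_inv_val, Units.val_mk0, smul_eq_mul]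
    change (c ^ 4)⁻¹ * (c ^ 4)⁻¹ * (c * θ (Q v)) = θ (Q v)
    rw [← mul_inv, hd, inv_mul_cancel_left₀ hc]
  · have h1 := hscal.mul hi
    rwa [one_mul] at h1

set_option maxHeartbeats 1000000 in
/-- **Orthogonal groups over a field of order `8`, `p = 3`** -/
theorem meet_eight (hF : Nat.card F = 8) (hG : Good Q)
    (hall : ∀ P : Subgroup (MulAut (POmega F ⇑Q)), IsPGroup 3 P → ∀ β ∈ P, AutOrth.Main.Ind ⇑Q β)
    (hT : ∃ s : ↥(Omega F ⇑Q), s ^ 3 = 1 ∧ s ≠ 1 ∧ ∃ x, x ≠ 0 ∧ rho ⇑Q s x = x) : Meet 3 (POmega F ⇑Q) := by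
  classical
  haveI : Fact (Nat.Prime 3) := ⟨Nat.prime_three⟩
  have hQ : Nondeg Q := hG.nondeg
  have h2F := two8 hF
  have h3F : ((3 : ℕ) : F) ≠ 0 := by
    intro h
    apply one_ne_zero (α := F)
    push_cast at h
    linear_combination h - h2F
  haveI := isSimple hG
  haveI : Finite (POmega F ⇑Q) := inferInstance
  have hinj := conj_injective (not_comm hG)
  haveI : Nontrivial (ι → F) := Module.nontrivial_of_finrank_pos (R := F) (by have := hG.dim; omega)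
  obtain ⟨P⟩ : Nonempty (Sylow 3 (MulAut (POmega F ⇑Q))) := inferInstance
  apply meet_of_sylow P
  let π := proj ⇑Q
  let ρ := rho ⇑Q
  -- the semilinear group
  let Γ : Subgroup (Equiv.Perm (ι → F)) :=
    { carrier := {y | YY Q y ∧ ∃ β ∈ P, H903.SylSemi.Ind (proj ⇑Q) (rho ⇑Q) y β}
      mul_mem' := by
        rintro y y' ⟨h1, β, h2, h3⟩ ⟨h1', β', h2', h3'⟩
        exact ⟨h1.mul h1', β * β', P.mul_mem h2 h2', h3.mul h3'⟩
      one_mem' := ⟨YY.one, 1, P.one_mem, H903.SylSemi.Ind.one _ _⟩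
      inv_mem' := by
        rintro y ⟨h1, β, h2, h3⟩
        exact ⟨h1.inv, β⁻¹, P.inv_mem h2, h3.inv⟩ }
  have hΓm : ∀ y, y ∈ Γ ↔ YY Q y ∧ ∃ β ∈ P, H903.SylSemi.Ind (proj ⇑Q) (rho ⇑Q) y β := fun _ => Iff.rfl
  have hΓp : IsPGroup 3 Γ := by
    rintro ⟨y, h1, β, h2, h3⟩
    obtain ⟨k, hk⟩ := P.2 ⟨β, h2⟩
    have hk' : β ^ 3 ^ k = 1 := congrArg Subtype.val hk
    refine ⟨k, Subtype.ext ?_⟩
    have h4 := h3.pow (3 ^ k)
    rw [hk'] at h4
    exact YY.unique hF hG (h1.pow _) YY.one h4 (H903.SylSemi.Ind.one _ _)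
  have hex : ∀ β ∈ P, ∃ y ∈ Γ, H903.SylSemi.Ind (proj ⇑Q) (rho ⇑Q) y β := by
    intro β hβ
    obtain ⟨y, hy, hi⟩ := exists_YY hF hG (hall _ P.2 β hβ)
    exact ⟨y, ⟨hy, β, hβ, hi⟩, hi⟩
  -- an element of order three with a fixed vector
  obtain ⟨g, hg, hg3, hg1, hgx⟩ : ∃ g : (ι → F) ≃ₗ[F] (ι → F), g ∈ lp (F := F) Γ ∧ g ^ 3 = 1 ∧ g ≠ 1 ∧
      ∃ x, x ≠ 0 ∧ g x = x := by
    obtain ⟨s, hs3, hs1, x, hx0, hx⟩ := hT
    let R : Subgroup (POmega F ⇑Q) := (P : Subgroup (MulAut (POmega F ⇑Q))).comap MulAut.conj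
    have hRp : IsPGroup 3 R := P.2.comap_of_injective _ hinj
    have hnorm : ((MulAut.conj : POmega F ⇑Q →* MulAut (POmega F ⇑Q)).range).Normal := ⟨by
      rintro _ ⟨t, rfl⟩ g
      exact ⟨g t, (conj_apply_aut g t).symm⟩⟩
    have hRi : ¬ 3 ∣ R.index := by
      have h1 : R.index = (P : Subgroup (MulAut (POmega F ⇑Q))).relIndex
          (MulAut.conj : POmega F ⇑Q →* MulAut (POmega F ⇑Q)).range := Subgroup.index_comap _ _
      rw [h1, relIndex_sup_of_normal]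
      intro h2
      exact P.not_dvd_index (h2.trans (Subgroup.relIndex_dvd_index_of_le le_sup_left))
    let R₁ : Sylow 3 (POmega F ⇑Q) := hRp.toSylow hRi
    have hz : IsPGroup 3 (Subgroup.zpowers (proj ⇑Q s)) := by
      rintro ⟨_, n, rfl⟩
      refine ⟨1, Subtype.ext ?_⟩
      change ((proj ⇑Q s) ^ n) ^ 3 ^ 1 = 1
      rw [pow_one, ← zpow_natCast, ← zpow_mul, mul_comm, zpow_mul, zpow_natCast, ← map_pow, hs3, map_one, one_zpow]
    obtain ⟨R₂, hR₂⟩ := hz.exists_le_sylow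
    obtain ⟨t, ht⟩ := MulAction.exists_smul_eq (POmega F ⇑Q) R₂ R₁
    obtain ⟨t', rfl⟩ := proj_surjective ⇑Q t
    have hmem : proj ⇑Q (t' * s * t'⁻¹) ∈ R := by
      have h1 : proj ⇑Q s ∈ (R₂ : Subgroup (POmega F ⇑Q)) := hR₂ (Subgroup.mem_zpowers _)
      have h2 : proj ⇑Q (t' * s * t'⁻¹) ∈ (proj ⇑Q t' • R₂ : Sylow 3 (POmega F ⇑Q)) := by
        rw [Sylow.smul_def]
        refine ⟨_, h1, ?_⟩
        rw [map_mul, map_mul, map_inv]
        rfl
      rw [ht] at h2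
      exact h2
    refine ⟨lin hG (t' * s * t'⁻¹), ?_, ?_, ?_, rho ⇑Q t' x, ?_, ?_⟩
    · refine (hΓm _).2 ⟨YY.pm (((t' * s * t'⁻¹ : ↥(Omega F ⇑Q))) : ↥(isometryGroup F ⇑Q)), _, hmem, ?_⟩
      exact H903.SylSemi.Ind.conj (proj ⇑Q) (rho ⇑Q) (t' * s * t'⁻¹)
    · rw [← map_pow, conj_pow, hs3, mul_one, mul_inv_cancel, map_one]
    · intro h
      have h1 : t' * s * t'⁻¹ = 1 := lin_injective hG (by rw [h, map_one])
      exact hs1 (conj_eq_one_iff.1 h1)
    · intro h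
      apply hx0
      have h0 : rho ⇑Q t' 0 = 0 := by
        rw [rho_apply, Matrix.mulVec_zero]
      exact (rho ⇑Q t').injective (h.trans h0.symm)
    · rw [lin_apply, ← Equiv.Perm.mul_apply, ← map_mul, inv_mul_cancel_right, map_mul, Equiv.Perm.mul_apply, hx]
  -- the regular point
  have hs : ∀ y ∈ Γ, ∃ θ : F ≃+* F, Semi F y θ ∧ ∀ v, Q (y v) = θ (Q v) := fun y hy => hy.1
  have hnd : ∀ x, (∀ y, QuadraticMap.polar Q x y = 0) → x = 0 := fun x hx => hQ x hx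
  obtain ⟨v, hv, hreg, hav⟩ : ∃ v, Q v ≠ 0 ∧ (∀ y ∈ Γ, ∀ a : F, y v = a • v → y = 1) ∧ Avoid (lp (F := F) Γ) v := by
    rcases exists_blocks h3F hΓp hs hg hg3 hg1 hgx with ⟨W, cp, B⟩ | ⟨W, cp, B⟩
    · exact semi_reg le_rfl hF h3F hnd hΓp hs B (Or.inr (by simp))
    · exact semi_reg le_rfl hF h3F hnd hΓp hs B (Or.inl (by simpa using h2F))
  -- the reflection
  let f : Module.End F (ι → F) := LinearMap.id - (LinearMap.toSpanSingleton F (ι → F) v).comp
    ((Q v)⁻¹ • (polarBilin Q v))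
  have hf : ∀ x, f x = x - ((Q v)⁻¹ * polar Q v x) • v := fun x => rfl
  have hfQ : ∀ x, Q (f x) = Q x := by
    intro x
    have h1 := Cfsg.Agent.ClassicalGeometry.Reflection.reflectionMatrix_isometry Q v hv x
    rwa [Cfsg.Agent.ClassicalGeometry.Reflection.reflectionMatrix_mulVec, ← hf] at h1
  obtain ⟨M, hM⟩ := exists_isom_elt Q hQ (LinearEquiv.refl F (ι → F)) (Q' := ⇑Q) (fun _ => rfl) (T := f) hfQ
  have hM' : ∀ x, pm M x = x - ((Q v)⁻¹ * polar Q v x) • v := hM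
  -- the automorphism it induces
  obtain ⟨μ, hμ⟩ : ∃ μ : MulAut (POmega F ⇑Q), H903.SylSemi.Ind (proj ⇑Q) (rho ⇑Q) (pm M) μ := by
    have h1 := (YY.pm M).semiO
    refine ⟨MulAut.congr (pe hG).symm (ClassicalGeometry.OrthSemi.Psi Q ⟨pm M, mem_gam_iff.2 h1⟩), ?_⟩
    refine (ind_iff hG ⟨pm M, mem_gam_iff.2 h1⟩ _).2 ?_
    unfold tr
    ext x
    simp [MulAut.congr]
  -- the Sylow subgroup `P ^ μ`
  let N : Subgroup (MulAut (POmega F ⇑Q)) := (MulAut.conj : POmega F ⇑Q →* MulAut (POmega F ⇑Q)).range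
  haveI hN : N.Normal := ⟨by
    rintro _ ⟨t, rfl⟩ g
    exact ⟨g t, (conj_apply_aut g t).symm⟩⟩
  let K : Subgroup (MulAut (POmega F ⇑Q)) := N ⊔ (P : Subgroup (MulAut (POmega F ⇑Q)))
  let P₂ : Sylow 3 (MulAut (POmega F ⇑Q)) := μ • P
  have hP₂ : ∀ β, β ∈ P₂ ↔ ∃ β₀ ∈ P, μ * β₀ * μ⁻¹ = β := by
    intro β
    change β ∈ (μ • P : Sylow 3 (MulAut (POmega F ⇑Q))) ↔ _
    rw [Sylow.smul_def]
    constructor
    · rintro ⟨b, hb, rfl⟩
      exact ⟨b, hb, rfl⟩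
    · rintro ⟨b, hb, rfl⟩
      exact ⟨b, hb, rfl⟩
  have hPK : (P : Subgroup (MulAut (POmega F ⇑Q))) ≤ K := le_sup_right
  have hP₂K : (P₂ : Subgroup (MulAut (POmega F ⇑Q))) ≤ K := by
    intro β hβ
    obtain ⟨β₀, hβ₀, rfl⟩ := (hP₂ β).1 hβ
    obtain ⟨y, hy, hi⟩ := hex β₀ hβ₀
    obtain ⟨θ, hθ, hq⟩ := hs y hy
    obtain ⟨s, hs⟩ := refl_comm hF hG hv hM' hθ hq
    have h1 := ((hμ.mul hi).mul hμ.inv).mul hi.inv
    rw [← hs] at h1
    have h2 := Ind.unique (proj_surjective ⇑Q) (rho_injective ⇑Q) h1 (H903.SylSemi.Ind.conj (proj ⇑Q) (rho ⇑Q) s)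
    have h3 : μ * β₀ * μ⁻¹ = μ * β₀ * μ⁻¹ * β₀⁻¹ * β₀ := by group
    rw [h3, h2]
    exact K.mul_mem (le_sup_left (a := N) ⟨_, rfl⟩) (hPK hβ₀)
  obtain ⟨k, hk⟩ := MulAction.exists_smul_eq K (P.subtype hPK) (P₂.subtype hP₂K)
  obtain ⟨n, ⟨x, rfl⟩, p, hp, hnp⟩ := Subgroup.mem_sup_of_normal_left.1 k.2
  refine ⟨x, fun β hβ hxβ => ?_⟩
  have hmem : MulAut.conj x * β * (MulAut.conj x)⁻¹ ∈ P₂ := by
    have h1 : (⟨p⁻¹ * β * p, hPK (P.mul_mem (P.mul_mem (P.inv_mem hp) hβ) hp)⟩ : K) ∈ P.subtype hPK :=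
      P.mul_mem (P.mul_mem (P.inv_mem hp) hβ) hp
    have h2 : k * ⟨p⁻¹ * β * p, hPK (P.mul_mem (P.mul_mem (P.inv_mem hp) hβ) hp)⟩ * k⁻¹ ∈ P₂.subtype hP₂K := by
      rw [← hk, Sylow.smul_def]
      exact ⟨_, h1, rfl⟩
    have h3 : ((k * ⟨p⁻¹ * β * p, hPK (P.mul_mem (P.mul_mem (P.inv_mem hp) hβ) hp)⟩ * k⁻¹ : K) :
        MulAut (POmega F ⇑Q)) ∈ P₂ := h2
    have h4 : ((k * ⟨p⁻¹ * β * p, hPK (P.mul_mem (P.mul_mem (P.inv_mem hp) hβ) hp)⟩ * k⁻¹ : K) :
        MulAut (POmega F ⇑Q)) = MulAut.conj x * β * (MulAut.conj x)⁻¹ := by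
      rw [Subgroup.coe_mul, Subgroup.coe_mul, Subgroup.coe_inv, ← hnp]
      group
    rwa [h4] at h3
  obtain ⟨β₀, hβ₀, hββ⟩ := (hP₂ _).1 hmem
  obtain ⟨y₀, hy₀, hi₀⟩ := hex β₀ hβ₀
  obtain ⟨y', hy', hi'⟩ := hex _ hxβ
  have h1 := (hμ.mul hi₀).mul hμ.inv
  rw [hββ] at h1
  have h2 := YY.unique hF hG (((YY.pm M).mul hy₀.1).mul (YY.pm M).inv) hy'.1 h1 hi'
  have h3 : y₀ = 1 := refl_semi Q hnd hs hv hreg hav hy₀ hy' (r := pm M) hM' (by rw [← h2]; group)
  have h4 : β₀ = 1 := by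
    rw [h3] at hi₀
    exact Ind.unique (proj_surjective ⇑Q) (rho_injective ⇑Q) hi₀ (H903.SylSemi.Ind.one _ _)
  rw [h4, mul_one, mul_inv_cancel] at hββ
  exact conj_eq_one_iff.1 hββ.symm

end main

end Cfsg.Agent.H579.Eight
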