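import Cfsg.Agent.H903.SylRegTSp
import Cfsg.Agent.H903.SylSemi

/-!
# Regular vectors for semilinear `3`-groups over a field of order `8` (helper579, for S2484)

* `reg_lite` : a nonsingular regular vector for a `p`-group of isometries, any dimension;
* `reg_sub` : the same for an invariant nondegenerate subspace;
* `semi_reg` : a semilinear `p`-group `Γ` permuting the blocks of an orthogonal decomposition: a nonsingular point with
  trivial stabiliser, avoiding small commutator spaces.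
-/

set_option autoImplicit false
set_option linter.unusedSectionVars false
set_option linter.style.haveILetI false

namespace Cfsg.Agent.H579.Eight

open Cfsg.Agent.H903.SylReg (com Avoid two_values exists_ne_zero_of_finrank)
open Cfsg.Agent.H903.SylRegT Cfsg.Agent.H903.SylSemi

variable {F : Type*} [Field F]

section lite

variable [Finite F] {E : Type*} [AddCommGroup E] [Module F E] [Finite E]

/-- a nonsingular regular vector for a `p`-group of isometries -/
theorem reg_lite (p : ℕ) [Fact p.Prime] (hp : 3 ≤ p) (hF : 4 ≤ Nat.card F) (hpF : (p : F) ≠ 0) [Nontrivial E]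
    (Q : QuadraticForm F E) (hnd : ∀ x, (∀ y, QuadraticMap.polar Q x y = 0) → x = 0)
    (R : Subgroup (E ≃ₗ[F] E)) (hR : IsPGroup p R) (hRQ : ∀ h ∈ R, ∀ x, Q (h x) = Q x) :
    ∃ v : E, Q v ≠ 0 ∧ ∀ h ∈ R, h v = v → h = 1 := by
  have hRP : ∀ h ∈ R, ∀ x y, QuadraticMap.polar Q (h x) (h y) = QuadraticMap.polar Q x y := by
    intro h hh x y
    rw [QuadraticMap.polar, QuadraticMap.polar, ← map_add, hRQ h hh, hRQ h hh, hRQ h hh]
  have C : Ctx p R {LinearMap.id} (fun x y => QuadraticMap.polar Q x y) Q :=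
    { pF := hpF
      five := hp
      pg := hR
      comm := by rintro J rfl h _ x; rfl
      βl := fun x y z => QuadraticMap.polar_add_left Q x y z
      βr := fun x y z => QuadraticMap.polar_add_right Q x y z
      βG := hRP
      NG := hRQ
      Nadd := fun x y h _ => by
        simp only [QuadraticMap.polar] at h
        rw [sub_sub, sub_eq_zero] at h
        exact h }
  have hQne : ∃ v, Q v ≠ 0 := by
    by_contra hcon
    push Not at hcon
    obtain ⟨v, hv⟩ := exists_ne (0 : E)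
    exact hv (hnd v fun y => by simp [QuadraticMap.polar, hcon])
  -- admissible spaces have at least five elements
  have hcard : ∀ (H : Subgroup (E ≃ₗ[F] E)) (W : Submodule F E),
      Adm R {LinearMap.id} (fun x y => QuadraticMap.polar Q x y) H W → 5 ≤ Nat.card W := by
    intro H W A0
    rw [Module.natCard_eq_pow_finrank (K := F) (V := W)]
    have hd : 0 < Module.finrank F W := by
      rcases Nat.eq_zero_or_pos (Module.finrank F W) with h0 | h0
      · exact absurd (Submodule.finrank_eq_zero.1 h0) A0.ne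
      · exact h0
    by_cases h1 : Module.finrank F W = 1
    · by_cases h2 : (2 : F) = 0
      · exfalso
        obtain ⟨w, hw, hw0⟩ := (Submodule.ne_bot_iff _).1 A0.ne
        refine hw0 (A0.nd w hw fun y hy => ?_)
        obtain ⟨⟨v, hv⟩, hvs⟩ := finrank_le_one_iff.1 h1.le
        obtain ⟨c, hc⟩ := hvs ⟨w, hw⟩
        obtain ⟨d, hd⟩ := hvs ⟨y, hy⟩
        have hc' : c • v = w := congrArg Subtype.val hc
        have hd' : d • v = y := congrArg Subtype.val hd
        change QuadraticMap.polar Q w y = 0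
        rw [← hc', ← hd', QuadraticMap.polar_smul_left, QuadraticMap.polar_smul_right,
          QuadraticMap.polar_self, nsmul_eq_mul, Nat.cast_ofNat, h2]
        simp
      · rw [h1, pow_one]
        rcases Nat.lt_or_ge (Nat.card F) 5 with h5 | h5
        · exfalso
          have h4 : Nat.card F = 4 := by omega
          apply h2
          have h6 : ((4 : ℕ) : F) = 0 := by
            rw [← h4]
            haveI := Fintype.ofFinite F
            rw [Nat.card_eq_fintype_card]
            exact FiniteField.cast_card_eq_zero F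
          have h7 : (2 : F) * 2 = 0 := by
            have : ((4 : ℕ) : F) = 2 * 2 := by norm_num
            rw [← this, h6]
          exact mul_self_eq_zero.1 h7
        · exact h5
    · calc 5 ≤ 4 ^ 2 := by norm_num
        _ ≤ Nat.card F ^ 2 := Nat.pow_le_pow_left hF 2
        _ ≤ _ := Nat.pow_le_pow_right (by omega) (by omega)
  have hbase : ∀ (H : Subgroup (E ≃ₗ[F] E)) (W : Submodule F E),
      Base R {LinearMap.id} (fun x y => QuadraticMap.polar Q x y) H W → ∃ x y, x ∈ W ∧ y ∈ W ∧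
      x ≠ 0 ∧ y ≠ 0 ∧ (∀ J ∈ ({LinearMap.id} : Set (E →ₗ[F] E)), J x ≠ 0 ∧ J y ≠ 0) ∧
      Q x ≠ Q y := by
    intro H W Bs
    obtain ⟨x, y, hx, hy, hx0, hy0, hc⟩ := two_values Q W Bs.ne Bs.nd (hcard H W Bs.toAdm)
    refine ⟨x, y, hx, hy, hx0, hy0, ?_, hc⟩
    rintro J rfl
    exact ⟨hx0, hy0⟩
  obtain ⟨V₀, W, T⟩ := exists_top C hnd
  by_cases hW : W = ⊥
  · obtain ⟨v, hv⟩ := hQne
    have h1 := T.eq_one_of_bot hW
    exact ⟨v, hv, fun h hh _ => h1 h hh⟩
  · obtain ⟨x, y, hx, hy, hxy⟩ := two_norms C hbase R W (T.adm hW)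
    have key : ∀ u, Good 2 {LinearMap.id} R W u → Q u ≠ 0 → ∃ v : E, Q v ≠ 0 ∧ ∀ h ∈ R, h v = v → h = 1 :=
      fun u hu hq => ⟨0 + u, by rwa [zero_add], T.reg_of V₀.zero_mem hu.reg⟩
    by_cases hQx : Q x = 0
    · exact key y hy fun h => hxy (hQx.trans h.symm)
    · exact key x hx hQx

/-- the same for an invariant nondegenerate subspace -/
theorem reg_sub (p : ℕ) [Fact p.Prime] (hp : 3 ≤ p) (hF : 4 ≤ Nat.card F) (hpF : (p : F) ≠ 0)
    (Q : QuadraticForm F E) (W : Submodule F E) (hW : W ≠ ⊥)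
    (hnd : ∀ x ∈ W, (∀ y ∈ W, QuadraticMap.polar Q x y = 0) → x = 0)
    (H : Subgroup (E ≃ₗ[F] E)) (hH : IsPGroup p H) (hHQ : ∀ h ∈ H, ∀ x, Q (h x) = Q x)
    (hHW : ∀ h ∈ H, ∀ w ∈ W, h w ∈ W) :
    ∃ v ∈ W, Q v ≠ 0 ∧ ∀ h ∈ H, h v = v → ∀ w ∈ W, h w = w := by
  let R : Subgroup (W ≃ₗ[F] W) :=
    { carrier := {g | ∃ h ∈ H, ∀ w : W, ((g w : W) : E) = h w}
      mul_mem' := by
        rintro g g' ⟨h, hh, hg⟩ ⟨h', hh', hg'⟩
        exact ⟨h * h', H.mul_mem hh hh', fun w => by
          rw [LinearEquiv.mul_apply, LinearEquiv.mul_apply, hg, hg']⟩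
      one_mem' := ⟨1, H.one_mem, fun w => rfl⟩
      inv_mem' := by
        rintro g ⟨h, hh, hg⟩
        refine ⟨h⁻¹, H.inv_mem hh, fun w => ?_⟩
        have h1 := hg (g⁻¹ w)
        have h2 : g (g⁻¹ w) = w := by
          rw [← LinearEquiv.mul_apply, mul_inv_cancel]
          rfl
        rw [h2] at h1
        rw [h1, ← LinearEquiv.mul_apply, inv_mul_cancel]
        rfl }
  have hRm : ∀ g, g ∈ R ↔ ∃ h ∈ H, ∀ w : W, ((g w : W) : E) = h w := fun g => Iff.rfl
  have hR : IsPGroup p R := by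
    rintro ⟨g, h, hh, hg⟩
    obtain ⟨k, hk⟩ := hH ⟨h, hh⟩
    have hk' : h ^ p ^ k = 1 := congrArg Subtype.val hk
    refine ⟨k, Subtype.ext ?_⟩
    change g ^ p ^ k = 1
    have h1 : ∀ (n : ℕ) (w : W), (((g ^ n) w : W) : E) = (h ^ n) w := by
      intro n
      induction n with
      | zero => intro w; rfl
      | succ n ih => intro w; rw [pow_succ, pow_succ, LinearEquiv.mul_apply, LinearEquiv.mul_apply, ih, hg]
    ext w
    rw [h1, hk']
    rfl
  have : Nontrivial W := (Submodule.nontrivial_iff_ne_bot).2 hW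
  obtain ⟨v, hv, hvr⟩ := reg_lite p hp hF hpF (Q.comp W.subtype) (fun x hx => Subtype.ext (hnd x x.2 fun y hy =>
    hx ⟨y, hy⟩)) R hR (fun g ⟨h, hh, hg⟩ x => by
      change Q (g x : W) = Q x
      rw [hg, hHQ h hh])
  refine ⟨v, v.2, hv, fun h hh hhv w hw => ?_⟩
  have hinj : ∀ x : W, (h : E →ₗ[F] E) x ∈ W := fun x => hHW h hh x x.2
  let g₀ : W →ₗ[F] W := ((h : E →ₗ[F] E).comp W.subtype).codRestrict W hinj
  have hg₀ : Function.Injective g₀ := fun x y hxy => Subtype.ext (h.injective (congrArg Subtype.val hxy))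
  have : FiniteDimensional F W := Module.Finite.of_finite
  let g : W ≃ₗ[F] W := LinearEquiv.ofInjectiveEndo g₀ hg₀
  have hg : ∀ x : W, ((g x : W) : E) = h x := fun x => rfl
  have h1 := hvr g ⟨h, hh, hg⟩ (Subtype.ext (by rw [hg, hhv]))
  have h2 := hg ⟨w, hw⟩
  rw [h1] at h2
  exact h2.symm

end lite

section blocks

variable {V : Type*} [AddCommGroup V] [Module F V] [Finite V]

/-- an orthogonal decomposition into nonzero subspaces permuted by `Γ`, `π y` fixing `i₀` only if it is trivial -/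
structure Blocks (Q : QuadraticForm F V) (Γ : Subgroup (Equiv.Perm V)) (I : Type) [Fintype I] (i₀ : I)
    (W : I → Submodule F V) (cp : I → V →ₗ[F] V) : Prop where
  dec : Dec ⊤ W cp
  ne : ∀ i, W i ≠ ⊥
  orth : ∀ i j, i ≠ j → ∀ x ∈ W i, ∀ y ∈ W j, QuadraticMap.polar Q x y = 0
  perm : ∀ y ∈ Γ, ∃ π : Equiv.Perm I, (∀ i, ∀ w ∈ W i, y w ∈ W (π i)) ∧ (π i₀ = i₀ → π = 1) ∧
    (π (π i₀) = i₀ → π i₀ = i₀) ∧ ∃ i, i ≠ i₀ ∧ π i ≠ i₀

namespace Blocks

variable {Q : QuadraticForm F V} {Γ : Subgroup (Equiv.Perm V)} {I : Type} [Fintype I] {i₀ : I}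
    {W : I → Submodule F V} {cp : I → V →ₗ[F] V}

theorem sum_eq (B : Blocks Q Γ I i₀ W cp) {x y : I → V} (hx : ∀ i, x i ∈ W i) (hy : ∀ i, y i ∈ W i)
    (h : ∑ i, x i = ∑ i, y i) (i : I) : x i = y i := by
  have h1 := B.dec.cp_sum hx i
  have h2 := B.dec.cp_sum hy i
  rw [← h1, h, h2]

theorem nd (B : Blocks Q Γ I i₀ W cp) (hnd : ∀ x, (∀ y, QuadraticMap.polar Q x y = 0) → x = 0) (i : I) :
    ∀ x ∈ W i, (∀ y ∈ W i, QuadraticMap.polar Q x y = 0) → x = 0 := by
  intro x hx h
  apply hnd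
  intro y
  rw [← B.dec.sum y trivial]
  have h1 : ∀ s : Finset I, QuadraticMap.polar Q x (∑ j ∈ s, cp j y) = ∑ j ∈ s, QuadraticMap.polar Q x (cp j y) := by
    intro s
    exact map_sum (QuadraticMap.polarBilin Q x) (fun j => cp j y) s
  rw [h1]
  refine Finset.sum_eq_zero fun j _ => ?_
  by_cases hij : j = i
  · subst hij
    exact h _ (B.dec.mem j y trivial)
  · exact B.orth i j (Ne.symm hij) x hx _ (B.dec.mem j y trivial)

theorem Q_sum (B : Blocks Q Γ I i₀ W cp) {x : I → V} (hx : ∀ i, x i ∈ W i) : Q (∑ i, x i) = ∑ i, Q (x i) := by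
  classical
  have key : ∀ s : Finset I, Q (∑ i ∈ s, x i) = ∑ i ∈ s, Q (x i) := by
    intro s
    induction s using Finset.induction_on with
    | empty => simp
    | insert i s hi ih =>
      rw [Finset.sum_insert hi, Finset.sum_insert hi, QuadraticMap.map_add (⇑Q), ih]
      have h1 : QuadraticMap.polar Q (x i) (∑ j ∈ s, x j) = 0 := by
        have h2 : QuadraticMap.polar Q (x i) (∑ j ∈ s, x j) = ∑ j ∈ s, QuadraticMap.polar Q (x i) (x j) :=
          map_sum (QuadraticMap.polarBilin Q (x i)) x s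
        rw [h2]
        refine Finset.sum_eq_zero fun j hj => B.orth i j ?_ _ (hx i) _ (hx j)
        rintro rfl
        exact hi hj
      rw [h1, add_zero]
  exact key Finset.univ

end Blocks

/-- the linear maps in `Γ` -/
def lp (Γ : Subgroup (Equiv.Perm V)) : Subgroup (V ≃ₗ[F] V) := Γ.comap (MulAction.toPermHom (V ≃ₗ[F] V) V)

theorem mem_lp {Γ : Subgroup (Equiv.Perm V)} {r : V ≃ₗ[F] V} : r ∈ lp Γ ↔ MulAction.toPermHom (V ≃ₗ[F] V) V r ∈ Γ :=
  Iff.rfl

theorem toPerm_apply (r : V ≃ₗ[F] V) (v : V) : MulAction.toPermHom (V ≃ₗ[F] V) V r v = r v := rfl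

theorem toPerm_injective : Function.Injective (MulAction.toPermHom (V ≃ₗ[F] V) V) := fun r s h => by
  ext v
  exact congrFun (congrArg DFunLike.coe h) v

theorem lp_isPGroup {p : ℕ} {Γ : Subgroup (Equiv.Perm V)} (hΓ : IsPGroup p Γ) : IsPGroup p (lp (F := F) Γ) :=
  hΓ.comap_of_injective _ toPerm_injective

theorem lp_iso {Γ : Subgroup (Equiv.Perm V)} {Q : QuadraticForm F V} [Nontrivial V]
    (hs : ∀ y ∈ Γ, ∃ θ : F ≃+* F, Semi F y θ ∧ ∀ v, Q (y v) = θ (Q v)) {r : V ≃ₗ[F] V} (hr : r ∈ lp Γ) (v : V) :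
    Q (r v) = Q v := by
  obtain ⟨θ, hθ, hq⟩ := hs _ hr
  obtain ⟨w, hw⟩ := exists_ne (0 : V)
  have h1 : ∀ a : F, θ a = a := by
    intro a
    have h2 := hθ.2 a w
    rw [toPerm_apply, toPerm_apply, map_smul] at h2
    have h3 : (a - θ a) • r w = 0 := by rw [sub_smul, h2, sub_self]
    rcases smul_eq_zero.1 h3 with h | h
    · exact (sub_eq_zero.1 h).symm
    · exact absurd ((LinearEquiv.map_eq_zero_iff r).1 h) hw
  have h2 := hq v
  rw [toPerm_apply, h1] at h2
  exact h2

/-- a semilinear map with trivial companion is linear -/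
theorem exists_lp {Γ : Subgroup (Equiv.Perm V)} {y : Equiv.Perm V} (hy : y ∈ Γ) {θ : F ≃+* F} (hθ : Semi F y θ)
    (h1 : ∀ a, θ a = a) : ∃ r : V ≃ₗ[F] V, r ∈ lp Γ ∧ MulAction.toPermHom (V ≃ₗ[F] V) V r = y := by
  let r : V ≃ₗ[F] V := { y with
    map_add' := hθ.1
    map_smul' := fun a v => by
      change y (a • v) = a • y v
      rw [hθ.2, h1] }
  have h2 : MulAction.toPermHom (V ≃ₗ[F] V) V r = y := Equiv.ext fun v => rfl
  exact ⟨r, by rw [mem_lp, h2]; exact hy, h2⟩

section eight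

theorem pow8 (hF : Nat.card F = 8) (x : F) : x ^ 8 = x := by
  have : Finite F := Nat.finite_of_card_ne_zero (by omega)
  have := Fintype.ofFinite F
  have h := FiniteField.pow_card x
  rwa [← Nat.card_eq_fintype_card, hF] at h

theorem two8 (hF : Nat.card F = 8) : (2 : F) = 0 := by
  have : Finite F := Nat.finite_of_card_ne_zero (by omega)
  have := Fintype.ofFinite F
  have h := FiniteField.cast_card_eq_zero F
  rw [← Nat.card_eq_fintype_card, hF] at h
  have h2 : (2 : F) ^ 3 = 0 := by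
    have : (2 : F) ^ 3 = ((8 : ℕ) : F) := by norm_num
    rw [this, h]
  exact pow_eq_zero_iff (by norm_num) |>.1 h2

theorem eq_one8 (hF : Nat.card F = 8) {a : F} (h : a ^ 2 = 1) : a = 1 := by
  have h2 := two8 hF
  have h3 : (a - 1) ^ 2 = 0 := by linear_combination h - (a - 1) * h2
  exact sub_eq_zero.1 ((pow_eq_zero_iff (by norm_num)).1 h3)

theorem fix8 (hF : Nat.card F = 8) {θ : F ≃+* F} {t : F} (ht0 : t ≠ 0) (ht1 : t ≠ 1) (h : θ t = t) (a : F) : θ a = a := by
  have : Finite F := Nat.finite_of_card_ne_zero (by omega)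
  by_cases ha : a = 0
  · rw [ha, map_zero]
  have h7 : ∀ u : F, u ≠ 0 → u ^ 7 = 1 := by
    intro u hu
    apply mul_left_cancel₀ hu
    rw [← pow_succ', pow8 hF, mul_one]
  have : Fact (Nat.Prime 7) := ⟨by norm_num⟩
  have ho : orderOf (Units.mk0 t ht0) = 7 := by
    apply orderOf_eq_prime
    · exact Units.ext (h7 t ht0)
    · intro h
      exact ht1 (congrArg Units.val h)
  have hc : Nat.card Fˣ = 7 := by rw [Nat.card_units, hF]
  have htop : Subgroup.zpowers (Units.mk0 t ht0) = ⊤ := by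
    rw [← Subgroup.card_eq_iff_eq_top, Nat.card_zpowers, ho, hc]
  have h1 : Units.mk0 a ha ∈ Subgroup.zpowers (Units.mk0 t ht0) := by rw [htop]; trivial
  rw [← mem_powers_iff_mem_zpowers] at h1
  obtain ⟨n, hn⟩ := h1
  have h2 : t ^ n = a := congrArg Units.val hn
  rw [← h2, map_pow, h]

theorem exists_t (hF : Nat.card F = 8) : ∃ t : F, t ≠ 0 ∧ t ≠ 1 := by
  classical
  have : Finite F := Nat.finite_of_card_ne_zero (by omega)
  have := Fintype.ofFinite F
  by_contra hcon
  push Not at hcon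
  have h1 : (Finset.univ : Finset F) ⊆ {0, 1} := by
    intro t _
    by_cases h : t = 0
    · simp [h]
    · simp [hcon t h]
  have h2 := Finset.card_le_card h1
  have h3 : ({0, 1} : Finset F).card ≤ 2 := Finset.card_le_two
  rw [Finset.card_univ, ← Nat.card_eq_fintype_card, hF] at h2
  omega

end eight

theorem three_le {C : Submodule F V} {x y z : V} (hx : x ∈ C) (hy : y ∈ C) (hz : z ∈ C)
    (h : ∀ a b c : F, a • x + b • y + c • z = 0 → a = 0 ∧ b = 0 ∧ c = 0) : 3 ≤ Module.finrank F C := by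
  have : FiniteDimensional F V := Module.Finite.of_finite
  have h1 : LinearIndependent F (![⟨x, hx⟩, ⟨y, hy⟩, ⟨z, hz⟩] : Fin 3 → C) := by
    rw [Fintype.linearIndependent_iff]
    intro g hg
    rw [Fin.sum_univ_three] at hg
    have h2 := congrArg Subtype.val hg
    have h3 := h (g 0) (g 1) (g 2) h2
    intro i
    fin_cases i
    · exact h3.1
    · exact h3.2.1
    · exact h3.2.2
  have h2 := h1.fintype_card_le_finrank
  rwa [Fintype.card_fin] at h2

/-- **Regular point** for a semilinear `p`-group with blocks, `|F| = 8`. -/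
theorem semi_reg {p : ℕ} [Fact p.Prime] (hp : 3 ≤ p) (hF : Nat.card F = 8) (hpF : (p : F) ≠ 0) [Nontrivial V]
    {Q : QuadraticForm F V} (hnd : ∀ x, (∀ y, QuadraticMap.polar Q x y = 0) → x = 0)
    {Γ : Subgroup (Equiv.Perm V)} (hΓ : IsPGroup p Γ)
    (hs : ∀ y ∈ Γ, ∃ θ : F ≃+* F, Semi F y θ ∧ ∀ v, Q (y v) = θ (Q v))
    {I : Type} [Fintype I] [DecidableEq I] {i₀ : I} {W : I → Submodule F V} {cp : I → V →ₗ[F] V}
    (B : Blocks Q Γ I i₀ W cp) (hI : ((Fintype.card I - 1 : ℕ) : F) = 0 ∨ ((Fintype.card I - 1 : ℕ) : F) = 1) :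
    ∃ v, Q v ≠ 0 ∧ (∀ y ∈ Γ, ∀ a : F, y v = a • v → y = 1) ∧ Avoid (lp (F := F) Γ) v := by
  have : Finite F := Nat.finite_of_card_ne_zero (by omega)
  have h2 := two8 hF
  obtain ⟨t, ht0, ht1⟩ := exists_t hF
  let n : I → F := fun i => if i = i₀ then t else 1
  have hn0 : n i₀ = t := if_pos rfl
  have hn1 : ∀ i, i ≠ i₀ → n i = 1 := fun i hi => if_neg hi
  have hn : ∀ i, n i ≠ 0 := by
    intro i
    by_cases hi : i = i₀
    · rw [hi, hn0]; exact ht0
    · rw [hn1 i hi]; exact one_ne_zero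
  -- the linear maps fixing all blocks
  let H : Subgroup (V ≃ₗ[F] V) :=
    { carrier := {r | r ∈ lp (F := F) Γ ∧ ∀ i, ∀ w ∈ W i, r w ∈ W i ∧ r⁻¹ w ∈ W i}
      mul_mem' := by
        rintro r r' ⟨h1, h2⟩ ⟨h1', h2'⟩
        refine ⟨(lp Γ).mul_mem h1 h1', fun i w hw => ⟨?_, ?_⟩⟩
        · rw [LinearEquiv.mul_apply]
          exact (h2 i _ (h2' i w hw).1).1
        · rw [mul_inv_rev, LinearEquiv.mul_apply]
          exact (h2' i _ (h2 i w hw).2).2
      one_mem' := ⟨(lp Γ).one_mem, fun i w hw => ⟨hw, hw⟩⟩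
      inv_mem' := by
        rintro r ⟨h1, h2⟩
        refine ⟨(lp Γ).inv_mem h1, fun i w hw => ⟨(h2 i w hw).2, ?_⟩⟩
        rw [inv_inv]
        exact (h2 i w hw).1 }
  have hHl : H ≤ lp Γ := fun r hr => hr.1
  have hHp : IsPGroup p H := (lp_isPGroup hΓ).to_le hHl
  -- the components
  have hex : ∀ i, ∃ v ∈ W i, Q v = n i ∧ ∀ h ∈ H, h v = v → ∀ w ∈ W i, h w = w := by
    intro i
    obtain ⟨v, hv, hq, hr⟩ := reg_sub p hp (by omega) hpF Q (W i) (B.ne i) (B.nd hnd i) H hHp
      (fun h hh x => lp_iso hs (hHl hh) x) (fun h hh w hw => (hh.2 i w hw).1)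
    let c : F := (n i / Q v) ^ 4
    have hc : c * c = n i / Q v := by
      change (n i / Q v) ^ 4 * (n i / Q v) ^ 4 = n i / Q v
      rw [← pow_add]
      exact pow8 hF _
    have hc0 : c ≠ 0 := pow_ne_zero _ (div_ne_zero (hn i) hq)
    refine ⟨c • v, (W i).smul_mem c hv, ?_, fun h hh hv' w hw => ?_⟩
    · rw [QuadraticMap.map_smul, smul_eq_mul, hc, div_mul_cancel₀ _ hq]
    · rw [map_smul] at hv'
      exact hr h hh (smul_right_injective V hc0 hv') w hw
  choose v hvW hvQ hvr using hex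
  have hQv : Q (∑ i, v i) = ((Fintype.card I - 1 : ℕ) : F) + t := by
    rw [B.Q_sum hvW]
    simp only [hvQ]
    rw [← Finset.add_sum_erase _ _ (Finset.mem_univ i₀), hn0, Finset.sum_congr rfl (fun i hi => hn1 i
      (Finset.ne_of_mem_erase hi)), Finset.sum_const, Finset.card_erase_of_mem (Finset.mem_univ _), Finset.card_univ,
      nsmul_eq_mul, mul_one, add_comm]
  have hQ0 : Q (∑ i, v i) ≠ 0 := by
    rw [hQv]
    rcases hI with h | h
    · rw [h, zero_add]; exact ht0
    · rw [h]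
      intro h3
      apply ht1
      linear_combination h3 - h2
  -- components are moved
  have hmove : ∀ y ∈ Γ, ∀ (θ : F ≃+* F), Semi F y θ → ∀ π : Equiv.Perm I, (∀ i, ∀ w ∈ W i, y w ∈ W (π i)) →
      ∀ a : F, y (∑ i, v i) = a • ∑ i, v i → ∀ i, y (v i) = a • v (π i) := by
    intro y hy θ hθ π hπ a ha i
    have hy0 : y 0 = 0 := by
      have := hθ.2 0 0
      rwa [zero_smul, map_zero θ, zero_smul] at this
    have h3 : ∀ s : Finset I, y (∑ i ∈ s, v i) = ∑ i ∈ s, y (v i) := by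
      intro s
      induction s using Finset.induction_on with
      | empty => simpa using hy0
      | insert i s hi ih => rw [Finset.sum_insert hi, Finset.sum_insert hi, hθ.1, ih]
    rw [h3, Finset.smul_sum] at ha
    have h4 : ∑ i, y (v i) = ∑ j, y (v (π.symm j)) := by
      refine Fintype.sum_equiv π _ _ fun i => ?_
      rw [Equiv.symm_apply_apply]
    rw [h4] at ha
    have h5 := B.sum_eq (x := fun j => y (v (π.symm j))) (y := fun j => a • v j)
      (fun j => by
        have := hπ _ _ (hvW (π.symm j))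
        rwa [Equiv.apply_symm_apply] at this)
      (fun j => (W j).smul_mem a (hvW j)) ha (π i)
    simpa using h5
  -- the point is regular
  have hreg : ∀ y ∈ Γ, ∀ a : F, y (∑ i, v i) = a • (∑ i, v i) → y = 1 := by
    intro y hy a ha
    obtain ⟨θ, hθ, hθQ⟩ := hs y hy
    obtain ⟨π, hπ, hπ1, -, i₁, hi₁, hi₁'⟩ := B.perm y hy
    have hm := hmove y hy θ hθ π hπ a ha
    have hN : ∀ i, θ (n i) = a ^ 2 * n (π i) := by
      intro i
      have h3 := hθQ (v i)
      rw [hm i, QuadraticMap.map_smul, hvQ, hvQ, smul_eq_mul] at h3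
      rw [← h3, pow_two]
    have ha2 : a ^ 2 = 1 := by
      have h3 := hN i₁
      rw [hn1 _ hi₁, hn1 _ hi₁', map_one, mul_one] at h3
      exact h3.symm
    have ha1 : a = 1 := eq_one8 hF ha2
    have h3 := hN i₀
    rw [ha2, one_mul, hn0] at h3
    have hπ0 : π i₀ = i₀ := by
      by_contra h
      rw [hn1 _ h] at h3
      apply ht1
      exact θ.injective (h3.trans (map_one θ).symm)
    have h1 := hπ1 hπ0
    rw [hπ0, hn0] at h3
    obtain ⟨r, hr, hry⟩ := exists_lp hy hθ (fix8 hF ht0 ht1 h3)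
    have hrv : ∀ i, r (v i) = v i := by
      intro i
      have h4 := hm i
      rw [← hry, toPerm_apply, h1, ha1, one_smul] at h4
      exact h4
    have hrW : ∀ i, ∀ w ∈ W i, r w ∈ W i := by
      intro i w hw
      have h4 := hπ i w hw
      rw [← hry, toPerm_apply, h1] at h4
      exact h4
    have hrH : r ∈ H := by
      refine ⟨hr, fun i w hw => ⟨hrW i w hw, ?_⟩⟩
      have h4 : Submodule.map (r : V →ₗ[F] V) (W i) = W i := by
        refine Submodule.eq_of_le_of_finrank_eq ?_ (LinearEquiv.finrank_map_eq r (W i))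
        rintro _ ⟨w, hw, rfl⟩
        exact hrW i w hw
      rw [← h4] at hw
      obtain ⟨u, hu, rfl⟩ := hw
      have h5 : r⁻¹ (r u) = u := by
        rw [← LinearEquiv.mul_apply, inv_mul_cancel]
        rfl
      change r⁻¹ (r u) ∈ W i
      rw [h5]
      exact hu
    have hr1 : r = 1 := by
      ext x
      rw [← B.dec.sum x trivial, map_sum]
      exact Finset.sum_congr rfl fun i _ => hvr i r hrH (hrv i) _ (B.dec.mem i x trivial)
    rw [← hry, hr1, map_one]
  refine ⟨∑ i, v i, hQ0, hreg, ?_⟩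
  intro r hr hr1 hmem
  obtain ⟨π, hπ, hπ1, hπ2, i₁, hi₁, hi₁'⟩ := B.perm _ hr
  have hπ' : ∀ i, ∀ w ∈ W i, r w ∈ W (π i) := hπ
  have hv0 : ∀ i, v i ≠ 0 := by
    intro i h
    have h3 := hvQ i
    rw [h, QuadraticMap.map_zero] at h3
    exact hn i h3.symm
  have hcom : ∀ w : V, r w - w ∈ com r := fun w => ⟨w, rfl⟩
  have hcomr : ∀ w ∈ com r, r w ∈ com r := by
    rintro _ ⟨w, rfl⟩
    refine ⟨r w, ?_⟩
    change r (r w) - r w = r (r w - w)
    rw [map_sub]
  by_cases hπ0 : π i₀ = i₀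
  · have h1 := hπ1 hπ0
    have hrW : ∀ i, ∀ w ∈ W i, r w ∈ W i := by
      intro i w hw
      have h4 := hπ' i w hw
      rwa [h1] at h4
    have hrH : r ∈ H := by
      refine ⟨hr, fun i w hw => ⟨hrW i w hw, ?_⟩⟩
      have h4 : Submodule.map (r : V →ₗ[F] V) (W i) = W i := by
        refine Submodule.eq_of_le_of_finrank_eq ?_ (LinearEquiv.finrank_map_eq r (W i))
        rintro _ ⟨w, hw, rfl⟩
        exact hrW i w hw
      rw [← h4] at hw
      obtain ⟨u, hu, rfl⟩ := hw
      have h5 : r⁻¹ (r u) = u := by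
        rw [← LinearEquiv.mul_apply, inv_mul_cancel]
        rfl
      change r⁻¹ (r u) ∈ W i
      rw [h5]
      exact hu
    obtain ⟨e, he⟩ := LinearMap.mem_range.1 hmem
    have he' : r e - e = ∑ i, v i := he
    have hei : ∀ i, r (cp i e) - cp i e = v i := by
      intro i
      refine B.sum_eq (x := fun i => r (cp i e) - cp i e) (y := v)
        (fun i => (W i).sub_mem (hrW i _ (B.dec.mem i e trivial)) (B.dec.mem i e trivial)) hvW ?_ i
      rw [Finset.sum_sub_distrib, ← map_sum, B.dec.sum e trivial, he']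
    have hvc : ∀ i, v i ∈ com r := fun i => (hei i) ▸ hcom _
    refine three_le (hvc i₀) (hcomr _ (hvc i₀)) (hvc i₁) ?_
    intro a b c habc
    have hc : c • v i₁ = 0 := by
      have h6 := congrArg (cp i₁) habc
      rw [map_add, map_add, map_smul, map_smul, map_smul, map_zero, B.dec.other i₀ i₁ (Ne.symm hi₁) _ (hvW i₀),
        B.dec.other i₀ i₁ (Ne.symm hi₁) _ (hrW _ _ (hvW i₀)), B.dec.self i₁ _ (hvW i₁)] at h6
      simpa using h6
    have hc0 : c = 0 := (smul_eq_zero.1 hc).resolve_right (hv0 i₁)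
    rw [hc, add_zero] at habc
    by_cases hb : b = 0
    · rw [hb, zero_smul, add_zero] at habc
      exact ⟨(smul_eq_zero.1 habc).resolve_right (hv0 i₀), hb, hc0⟩
    · exfalso
      have h6 : r (v i₀) = (-(a / b)) • v i₀ := by
        apply smul_right_injective V hb
        change b • r (v i₀) = b • ((-(a / b)) • v i₀)
        rw [smul_smul, mul_neg, mul_div_cancel₀ _ hb, neg_smul]
        exact eq_neg_of_add_eq_zero_right habc
      have h7 := lp_iso hs hr (v i₀)
      rw [h6, QuadraticMap.map_smul, smul_eq_mul] at h7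
      have h8 : (-(a / b)) ^ 2 = 1 := by
        apply mul_right_cancel₀ (b := Q (v i₀)) (by rw [hvQ]; exact hn i₀)
        rw [pow_two, h7, one_mul]
      rw [eq_one8 hF h8, one_smul] at h6
      have h9 := hvr i₀ r hrH h6 _ (B.dec.mem i₀ e trivial)
      have h10 := hei i₀
      rw [h9, sub_self] at h10
      exact hv0 i₀ h10.symm
  · -- the blocks are moved
    have hππ : π (π i₀) ≠ i₀ := fun h => hπ0 (hπ2 h)
    obtain ⟨w', hw', hpol⟩ : ∃ w' ∈ W i₀, QuadraticMap.polar Q (v i₀) w' ≠ 0 := by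
      by_contra hcon
      push Not at hcon
      exact hv0 i₀ (B.nd hnd i₀ _ (hvW i₀) hcon)
    have hpp : QuadraticMap.polar Q (v i₀) (v i₀) = 0 := by
      rw [QuadraticMap.polar_self, nsmul_eq_mul, Nat.cast_ofNat, h2, zero_mul]
    refine three_le (hcom (v i₀)) (hcom w') (hcom (r (v i₀))) ?_
    intro a b c habc
    have h6 : a • v i₀ + b • w' = 0 := by
      have h7 := congrArg (cp i₀) habc
      rw [map_add, map_add, map_smul, map_smul, map_smul, map_zero, map_sub, map_sub, map_sub,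
        B.dec.self i₀ _ (hvW i₀), B.dec.self i₀ _ hw', B.dec.other (π i₀) i₀ hπ0 _ (hπ' _ _ (hvW i₀)),
        B.dec.other (π i₀) i₀ hπ0 _ (hπ' _ _ hw'),
        B.dec.other (π (π i₀)) i₀ hππ _ (hπ' _ _ (hπ' _ _ (hvW i₀)))] at h7
      have h8 : -(a • v i₀ + b • w') = 0 := by
        rw [← h7]
        simp only [zero_sub, sub_zero, smul_neg, smul_zero, add_zero]
        abel
      exact neg_eq_zero.1 h8
    have hb : b = 0 := by
      have h7 : QuadraticMap.polar Q (v i₀) (a • v i₀ + b • w') = 0 := by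
        rw [h6]
        simp [QuadraticMap.polar]
      rw [QuadraticMap.polar_add_right, QuadraticMap.polar_smul_right, QuadraticMap.polar_smul_right, hpp, smul_zero,
        zero_add, smul_eq_mul] at h7
      exact (mul_eq_zero.1 h7).resolve_right hpol
    rw [hb, zero_smul, add_zero] at h6
    have ha : a = 0 := (smul_eq_zero.1 h6).resolve_right (hv0 i₀)
    rw [ha, hb, zero_smul, zero_smul, zero_add, zero_add] at habc
    refine ⟨ha, hb, (smul_eq_zero.1 habc).resolve_right fun h7 => ?_⟩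
    rw [← map_sub] at h7
    have h8 := (LinearEquiv.map_eq_zero_iff r).1 h7
    have h9 : r (v i₀) = v i₀ := sub_eq_zero.1 h8
    have h10 := congrArg (cp i₀) h9
    rw [B.dec.self i₀ _ (hvW i₀), B.dec.other (π i₀) i₀ hπ0 _ (hπ' _ _ (hvW i₀))] at h10
    exact hv0 i₀ h10.symm

end blocks

end Cfsg.Agent.H579.Eight
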