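/-
The reduced situation when the socle has no outer automorphisms.
-/
import Cfsg.Agent.H579.MaxPNilRed
import Cfsg.Agent.Transfer.NormalPComplement

set_option autoImplicit false

namespace Cfsg.Agent.H579.InnerRed

open Cfsg Subgroup
open Cfsg.Agent.H579.MaxPNilRed

/-- If all automorphisms of the self-centralising normal subgroup `N` are inner, then `N` is everything. -/
theorem top_of_inner {Q : Type*} [Group Q] {N : Subgroup Q} (hN : N.Normal)
    (hc : centralizer (N : Set Q) = ⊥) (h : ∀ φ : N ≃* N, ∃ k : N, ∀ x, φ x = k * x * k⁻¹) :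
    N = ⊤ := by
  rw [eq_top_iff]
  intro g _
  obtain ⟨k, hk⟩ := h (MulAut.conjNormal g : MulAut N)
  have h1 : (k : Q)⁻¹ * g ∈ centralizer (N : Set Q) := by
    rw [Subgroup.mem_centralizer_iff]
    intro x hx
    have h2 := congrArg Subtype.val (hk ⟨x, hx⟩)
    have h3 : g * x * g⁻¹ = (k : Q) * x * (k : Q)⁻¹ := by
      have h4 : ((MulAut.conjNormal g ⟨x, hx⟩ : N) : Q) = g * x * g⁻¹ := MulAut.conjNormal_apply g _
      rw [← h4]
      exact h2
    have h5 : g * x = (k : Q) * x * (k : Q)⁻¹ * g := mul_inv_eq_iff_eq_mul.1 h3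
    calc x * ((k : Q)⁻¹ * g) = (k : Q)⁻¹ * ((k : Q) * x * (k : Q)⁻¹ * g) := by group
      _ = (k : Q)⁻¹ * (g * x) := by rw [h5]
      _ = (k : Q)⁻¹ * g * x := by group
  rw [hc, Subgroup.mem_bot] at h1
  have h2 : g = k := by
    rw [inv_mul_eq_one] at h1
    exact h1.symm
  rw [h2]
  exact k.2

/-- The maximal subgroups of the socle when it is the whole group. -/
theorem coatoms_of_top {p : ℕ} [hp : Fact p.Prime] {Q : Type*} [Group Q] [Finite Q]
    {N : Subgroup Q} {r : ℕ} (R : Red p Q N r) (hN : N = ⊤) {Γ : Type*} [Group Γ]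
    (e : N ≃* Γ) : ∀ M : Subgroup Γ, IsCoatom M → HasNormalPComplement p M ∨ M.index = r := by
  intro M hM
  have f : Q ≃* Γ := (Subgroup.topEquiv.symm.trans (MulEquiv.subgroupCongr hN.symm)).trans e
  have h1 : IsCoatom (M.comap f.toMonoidHom) := by
    have h2 := (f.comapSubgroup.isCoatom_iff M).2 hM
    exact h2
  have h2 : ¬ N ≤ M.comap f.toMonoidHom := by
    intro h3
    rw [hN, top_le_iff] at h3
    exact h1.1 h3
  have h4 : (M.comap f.toMonoidHom).map f.toMonoidHom = M :=
    Subgroup.map_comap_eq_self_of_surjective f.surjective M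
  rcases R.max _ h1 h2 with h3 | h3
  · left
    have h5 : (M.comap f.toMonoidHom) ≃* M := by
      have h6 := f.subgroupMap (M.comap f.toMonoidHom)
      exact h6.trans (MulEquiv.subgroupCongr h4)
    exact (Cfsg.Agent.Transfer.NormalPComplement.congr h5).1 h3
  · right
    rw [← h3]
    exact (Subgroup.index_comap_of_surjective M f.surjective).symm

end Cfsg.Agent.H579.InnerRed
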