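/-
Tables of some elements of `M24`, and the exclusion of `M11` and `M23`.
-/
import Cfsg.Prelude.Def_Spor_Mathieu
import Cfsg.Agent.Golay.Orbit
import Cfsg.Agent.H579.MaxPNilRed

set_option autoImplicit false

namespace Cfsg.Agent.H579.MathieuTab

open Cfsg Subgroup Cfsg.Agent.Transfer.PNilpotentBasic
open Cfsg.Agent.H579.MaxPNilRed
open Cfsg.Agent.Golay.Orbit
open scoped Pointwise

/-- An element of order `5`. -/
def x5 : List ℕ := [1, 512, 8, 64, 256, 524288, 4096, 16384, 2, 8192, 131072, 128, 65536, 16, 32, 4194304, 4, 32768, 262144, 2048, 1048576, 1024, 2097152, 8388608]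

/-- An involution inverting it. -/
def y5 : List ℕ := [1, 256, 4096, 64, 512, 16384, 8, 524288, 2, 16, 1024, 2048, 4, 8192, 32, 4194304, 65536, 2097152, 262144, 128, 1048576, 131072, 32768, 8388608]

/-- An element of order `11`. -/
def x11 : List ℕ := [64, 262144, 8192, 8, 65536, 1048576, 256, 32768, 512, 16, 4194304, 16384, 1, 4096, 128, 131072, 2, 524288, 4, 32, 1024, 2048, 2097152, 8388608]

/-- An element of order `5` normalising it. -/
def y11 : List ℕ := [512, 1, 4096, 8, 64, 2048, 4, 128, 256, 262144, 2097152, 32768, 8192, 16, 1024, 1048576, 2, 16384, 65536, 32, 524288, 4194304, 131072, 8388608]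

/-- Elements of `M11` moving the extra point to each point outside the dodecad. -/
def t12 : List (List ℕ) := [
  [1, 262144, 64, 16, 256, 131072, 2, 8388608, 512, 8192, 524288, 2048, 65536, 4, 32768, 1024, 8, 16384, 4096, 1048576, 2097152, 4194304, 128, 32],
  [1, 16, 2, 512, 8, 2097152, 256, 32768, 262144, 65536, 16384, 2048, 8192, 4096, 4194304, 524288, 4, 1048576, 64, 32, 131072, 8388608, 1024, 128],
  [1, 65536, 4, 256, 8192, 8388608, 4096, 2048, 262144, 16, 2097152, 131072, 64, 8, 128, 1048576, 512, 16384, 2, 4194304, 524288, 32768, 32, 1024],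
  [1, 16, 4, 2, 8, 131072, 256, 128, 512, 64, 1024, 1048576, 4096, 65536, 2097152, 32, 262144, 32768, 8192, 524288, 8388608, 4194304, 16384, 2048],
  [1, 262144, 4, 2, 512, 32768, 256, 524288, 65536, 4096, 32, 2048, 16, 8192, 4194304, 1024, 64, 128, 8, 131072, 1048576, 2097152, 8388608, 16384],
  [1, 2, 65536, 8192, 256, 1024, 64, 16384, 4096, 512, 32, 1048576, 262144, 4, 128, 131072, 8, 2097152, 16, 2048, 4194304, 8388608, 524288, 32768],
  [1, 8, 8192, 262144, 64, 1024, 512, 4194304, 4096, 256, 32768, 2048, 65536, 4, 128, 32, 16, 16384, 2, 8388608, 2097152, 1048576, 524288, 131072],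
  [1, 2, 64, 256, 262144, 2048, 4, 2097152, 65536, 16, 32768, 1048576, 512, 8, 131072, 4194304, 4096, 32, 8192, 128, 1024, 8388608, 16384, 524288],
  [1, 512, 64, 4096, 262144, 32768, 4, 32, 8192, 256, 2048, 524288, 65536, 16, 16384, 128, 8, 4194304, 2, 2097152, 8388608, 131072, 1024, 1048576],
  [1, 64, 2, 4096, 65536, 1024, 8192, 4194304, 512, 4, 128, 32768, 256, 8, 1048576, 8388608, 16, 2048, 262144, 131072, 524288, 16384, 32, 2097152],
  [1, 4, 256, 16, 8, 524288, 64, 8388608, 262144, 2, 2097152, 1048576, 512, 4096, 128, 1024, 8192, 2048, 65536, 32768, 32, 131072, 16384, 4194304],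
  [1, 2, 4, 8, 16, 32, 64, 128, 256, 512, 1024, 2048, 4096, 8192, 16384, 32768, 65536, 131072, 262144, 524288, 1048576, 2097152, 4194304, 8388608]]

/-- Elements of the dodecad stabiliser in `M23` moving `0` to each point of the dodecad. -/
def o1 : List (List ℕ) := [
  [1, 2, 4, 8, 16, 32, 64, 128, 256, 512, 1024, 2048, 4096, 8192, 16384, 32768, 65536, 131072, 262144, 524288, 1048576, 2097152, 4194304, 8388608],
  [2, 262144, 64, 1, 8192, 4194304, 512, 2048, 8, 256, 128, 32768, 16, 65536, 32, 16384, 4096, 1048576, 4, 524288, 131072, 1024, 2097152, 8388608],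
  [4, 8, 65536, 16, 8192, 128, 512, 32768, 1, 2, 2097152, 1048576, 4096, 256, 32, 2048, 262144, 524288, 64, 16384, 1024, 4194304, 131072, 8388608],
  [8, 64, 512, 4, 256, 131072, 2, 1048576, 16, 1, 32768, 2048, 8192, 262144, 128, 32, 4096, 1024, 65536, 16384, 524288, 2097152, 4194304, 8388608],
  [16, 512, 262144, 64, 4, 128, 1, 2048, 2, 8, 131072, 1048576, 256, 4096, 32, 16384, 65536, 2097152, 8192, 4194304, 524288, 32768, 1024, 8388608],
  [64, 2, 256, 262144, 512, 16384, 16, 2097152, 8, 4096, 32768, 1024, 1, 4, 128, 1048576, 65536, 131072, 8192, 2048, 524288, 4194304, 32, 8388608],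
  [256, 65536, 4, 16, 8192, 1048576, 1, 16384, 64, 4096, 524288, 32, 512, 262144, 2048, 4194304, 8, 32768, 2, 1024, 2097152, 128, 131072, 8388608],
  [512, 256, 4096, 2, 1, 128, 4, 1048576, 64, 16, 32, 4194304, 8, 65536, 1024, 2048, 8192, 2097152, 262144, 16384, 524288, 131072, 32768, 8388608],
  [4096, 65536, 16, 1, 262144, 2048, 64, 32768, 8, 8192, 1048576, 16384, 2, 4, 128, 524288, 512, 2097152, 256, 4194304, 131072, 32, 1024, 8388608],
  [8192, 2, 256, 4096, 1, 32, 4, 2097152, 512, 65536, 524288, 1048576, 16, 8, 131072, 2048, 64, 4194304, 262144, 16384, 128, 32768, 1024, 8388608],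
  [65536, 4, 1, 256, 4096, 16384, 262144, 32, 8192, 512, 131072, 4194304, 16, 8, 128, 2048, 64, 1024, 2, 2097152, 524288, 32768, 1048576, 8388608],
  [262144, 64, 8192, 8, 1, 128, 256, 32768, 4096, 16, 4194304, 2097152, 65536, 512, 1048576, 1024, 4, 524288, 2, 2048, 131072, 32, 16384, 8388608]]

/-- Elements of the dodecad stabiliser in `M23` moving `5` to each other point. -/
def o2 : List (List ℕ) := [
  [1, 2, 4, 8, 16, 32, 64, 128, 256, 512, 1024, 2048, 4096, 8192, 16384, 32768, 65536, 131072, 262144, 524288, 1048576, 2097152, 4194304, 8388608],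
  [16, 512, 262144, 64, 4, 128, 1, 2048, 2, 8, 131072, 1048576, 256, 4096, 32, 16384, 65536, 2097152, 8192, 4194304, 524288, 32768, 1024, 8388608],
  [65536, 256, 64, 4096, 4, 1024, 8192, 16384, 1, 8, 32768, 524288, 262144, 512, 2048, 128, 2, 131072, 16, 4194304, 2097152, 1048576, 32, 8388608],
  [4096, 65536, 16, 1, 262144, 2048, 64, 32768, 8, 8192, 1048576, 16384, 2, 4, 128, 524288, 512, 2097152, 256, 4194304, 131072, 32, 1024, 8388608],
  [65536, 4, 1, 256, 4096, 16384, 262144, 32, 8192, 512, 131072, 4194304, 16, 8, 128, 2048, 64, 1024, 2, 2097152, 524288, 32768, 1048576, 8388608],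
  [16, 4096, 8192, 2, 4, 32768, 512, 16384, 1, 65536, 131072, 32, 262144, 64, 2048, 524288, 256, 1024, 8, 2097152, 1048576, 4194304, 128, 8388608],
  [2, 8, 65536, 64, 4096, 131072, 4, 1024, 262144, 8192, 32768, 128, 512, 16, 4194304, 1048576, 256, 524288, 1, 2048, 32, 2097152, 16384, 8388608],
  [2, 256, 16, 4, 8, 524288, 1, 32, 262144, 64, 2048, 1048576, 8192, 4096, 131072, 2097152, 65536, 1024, 512, 128, 4194304, 32768, 16384, 8388608],
  [16, 65536, 4096, 8192, 262144, 1048576, 64, 4194304, 8, 1, 2048, 16384, 256, 512, 131072, 2097152, 4, 524288, 2, 32768, 128, 32, 1024, 8388608],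
  [8192, 8, 1, 65536, 2, 2097152, 512, 131072, 16, 4, 2048, 32, 4096, 64, 16384, 128, 256, 524288, 262144, 1048576, 32768, 4194304, 1024, 8388608],
  [2, 262144, 64, 1, 8192, 4194304, 512, 2048, 8, 256, 128, 32768, 16, 65536, 32, 16384, 4096, 1048576, 4, 524288, 131072, 1024, 2097152, 8388608]]

/-- Elements of `M23` giving distinct images of the dodecad. -/
def imgs : List (List ℕ) := [
  [1, 2, 4, 8, 16, 32, 64, 128, 256, 512, 1024, 2048, 4096, 8192, 16384, 32768, 65536, 131072, 262144, 524288, 1048576, 2097152, 4194304, 8388608],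
  [2097152, 4096, 16384, 262144, 512, 4, 32, 64, 2048, 65536, 1024, 524288, 131072, 4194304, 128, 32768, 8192, 8, 2, 1, 1048576, 256, 16, 8388608],
  [2048, 4, 128, 4096, 1, 524288, 32, 131072, 65536, 16, 16384, 262144, 64, 8192, 1048576, 512, 8, 1024, 4194304, 256, 2, 2097152, 32768, 8388608],
  [2097152, 2, 8, 16384, 128, 1048576, 1024, 2048, 262144, 4096, 1, 32, 256, 16, 64, 32768, 131072, 512, 524288, 65536, 4194304, 4, 8192, 8388608],
  [8192, 4, 1, 32768, 65536, 128, 32, 1048576, 512, 4096, 131072, 64, 16384, 16, 8, 2097152, 4194304, 2048, 262144, 524288, 1024, 256, 2, 8388608],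
  [64, 2, 524288, 2097152, 1048576, 1, 1024, 262144, 32, 65536, 131072, 16384, 16, 32768, 4, 4194304, 4096, 128, 8192, 512, 8, 2048, 256, 8388608],
  [128, 4194304, 65536, 32768, 2, 524288, 256, 16, 4096, 4, 2048, 8192, 8, 16384, 1, 262144, 2097152, 1048576, 1024, 512, 64, 131072, 32, 8388608],
  [65536, 2097152, 16384, 64, 4096, 4, 32, 4194304, 524288, 512, 2048, 8192, 8, 1048576, 16, 256, 1024, 131072, 1, 2, 262144, 128, 32768, 8388608],
  [16384, 256, 2097152, 262144, 32768, 512, 131072, 1024, 64, 524288, 128, 1, 32, 2, 2048, 16, 8192, 65536, 4096, 8, 1048576, 4194304, 4, 8388608],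
  [262144, 2, 128, 1048576, 256, 2097152, 4194304, 524288, 32, 65536, 1, 8192, 1024, 64, 2048, 8, 16384, 32768, 4, 16, 512, 4096, 131072, 8388608],
  [512, 524288, 1024, 64, 128, 2, 256, 1048576, 131072, 4, 2097152, 4096, 32768, 8192, 2048, 32, 16, 262144, 4194304, 65536, 16384, 8, 1, 8388608],
  [256, 32768, 4, 524288, 1, 128, 16384, 2, 32, 1048576, 65536, 1024, 8, 131072, 512, 16, 64, 262144, 4096, 2097152, 2048, 8192, 4194304, 8388608],
  [8192, 4096, 2097152, 2048, 32768, 256, 4, 1, 65536, 4194304, 16384, 2, 262144, 32, 8, 512, 524288, 1048576, 64, 1024, 16, 131072, 128, 8388608],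
  [256, 131072, 128, 2, 65536, 16384, 4, 32, 524288, 8192, 1024, 1, 8, 16, 64, 32768, 4194304, 262144, 4096, 2097152, 1048576, 2048, 512, 8388608],
  [2097152, 64, 1048576, 4194304, 16, 128, 524288, 32, 262144, 8, 16384, 256, 1024, 32768, 131072, 512, 8192, 4096, 4, 2048, 2, 65536, 1, 8388608],
  [4, 256, 64, 524288, 4096, 8, 1048576, 1024, 32, 131072, 1, 65536, 512, 8192, 2048, 32768, 16, 16384, 2, 2097152, 4194304, 262144, 128, 8388608],
  [256, 16384, 8, 262144, 4096, 1, 128, 32, 64, 4194304, 131072, 524288, 2048, 2, 1048576, 2097152, 16, 32768, 4, 8192, 1024, 512, 65536, 8388608],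
  [2048, 16, 4, 8192, 65536, 524288, 1, 1024, 16384, 4096, 131072, 512, 128, 256, 262144, 4194304, 32768, 2097152, 2, 64, 8, 32, 1048576, 8388608],
  [131072, 8, 1, 1024, 4, 65536, 524288, 256, 8192, 2097152, 2048, 512, 1048576, 32, 16, 262144, 16384, 32768, 4194304, 128, 64, 4096, 2, 8388608],
  [128, 8, 16, 1, 512, 16384, 4, 32, 8192, 1024, 2048, 2, 131072, 32768, 4194304, 256, 1048576, 64, 2097152, 65536, 262144, 524288, 4096, 8388608],
  [4194304, 32, 2048, 4096, 524288, 2097152, 512, 131072, 1, 8192, 128, 8, 65536, 4, 1024, 16, 2, 262144, 256, 16384, 1048576, 64, 32768, 8388608],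
  [4096, 1024, 2048, 4, 65536, 128, 2097152, 4194304, 8192, 16384, 1, 16, 32768, 131072, 524288, 8, 64, 1048576, 2, 262144, 512, 32, 256, 8388608],
  [8, 32768, 2048, 4194304, 4, 1024, 2, 256, 4096, 16, 2097152, 65536, 262144, 1, 1048576, 32, 8192, 64, 524288, 512, 16384, 131072, 128, 8388608],
  [8192, 8, 512, 4096, 1048576, 4, 128, 16384, 1024, 64, 65536, 2097152, 262144, 4194304, 2, 16, 131072, 524288, 32768, 256, 2048, 32, 1, 8388608]]

/-- The permutation of a table, as a function. -/
def ev (l : List ℕ) (q : GolayPt) : GolayPt := pt (Nat.log2 (l.getD (idx q) 0))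

theorem exists_perm (l : List ℕ) (h1 : okTab l = true) (h2 : m24Tab l = true) :
    ∃ g : Equiv.Perm GolayPt, g ∈ M24 ∧ (∀ q, g q = ev l q) ∧
      ∀ m, g • fin m = fin (act l m) := by
  obtain ⟨g, hg⟩ := exists_rep l h1
  refine ⟨g, hg.mem_M24 h2, fun q => ?_, fun m => hg.smul_fin m⟩
  rw [ev, hg.eq, Nat.log2_two_pow, pt_idx]

theorem squareDodecad_eq : Spor.squareDodecad = fin 340831 := by
  rw [Spor.squareDodecad, qrWord_eq, support_word]
  rfl

theorem not_hnc_of_normalizes {p : ℕ} [hp : Fact p.Prime] {X : Type*} [Group X] [Finite X]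
    {x y : X} {k m : ℕ} (hx : x ≠ 1) (hxp : x ^ p = 1) (hy : y * x * y⁻¹ = x ^ (k + 1))
    (hk : ¬ p ∣ k) (hym : y ^ m = 1) (hm : ¬ p ∣ m) : ¬ HasNormalPComplement p X := by
  intro h
  obtain ⟨K, hK, h1, s, h2⟩ :=
    Cfsg.Agent.OddOrderLocal.NilpotentQuotient.exists_of_hasNormalPComplement h
  have hyK : y ∈ K := by
    rw [← QuotientGroup.eq_one_iff, ← orderOf_eq_one_iff]
    have h3 : (y : X ⧸ K) ^ m = 1 := by rw [← QuotientGroup.mk_pow, hym, QuotientGroup.mk_one]
    have h4 : (y : X ⧸ K) ^ (p ^ s) = 1 := by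
      have h5 : Nat.card (X ⧸ K) = p ^ s := by
        rw [← Subgroup.index_eq_card]
        exact h2
      rw [← h5]
      exact pow_card_eq_one'
    have h5 : Nat.Coprime m (p ^ s) :=
      Nat.Coprime.pow_right s (((Nat.Prime.coprime_iff_not_dvd hp.out).2 hm).symm)
    exact Nat.eq_one_of_dvd_coprimes h5 (orderOf_dvd_of_pow_eq_one h3)
      (orderOf_dvd_of_pow_eq_one h4)
  have h3 : x ^ k ∈ K := by
    have h4 : y * (x * y⁻¹ * x⁻¹) ∈ K :=
      K.mul_mem hyK (hK.conj_mem _ (K.inv_mem hyK) x)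
    have h5 : y * (x * y⁻¹ * x⁻¹) = x ^ k := by
      have h6 : y * (x * y⁻¹ * x⁻¹) = (y * x * y⁻¹) * x⁻¹ := by group
      rw [h6, hy, pow_succ, mul_inv_cancel_right]
    rwa [h5] at h4
  have h4 : (x : X ⧸ K) = 1 := by
    rw [← orderOf_eq_one_iff]
    have h5 : (x : X ⧸ K) ^ k = 1 := by
      rw [← QuotientGroup.mk_pow]
      exact (QuotientGroup.eq_one_iff _).2 h3
    have h6 : (x : X ⧸ K) ^ p = 1 := by rw [← QuotientGroup.mk_pow, hxp, QuotientGroup.mk_one]
    exact Nat.eq_one_of_dvd_coprimes ((Nat.Prime.coprime_iff_not_dvd hp.out).2 hk).symm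
      (orderOf_dvd_of_pow_eq_one h5) (orderOf_dvd_of_pow_eq_one h6)
  rw [QuotientGroup.eq_one_iff] at h4
  apply h1
  have h10 : orderOf x = p := orderOf_eq_prime hxp hx
  have h11 : orderOf (⟨x, h4⟩ : K) = p := by
    rw [Subgroup.orderOf_mk, h10]
  rw [← h11]
  exact orderOf_dvd_natCard _

/-! ### `M11` -/

theorem mem_M11 {g : Equiv.Perm GolayPt} : g ∈ Spor.M11 ↔
    (g ∈ M24 ∧ g • fin 340831 = fin 340831) ∧ g (some 0) = some 0 := by
  rw [Spor.M11, Spor.M12, Subgroup.mem_inf, Subgroup.mem_inf, MulAction.mem_stabilizer_iff,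
    MulAction.mem_stabilizer_iff, squareDodecad_eq]
  rfl

theorem exists_M11 (l : List ℕ) (h1 : okTab l = true) (h2 : m24Tab l = true)
    (h3 : act l 340831 = 340831) (h4 : ev l (some 0) = some 0) :
    ∃ g : Spor.M11, ∀ q, (g : Equiv.Perm GolayPt) q = ev l q := by
  obtain ⟨g, hg1, hg2, hg3⟩ := exists_perm l h1 h2
  exact ⟨⟨g, mem_M11.2 ⟨⟨hg1, by rw [hg3, h3]⟩, by rw [hg2, h4]⟩⟩, hg2⟩

theorem t12_ok : ∀ l ∈ t12, okTab l = true ∧ m24Tab l = true ∧ act l 340831 = 340831 ∧
    ev l (some 0) = some 0 := by decide +kernel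

theorem t12_all : ∀ q : GolayPt, q ∉ fin 340831 → ∃ l ∈ t12, ev l none = q := by decide +kernel

theorem x5_ok : okTab x5 = true ∧ m24Tab x5 = true ∧ act x5 340831 = 340831 ∧
    ev x5 (some 0) = some 0 ∧ ev x5 none = none := by decide +kernel

theorem y5_ok : okTab y5 = true ∧ m24Tab y5 = true ∧ act y5 340831 = 340831 ∧
    ev y5 (some 0) = some 0 ∧ ev y5 none = none := by decide +kernel

theorem x5_pow : ∀ q, ev x5 (ev x5 (ev x5 (ev x5 (ev x5 q)))) = q := by decide +kernel

theorem x5_ne : ev x5 (some 1) ≠ some 1 := by decide +kernel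

theorem y5_x5 : ∀ q, ev x5 (ev y5 (ev x5 q)) = ev y5 q := by decide +kernel

/-- The stabiliser of the extra point in `M11` has index `12`. -/
theorem index_stab : (MulAction.stabilizer Spor.M11 (none : GolayPt)).index = 12 := by
  rw [MulAction.index_stabilizer]
  have h1 : MulAction.orbit Spor.M11 (none : GolayPt) =
      (((fin 340831)ᶜ : Finset GolayPt) : Set GolayPt) := by
    ext q
    rw [Finset.mem_coe, Finset.mem_compl]
    constructor
    · rintro ⟨g, rfl⟩ hq
      have h2 := (mem_M11.1 g.2).1.2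
      have h3 : (g : Equiv.Perm GolayPt) none ∈ fin 340831 := hq
      rw [← h2, Finset.mem_smul_finset] at h3
      obtain ⟨z, hz, hz'⟩ := h3
      have h4 : z = none := (g : Equiv.Perm GolayPt).injective hz'
      rw [h4] at hz
      revert hz
      decide +kernel
    · intro hq
      obtain ⟨l, hl, hlq⟩ := t12_all q hq
      obtain ⟨h2, h3, h4, h5⟩ := t12_ok l hl
      obtain ⟨g, hg⟩ := exists_M11 l h2 h3 h4 h5
      exact ⟨g, (hg none).trans hlq⟩
  rw [h1, Set.ncard_coe_finset]
  decide +kernel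

/-- **`M11` is excluded.** -/
theorem m11_false [Fact (Nat.Prime 5)] (h : ∀ M : Subgroup Spor.M11, IsCoatom M →
    HasNormalPComplement 5 M ∨ M.index = 11) : False := by
  set Y := MulAction.stabilizer Spor.M11 (none : GolayPt) with hY
  have hYi : Y.index = 12 := index_stab
  have hY1 : Y ≠ ⊤ := by
    intro h1
    rw [h1, Subgroup.index_top] at hYi
    omega
  obtain ⟨M, hM, hYM⟩ := (eq_top_or_exists_le_coatom Y).resolve_left hY1
  rcases h M hM with h1 | h1
  · have h2 : HasNormalPComplement 5 Y := hnc_of_le hYM h1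
    obtain ⟨a1, a2, a3, a4, a5⟩ := x5_ok
    obtain ⟨b1, b2, b3, b4, b5⟩ := y5_ok
    obtain ⟨x, hx⟩ := exists_M11 x5 a1 a2 a3 a4
    obtain ⟨y, hy⟩ := exists_M11 y5 b1 b2 b3 b4
    have hxY : x ∈ Y := MulAction.mem_stabilizer_iff.2 ((hx none).trans a5)
    have hyY : y ∈ Y := MulAction.mem_stabilizer_iff.2 ((hy none).trans b5)
    refine not_hnc_of_inverts (by decide) (x := (⟨x, hxY⟩ : Y)) (y := ⟨y, hyY⟩) ?_ ?_ ?_ h2
    · intro h3
      have h4 : x = 1 := congrArg Subtype.val h3
      apply x5_ne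
      rw [← hx, h4]
      rfl
    · apply Subtype.ext
      apply Subtype.ext
      apply Equiv.ext
      intro q
      change ((x : Equiv.Perm GolayPt) ^ 5) q = q
      simp only [pow_succ, pow_zero, one_mul, Equiv.Perm.mul_apply, hx]
      exact x5_pow q
    · have h5 : x * y * x = y := by
        apply Subtype.ext
        apply Equiv.ext
        intro q
        change (x : Equiv.Perm GolayPt) ((y : Equiv.Perm GolayPt) ((x : Equiv.Perm GolayPt) q))
          = (y : Equiv.Perm GolayPt) q
        rw [hx, hy, hx, hy]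
        exact y5_x5 q
      apply Subtype.ext
      change y * x * y⁻¹ = x⁻¹
      calc y * x * y⁻¹ = x⁻¹ * (x * y * x) * y⁻¹ := by group
        _ = x⁻¹ := by rw [h5, mul_inv_cancel_right]
  · have h2 : M.index ∣ Y.index := Subgroup.index_dvd_of_le hYM
    rw [h1, hYi] at h2
    revert h2
    decide

/-! ### `M23` -/

theorem mem_M23 {g : Equiv.Perm GolayPt} : g ∈ Spor.M23 ↔ g ∈ M24 ∧ g none = none := by
  rw [Spor.M23, Subgroup.mem_inf, MulAction.mem_stabilizer_iff]
  rfl

theorem exists_M23 (l : List ℕ) (h1 : okTab l = true) (h2 : m24Tab l = true)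
    (h4 : ev l none = none) :
    ∃ g : Spor.M23, (∀ q, (g : Equiv.Perm GolayPt) q = ev l q) ∧
      ∀ m, g • fin m = fin (act l m) := by
  obtain ⟨g, hg1, hg2, hg3⟩ := exists_perm l h1 h2
  exact ⟨⟨g, mem_M23.2 ⟨hg1, by rw [hg2, h4]⟩⟩, hg2, hg3⟩

theorem o1_ok : ∀ l ∈ o1, okTab l = true ∧ m24Tab l = true ∧ act l 340831 = 340831 ∧
    ev l none = none := by decide +kernel

theorem o1_all : ∀ q : GolayPt, q ∈ fin 340831 → ∃ l ∈ o1, ev l (some 0) = q := by decide +kernel

theorem o2_ok : ∀ l ∈ o2, okTab l = true ∧ m24Tab l = true ∧ act l 340831 = 340831 ∧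
    ev l none = none := by decide +kernel

theorem o2_all : ∀ q : GolayPt, q ∉ fin 340831 → q ≠ none → ∃ l ∈ o2, ev l (some 5) = q := by
  decide +kernel

theorem imgs_ok : ∀ l ∈ imgs, okTab l = true ∧ m24Tab l = true ∧ ev l none = none := by
  decide +kernel

theorem imgs_nodup : (imgs.map fun l => act l 340831).Nodup := by decide +kernel

theorem imgs_lt : ∀ m ∈ (imgs.map fun l => act l 340831), m < 2 ^ 24 := by decide +kernel

theorem imgs_length : imgs.length = 24 := by decide +kernel

theorem x11_ok : okTab x11 = true ∧ m24Tab x11 = true ∧ act x11 340831 = 340831 ∧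
    ev x11 none = none := by decide +kernel

theorem y11_ok : okTab y11 = true ∧ m24Tab y11 = true ∧ act y11 340831 = 340831 ∧
    ev y11 none = none := by decide +kernel

theorem x11_pow : ∀ q, (ev x11)^[11] q = q := by decide +kernel

theorem x11_ne : ev x11 (some 0) ≠ some 0 := by decide +kernel

theorem y11_pow : ∀ q, (ev y11)^[5] q = q := by decide +kernel

theorem y11_x11 : ∀ q, ev y11 (ev x11 q) = (ev x11)^[5] (ev y11 q) := by decide +kernel

theorem iterate_eq {g : Equiv.Perm GolayPt} {l : List ℕ} (h : ∀ q, g q = ev l q) (k : ℕ)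
    (q : GolayPt) : (g ^ k) q = (ev l)^[k] q := by
  rw [Equiv.Perm.coe_pow]
  congr 1
  funext x
  exact h x

/-- The orbit of the dodecad is large. -/
theorem index_stab23 : (MulAction.stabilizer Spor.M23 (fin 340831)).index ≠ 23 := by
  rw [MulAction.index_stabilizer]
  intro h
  have h1 : (((imgs.map fun l => act l 340831).toFinset.image fin : Finset (Finset GolayPt)) :
      Set (Finset GolayPt)) ⊆ MulAction.orbit Spor.M23 (fin 340831) := by
    intro t ht
    rw [Finset.mem_coe, Finset.mem_image] at ht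
    obtain ⟨m, hm, rfl⟩ := ht
    rw [List.mem_toFinset, List.mem_map] at hm
    obtain ⟨l, hl, rfl⟩ := hm
    obtain ⟨h2, h3, h4⟩ := imgs_ok l hl
    obtain ⟨g, -, hg⟩ := exists_M23 l h2 h3 h4
    exact ⟨g, hg _⟩
  have h2 := Set.ncard_le_ncard h1 (Set.toFinite _)
  rw [Set.ncard_coe_finset, Finset.card_image_of_injOn, List.toFinset_card_of_nodup imgs_nodup,
    List.length_map, imgs_length, h] at h2
  · omega
  · intro m hm m' hm' hmm
    rw [Finset.mem_coe, List.mem_toFinset] at hm hm'
    exact fin_injOn m m' (imgs_lt m hm) (imgs_lt m' hm') hmm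

/-- The order of `M23` is not divisible by `23 ^ 2`. -/
theorem not_sq_dvd : ¬ 23 ^ 2 ∣ Nat.card Spor.M23 := by
  intro h
  let f : Spor.M23 →* Equiv.Perm {q : GolayPt // q ≠ none} :=
    { toFun := fun g => (g : Equiv.Perm GolayPt).subtypePerm (fun q => by
        have h1 := (mem_M23.1 g.2).2
        constructor
        · intro h2 h3
          apply h2
          rw [h3, h1]
        · intro h2 h3
          apply h2
          apply (g : Equiv.Perm GolayPt).injective
          rw [h3, h1])
      map_one' := by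
        apply Equiv.ext
        intro q
        rfl
      map_mul' := fun g g' => by
        apply Equiv.ext
        intro q
        rfl }
  have hf : Function.Injective f := by
    intro g g' hgg
    apply Subtype.ext
    apply Equiv.ext
    intro q
    by_cases hq : q = none
    · rw [hq, (mem_M23.1 g.2).2, (mem_M23.1 g'.2).2]
    · have h1 := congrArg (fun σ : Equiv.Perm {q : GolayPt // q ≠ none} => (σ ⟨q, hq⟩ : GolayPt))
        hgg
      exact h1
  have h1 := Subgroup.card_dvd_of_injective f hf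
  have h2 : Nat.card (Equiv.Perm {q : GolayPt // q ≠ none}) = Nat.factorial 23 := by
    rw [Nat.card_perm, Nat.card_eq_fintype_card]
    congr 1
  rw [h2] at h1
  have h3 := h.trans h1
  revert h3
  decide +kernel

/-- **`M23` is excluded.** -/
theorem m23_false [Fact (Nat.Prime 11)] (h : ∀ M : Subgroup Spor.M23, IsCoatom M →
    HasNormalPComplement 11 M ∨ M.index = 23) : False := by
  set Y := MulAction.stabilizer Spor.M23 (fin 340831) with hY
  -- elements of `Y`
  have hYmem : ∀ (l : List ℕ), okTab l = true → m24Tab l = true → act l 340831 = 340831 →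
      ev l none = none → ∃ g ∈ Y, ∀ q, (g : Equiv.Perm GolayPt) q = ev l q := by
    intro l h1 h2 h3 h4
    obtain ⟨g, hg1, hg2⟩ := exists_M23 l h1 h2 h4
    exact ⟨g, MulAction.mem_stabilizer_iff.2 (by rw [hg2, h3]), hg1⟩
  have hYpt : ∀ g ∈ Y, ∀ q ∈ fin 340831, (g : Equiv.Perm GolayPt) q ∈ fin 340831 := by
    intro g hg q hq
    have h1 : g • fin 340831 = fin 340831 := MulAction.mem_stabilizer_iff.1 hg
    rw [← h1]
    exact Finset.smul_mem_smul_finset hq
  have hY1 : Y ≠ ⊤ := by
    intro h1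
    -- the second image differs
    have h2 : ∀ l ∈ imgs, act l 340831 = 340831 := by
      intro l hl
      obtain ⟨h3, h4, h5⟩ := imgs_ok l hl
      obtain ⟨g, -, hg⟩ := exists_M23 l h3 h4 h5
      have h6 : g ∈ Y := h1 ▸ Subgroup.mem_top g
      have h7 : g • fin 340831 = fin 340831 := MulAction.mem_stabilizer_iff.1 h6
      rw [hg] at h7
      exact fin_injOn _ _ (imgs_lt _ (List.mem_map.2 ⟨l, hl, rfl⟩)) (by decide) h7
    revert h2
    decide +kernel
  obtain ⟨M, hM, hYM⟩ := (eq_top_or_exists_le_coatom Y).resolve_left hY1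
  rcases h M hM with h1 | h1
  · have h2 : HasNormalPComplement 11 Y := hnc_of_le hYM h1
    obtain ⟨a1, a2, a3, a4⟩ := x11_ok
    obtain ⟨b1, b2, b3, b4⟩ := y11_ok
    obtain ⟨x, hxY, hx⟩ := hYmem x11 a1 a2 a3 a4
    obtain ⟨y, hyY, hy⟩ := hYmem y11 b1 b2 b3 b4
    refine not_hnc_of_normalizes (x := (⟨x, hxY⟩ : Y)) (y := ⟨y, hyY⟩) (k := 4) (m := 5)
      ?_ ?_ ?_ (by decide) ?_ (by decide) h2
    · intro h3
      have h4 : x = 1 := congrArg Subtype.val h3
      apply x11_ne
      rw [← hx, h4]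
      rfl
    · apply Subtype.ext
      apply Subtype.ext
      apply Equiv.ext
      intro q
      change ((x : Equiv.Perm GolayPt) ^ 11) q = q
      rw [iterate_eq hx]
      exact x11_pow q
    · rw [mul_inv_eq_iff_eq_mul]
      apply Subtype.ext
      apply Subtype.ext
      apply Equiv.ext
      intro q
      change (y : Equiv.Perm GolayPt) ((x : Equiv.Perm GolayPt) q)
        = ((x : Equiv.Perm GolayPt) ^ 5) ((y : Equiv.Perm GolayPt) q)
      rw [iterate_eq hx, hy, hy, hx]
      exact y11_x11 q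
    · apply Subtype.ext
      apply Subtype.ext
      apply Equiv.ext
      intro q
      change ((y : Equiv.Perm GolayPt) ^ 5) q = q
      rw [iterate_eq hy]
      exact y11_pow q
  · -- `M` preserves the dodecad
    have hMD : M ≤ Y := by
      by_contra hnot
      obtain ⟨g, hgM, hgY⟩ := SetLike.not_le_iff_exists.1 hnot
      -- a point of the dodecad moved outside
      obtain ⟨q, hq, hgq⟩ : ∃ q ∈ fin 340831, (g : Equiv.Perm GolayPt) q ∉ fin 340831 := by
        by_contra hno
        push Not at hno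
        apply hgY
        rw [hY, MulAction.mem_stabilizer_iff]
        apply Finset.eq_of_subset_of_card_le
        · intro z hz
          rw [Finset.mem_smul_finset] at hz
          obtain ⟨w, hw, rfl⟩ := hz
          exact hno w hw
        · rw [Finset.card_smul_finset]
      have hg0 : (g : Equiv.Perm GolayPt) q ≠ none := by
        intro h2
        have h3 : q = none := by
          apply (g : Equiv.Perm GolayPt).injective
          rw [h2, (mem_M23.1 g.2).2]
        rw [h3] at hq
        revert hq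
        decide +kernel
      -- the orbit of `0` is everything but the extra point
      have horb : MulAction.orbit M (some 0 : GolayPt) = {z | z ≠ none} := by
        have horb1 : ∀ z ∈ fin 340831, z ∈ MulAction.orbit M (some 0 : GolayPt) := by
          intro z hz
          obtain ⟨l, hl, hlz⟩ := o1_all z hz
          obtain ⟨c1, c2, c3, c4⟩ := o1_ok l hl
          obtain ⟨u, hu, hul⟩ := hYmem l c1 c2 c3 c4
          exact ⟨⟨u, hYM hu⟩, (hul _).trans hlz⟩
        have horb2 : ∀ z, z ∉ fin 340831 → z ≠ none → ∃ u ∈ Y, (u : Equiv.Perm GolayPt) (some 5) = z := by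
          intro z hz hz0
          obtain ⟨l, hl, hlz⟩ := o2_all z hz hz0
          obtain ⟨c1, c2, c3, c4⟩ := o2_ok l hl
          obtain ⟨u, hu, hul⟩ := hYmem l c1 c2 c3 c4
          exact ⟨u, hu, (hul _).trans hlz⟩
        ext z
        constructor
        · rintro ⟨u, rfl⟩ h2
          have h3 : (u.1 : Equiv.Perm GolayPt) (some 0) = none := h2
          have h4 : (some 0 : GolayPt) = none := by
            apply (u.1 : Equiv.Perm GolayPt).injective
            rw [h3, (mem_M23.1 u.1.2).2]
          exact absurd h4 (by simp)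
        · intro hz
          by_cases hzD : z ∈ fin 340831
          · exact horb1 z hzD
          · obtain ⟨u, hu, hu5⟩ := horb2 z hzD hz
            obtain ⟨v, hv, hv5⟩ := horb2 _ hgq hg0
            obtain ⟨w, hw⟩ := horb1 q hq
            refine ⟨⟨u, hYM hu⟩ * ⟨v, hYM hv⟩⁻¹ * ⟨g, hgM⟩ * w, ?_⟩
            change (u : Equiv.Perm GolayPt) ((v : Equiv.Perm GolayPt)⁻¹ ((g : Equiv.Perm GolayPt)
              ((w.1 : Equiv.Perm GolayPt) (some 0)))) = z
            have hw' : (w.1 : Equiv.Perm GolayPt) (some 0) = q := hw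
            rw [hw', ← hv5]
            exact (congrArg (u : Equiv.Perm GolayPt)
              ((v : Equiv.Perm GolayPt).symm_apply_apply (some 5))).trans hu5
      have h2 : 23 ∣ Nat.card M := by
        have h3 : Nat.card (MulAction.orbit M (some 0 : GolayPt)) ∣ Nat.card M := by
          rw [Nat.card_congr (MulAction.orbitEquivQuotientStabilizer M (some 0 : GolayPt))]
          exact Subgroup.card_quotient_dvd_card _
        rw [horb] at h3
        have h4 : Nat.card {z : GolayPt | z ≠ none} = 23 := by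
          rw [Nat.card_eq_fintype_card]
          decide
        rwa [h4] at h3
      apply not_sq_dvd
      rw [← Subgroup.card_mul_index M, h1, pow_two]
      exact Nat.mul_dvd_mul_right h2 23
    have h2 : M = Y := le_antisymm hMD hYM
    rw [h2] at h1
    exact index_stab23 h1

end Cfsg.Agent.H579.MathieuTab
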