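/-
The prime index is congruent to `1` modulo `p`.
-/
import Cfsg.Agent.H579.MaxPNilRed

set_option autoImplicit false

namespace Cfsg.Agent.H579.RedMod

open Cfsg Subgroup Cfsg.Agent.Transfer.PNilpotentBasic
open Cfsg.Agent.H579.MaxPNilRed

/-- A subgroup containing the normaliser of a Sylow `p`-subgroup has index `1` modulo `p`. -/
theorem index_modEq {G : Type*} [Group G] [Finite G] {p : ℕ} [hp : Fact p.Prime] (P : Sylow p G)
    {H : Subgroup G} (h : normalizer ((P : Subgroup G) : Set G) ≤ H) : H.index ≡ 1 [MOD p] := by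
  have hPH : (P : Subgroup G) ≤ H := le_normalizer.trans h
  have h1 : (normalizer (((P.subtype hPH : Sylow p H) : Subgroup H) : Set H)) =
      (normalizer ((P : Subgroup G) : Set G)).subgroupOf H := by
    rw [Sylow.coe_subtype]
    ext x
    rw [Subgroup.mem_subgroupOf, Subgroup.mem_normalizer_iff, Subgroup.mem_normalizer_iff]
    constructor
    · intro hx y
      constructor
      · intro hy
        exact (hx ⟨y, hPH hy⟩).1 hy
      · intro hy
        have hyH : y ∈ H := by
          have h2 := hPH hy
          have h3 : y = (x : G)⁻¹ * ((x : G) * y * (x : G)⁻¹) * (x : G) := by group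
          rw [h3]
          exact H.mul_mem (H.mul_mem (H.inv_mem x.2) h2) x.2
        exact (hx ⟨y, hyH⟩).2 hy
    · intro hx y
      exact hx (y : G)
  have h2 := card_sylow_modEq_one p H
  rw [Sylow.card_eq_index_normalizer (P.subtype hPH)] at h2
  replace h2 : (normalizer (((P.subtype hPH : Sylow p H) : Subgroup H) : Set H)).index
    ≡ 1 [MOD p] := h2
  rw [h1] at h2
  have h3 := card_sylow_modEq_one p G
  rw [Sylow.card_eq_index_normalizer P] at h3
  replace h3 : (normalizer ((P : Subgroup G) : Set G)).index ≡ 1 [MOD p] := h3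
  have h4 : (normalizer ((P : Subgroup G) : Set G)).relIndex H * H.index =
      (normalizer ((P : Subgroup G) : Set G)).index := Subgroup.relIndex_mul_index h
  have h5 : (normalizer ((P : Subgroup G) : Set G)).relIndex H ≡ 1 [MOD p] := h2
  rw [← h4] at h3
  have h6 := (h5.mul_right H.index).symm.trans h3
  rwa [one_mul] at h6

variable {Q : Type*} [Group Q] [Finite Q] {p : ℕ} [hp : Fact p.Prime]

/-- The socle has no normal `p`-complement. -/
theorem not_hnc_socle {N : Subgroup Q} {r : ℕ} (R : Red p Q N r) : ¬ HasNormalPComplement p N := by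
  intro h
  have hsimple := R.simple
  obtain ⟨K, hK, h1, k, h2⟩ :=
    Cfsg.Agent.OddOrderLocal.NilpotentQuotient.exists_of_hasNormalPComplement h
  rcases hK.eq_bot_or_eq_top with h3 | h3
  · subst h3
    rw [Subgroup.index_bot] at h2
    have h4 : IsPGroup p N := IsPGroup.of_card h2
    have h5 : Group.IsNilpotent N := h4.isNilpotent
    have h6 : Subgroup.center N = ⊤ := by
      rcases (inferInstance : (Subgroup.center N).Normal).eq_bot_or_eq_top with h7 | h7
      · have h8 : Nontrivial (Subgroup.center N) := h4.center_nontrivial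
        exact absurd h7 ((Subgroup.nontrivial_iff_ne_bot _).1 h8)
      · exact h7
    apply R.notComm
    intro a b
    have : a ∈ Subgroup.center N := h6 ▸ Subgroup.mem_top a
    exact ((Subgroup.mem_center_iff.1 this) b).symm
  · subst h3
    apply h1
    rw [Subgroup.card_top]
    exact R.dvd

/-- **The prime index is `1` modulo `p`.** -/
theorem modEq (hp2 : p ≠ 2) {N : Subgroup Q} {r : ℕ} (R : Red p Q N r) : r ≡ 1 [MOD p] := by
  have hN := R.normal
  have hsimple := R.simple
  obtain ⟨P⟩ : Nonempty (Sylow p N) := inferInstance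
  set P' : Subgroup Q := (P : Subgroup N).map N.subtype with hP'
  set Z' : Subgroup Q := centerThompsonOf p P' with hZ'
  set Z : Subgroup N := centerThompsonOf p (P : Subgroup N) with hZ
  have hmapZ : Z.map N.subtype = Z' :=
    Cfsg.Agent.S0117.map_centerThompsonOf p N.subtype P N.subtype_injective.injOn
  have hP1 : (P : Subgroup N) ≠ ⊥ := fun h => P.ne_bot_of_dvd_card R.dvd h
  have hZ1 : Z ≠ ⊥ := Cfsg.Agent.S0117.centerThompsonOf_ne_bot P.isPGroup' hP1
  have hZ'1 : Z' ≠ ⊥ := by
    rw [← hmapZ]
    intro h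
    exact hZ1 ((Subgroup.map_eq_bot_iff_of_injective Z N.subtype_injective).1 h)
  have hfr : normalizer (P' : Set Q) ⊔ N = ⊤ := Sylow.normalizer_sup_eq_top P
  have hle : normalizer (P' : Set Q) ≤ normalizer (Z' : Set Q) := normalizer_map_le
  -- `X = N_N(Z')`
  set X : Subgroup Q := (normalizer (Z : Set N)).map N.subtype with hX
  have hXle : X ≤ normalizer (Z' : Set Q) := by
    rintro _ ⟨g, hg, rfl⟩
    rw [SetLike.mem_coe, Subgroup.mem_normalizer_iff_map_conj_eq] at hg
    rw [Subgroup.mem_normalizer_iff_map_conj_eq, ← hmapZ, Subgroup.map_map]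
    conv_rhs => rw [← hg, Subgroup.map_map]
    congr 1
  have hXeq : X = normalizer (Z' : Set Q) ⊓ N := by
    apply le_antisymm
    · exact le_inf hXle (Subgroup.map_subtype_le _)
    · rintro g ⟨hg1, hg2⟩
      refine ⟨⟨g, hg2⟩, ?_, rfl⟩
      rw [SetLike.mem_coe, Subgroup.mem_normalizer_iff]
      intro y
      have h3 := (Subgroup.mem_normalizer_iff.1 hg1) (y : Q)
      rw [← hmapZ] at h3
      have h4 : ∀ z : N, (z : Q) ∈ Z.map N.subtype ↔ z ∈ Z := by
        intro z
        constructor
        · rintro ⟨w, hw, hwz⟩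
          have : w = z := Subtype.ext hwz
          rwa [← this]
        · intro hz
          exact ⟨z, hz, rfl⟩
      rw [h4] at h3
      have h5 : g * (y : Q) * g⁻¹ = ((⟨g, hg2⟩ * y * ⟨g, hg2⟩⁻¹ : N) : Q) := rfl
      rw [h5, h4] at h3
      exact h3
  have hnX : normalizer (Z' : Set Q) ≤ normalizer (X : Set Q) := by
    rw [hXeq]
    intro g hg
    rw [Subgroup.mem_normalizer_iff]
    intro z
    rw [Subgroup.mem_inf, Subgroup.mem_inf]
    constructor
    · rintro ⟨h1, h2⟩
      exact ⟨mul_mem (mul_mem hg h1) (inv_mem hg), hN.conj_mem z h2 g⟩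
    · rintro ⟨h1, h2⟩
      have h3 : z = g⁻¹ * (g * z * g⁻¹) * g := by group
      refine ⟨?_, ?_⟩
      · rw [h3]
        exact mul_mem (mul_mem (inv_mem hg) h1) hg
      · have h4 := hN.conj_mem _ h2 g⁻¹
        rw [inv_inv] at h4
        rw [h3]
        exact h4
  have hsup : N ⊔ normalizer (X : Set Q) = ⊤ := by
    rw [sup_comm]
    exact top_le_iff.1 (hfr.symm.le.trans (sup_le_sup_right (hle.trans hnX) N))
  have hnot : ¬ HasNormalPComplement p X := by
    intro h
    apply not_hnc_socle R
    rw [Cfsg.Agent.S0117.result hp2 P]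
    exact (hnc_congr ((normalizer (Z : Set N)).equivMapOfInjective N.subtype
      N.subtype_injective)).1 h
  have hX1 : X ≠ ⊥ := by
    intro h
    apply hnot
    apply hnc_of_coprime
    rw [h, Subgroup.card_bot]
    exact Nat.coprime_one_left p
  have hX2 : ¬ N ≤ X := by
    intro h
    have h1 : normalizer (Z : Set N) = ⊤ := by
      rw [eq_top_iff]
      intro g _
      obtain ⟨w, hw, hwg⟩ := h g.2
      have : w = g := Subtype.ext hwg
      rwa [← this]
    have hZn : Z.Normal := Subgroup.normalizer_eq_top_iff.1 h1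
    rcases hZn.eq_bot_or_eq_top with h2 | h2
    · exact hZ1 h2
    · -- `N` is a `p`-group
      apply not_hnc_socle R
      apply hnc_of_isPGroup
      have h3 : (P : Subgroup N) = ⊤ := by
        rw [eq_top_iff, ← h2]
        exact Cfsg.Agent.S0117.centerThompsonOf_le p _
      exact (P.isPGroup'.of_equiv (MulEquiv.subgroupCongr h3)).of_equiv Subgroup.topEquiv
  rcases R.sub hsup hX1 hX2 (Subgroup.map_subtype_le _) with h | ⟨M, hM, hNM, hi, hXM, -⟩
  · exact absurd h hnot
  · have hNM' : N ⊔ M = ⊤ := by
      rw [sup_comm]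
      exact hM.2 _ (left_lt_sup.2 hNM)
    have h1 : M.index = M.relIndex N := index_eq_relIndex hNM'
    have h2 : normalizer ((P : Subgroup N) : Set N) ≤ M.subgroupOf N := by
      intro g hg
      rw [Subgroup.mem_subgroupOf]
      apply hXM
      apply hnX
      apply hle
      rw [Subgroup.mem_normalizer_iff_map_conj_eq] at hg ⊢
      rw [hP', Subgroup.map_map]
      conv_rhs => rw [← hg, Subgroup.map_map]
      congr 1
    have h3 := index_modEq P h2
    rw [← hi, h1]
    exact h3

end Cfsg.Agent.H579.RedMod
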