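/-
Automorphisms of `SL_n(F)` when `n` is prime to `|F| - 1`.
-/
import Mathlib
import Cfsg.Agent.ClassicalGeometry.AutPSL.Main

set_option autoImplicit false

namespace Cfsg.Agent.H579.SLAut

open Matrix
open Cfsg.Agent.ClassicalGeometry.AutPSL.Root
open Cfsg.Agent.ClassicalGeometry.AutPSL.Auto
open Cfsg.Agent.ClassicalGeometry.AutPSL.Main

variable {n : ℕ} {F : Type*} [Field F] [Fintype F]

theorem eq_one_of_pow (hn : 2 ≤ n) {r : F} (hc : Nat.Coprime n (Fintype.card F - 1))
    (h : r ^ n = 1) : r = 1 := by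
  by_cases hr : r = 0
  · subst hr
    rw [zero_pow (by omega)] at h
    exact h
  · have h1 : r ^ (Fintype.card F - 1) = 1 := FiniteField.pow_card_sub_one_eq_one r hr
    have h2 : orderOf r ∣ n := orderOf_dvd_of_pow_eq_one h
    have h3 : orderOf r ∣ Fintype.card F - 1 := orderOf_dvd_of_pow_eq_one h1
    have h4 : orderOf r = 1 := Nat.eq_one_of_dvd_coprimes hc h2 h3
    exact orderOf_eq_one_iff.1 h4

theorem center_eq_bot (hn : 2 ≤ n) (hc : Nat.Coprime n (Fintype.card F - 1)) :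
    Subgroup.center (Matrix.SpecialLinearGroup (Fin n) F) = ⊥ := by
  rw [eq_bot_iff]
  intro z hz
  obtain ⟨r, hr, hrz⟩ := Matrix.SpecialLinearGroup.mem_center_iff.1 hz
  rw [Fintype.card_fin] at hr
  have h1 := eq_one_of_pow hn hc hr
  rw [Subgroup.mem_bot]
  apply Subtype.ext
  rw [← hrz, h1, map_one, Matrix.SpecialLinearGroup.coe_one]

theorem pr_injective (hn : 2 ≤ n) (hc : Nat.Coprime n (Fintype.card F - 1)) :
    Function.Injective (pr : Matrix.SpecialLinearGroup (Fin n) F →* _) := by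
  rw [injective_iff_map_eq_one]
  intro x hx
  rw [pr_eq_one_iff, center_eq_bot hn hc] at hx
  exact hx

/-- `SL ≃* PSL`. -/
noncomputable def prEquiv (hn : 2 ≤ n) (hc : Nat.Coprime n (Fintype.card F - 1)) :
    Matrix.SpecialLinearGroup (Fin n) F ≃* Matrix.ProjectiveSpecialLinearGroup (Fin n) F :=
  MulEquiv.ofBijective pr ⟨pr_injective hn hc, pr_surjective⟩

theorem lift_injective (hn : 2 ≤ n) (hc : Nat.Coprime n (Fintype.card F - 1)) :
    Function.Injective (lift : MulAut (Matrix.SpecialLinearGroup (Fin n) F) →* _) := by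
  intro α β h
  apply MulEquiv.ext
  intro x
  apply pr_injective hn hc
  rw [← lift_pr, ← lift_pr, h]

/-- Conjugation by an element of `GL` is conjugation by an element of `SL`. -/
theorem exists_conj (hn : 2 ≤ n) (hc : Nat.Coprime n (Fintype.card F - 1)) (A : GL (Fin n) F) :
    ∃ B : Matrix.SpecialLinearGroup (Fin n) F, cj A = MulAut.conj B := by
  classical
  -- an `n`-th root of the determinant
  obtain ⟨μ, hμ⟩ : ∃ μ : Fˣ, μ ^ n = (Matrix.GeneralLinearGroup.det A) := by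
    have hco : Nat.Coprime n (Nat.card Fˣ) := by
      rw [Nat.card_eq_fintype_card, Fintype.card_units]
      exact hc
    have h1 : Function.Surjective (fun μ : Fˣ => μ ^ n) := by
      intro y
      obtain ⟨x, hx⟩ := (powCoprime hco.symm).surjective y
      exact ⟨x, hx⟩
    exact h1 _
  let C : GL (Fin n) F := Matrix.GeneralLinearGroup.scalar (Fin n) μ⁻¹ * A
  have hC : (C : Matrix (Fin n) (Fin n) F).det = 1 := by
    have h1 : Matrix.GeneralLinearGroup.det C = 1 := by
      change Matrix.GeneralLinearGroup.det (Matrix.GeneralLinearGroup.scalar (Fin n) μ⁻¹ * A) = 1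
      rw [map_mul]
      have h2 : Matrix.GeneralLinearGroup.det (Matrix.GeneralLinearGroup.scalar (Fin n) μ⁻¹)
          = (μ⁻¹) ^ n := by
        apply Units.ext
        change (scalar (Fin n) ((μ⁻¹ : Fˣ) : F)).det = _
        rw [scalar_apply, det_diagonal, Finset.prod_const, Finset.card_univ, Fintype.card_fin,
          Units.val_pow_eq_pow_val]
      rw [h2, ← hμ, inv_pow, inv_mul_cancel]
    exact congrArg Units.val h1
  have h1 : cj C = cj A := by
    change cj (Matrix.GeneralLinearGroup.scalar (Fin n) μ⁻¹ * A) = cj A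
    rw [map_mul, cj_eq_one_of_scalar (C := Matrix.GeneralLinearGroup.scalar (Fin n) μ⁻¹)
      (r := ((μ⁻¹ : Fˣ) : F)) rfl, one_mul]
  obtain ⟨B, hB⟩ : ∃ B : Matrix.SpecialLinearGroup (Fin n) F, B.1 = C := ⟨⟨C, hC⟩, rfl⟩
  refine ⟨B, ?_⟩
  rw [← h1]
  have h2 : (C : Matrix (Fin n) (Fin n) F) * (B⁻¹ : Matrix.SpecialLinearGroup (Fin n) F).1
      = 1 := by
    rw [← hB]
    exact congrArg Subtype.val (mul_inv_cancel B)
  have h3 : ((C⁻¹ : GL (Fin n) F) : Matrix (Fin n) (Fin n) F) * (C : Matrix (Fin n) (Fin n) F)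
      = 1 := by
    rw [← Units.val_mul, inv_mul_cancel, Units.val_one]
  have h4 : ((C⁻¹ : GL (Fin n) F) : Matrix (Fin n) (Fin n) F)
      = (B⁻¹ : Matrix.SpecialLinearGroup (Fin n) F).1 := by
    calc ((C⁻¹ : GL (Fin n) F) : Matrix (Fin n) (Fin n) F)
        = ((C⁻¹ : GL (Fin n) F) : Matrix (Fin n) (Fin n) F) * ((C : Matrix (Fin n) (Fin n) F) *
          (B⁻¹ : Matrix.SpecialLinearGroup (Fin n) F).1) := by rw [h2, mul_one]
      _ = _ := by rw [← mul_assoc, h3, one_mul]
  apply MulEquiv.ext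
  intro g
  apply Subtype.ext
  change (C : Matrix (Fin n) (Fin n) F) * g.1 * ((C⁻¹ : GL (Fin n) F) : Matrix (Fin n) (Fin n) F)
    = B.1 * g.1 * (B⁻¹ : Matrix.SpecialLinearGroup (Fin n) F).1
  rw [h4, hB]

/-- The automorphisms of `SL_n(F)`, `n` prime to `|F| - 1`. -/
theorem exists_aut (hn : 2 ≤ n) (hc : Nat.Coprime n (Fintype.card F - 1))
    (α : MulAut (Matrix.SpecialLinearGroup (Fin n) F)) :
    (∃ (B : Matrix.SpecialLinearGroup (Fin n) F) (σ : F ≃+* F), α = MulAut.conj B * fld σ) ∨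
    (3 ≤ n ∧ ∃ (B : Matrix.SpecialLinearGroup (Fin n) F) (σ : F ≃+* F),
      α = MulAut.conj B * fld σ * itr) := by
  obtain ⟨p, hp⟩ := CharP.exists F
  have hpp : Fact p.Prime := ⟨CharP.char_is_prime F p⟩
  by_cases h3 : 3 ≤ n
  · rcases surj_three p h3 (lift α) with ⟨A, σ, h⟩ | ⟨A, σ, h⟩
    · obtain ⟨B, hB⟩ := exists_conj hn hc A
      refine Or.inl ⟨B, σ, ?_⟩
      rw [← hB]
      exact lift_injective hn hc h
    · obtain ⟨B, hB⟩ := exists_conj hn hc A
      refine Or.inr ⟨h3, B, σ, ?_⟩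
      rw [← hB]
      exact lift_injective hn hc h
  · obtain rfl : n = 2 := by omega
    obtain ⟨A, σ, h⟩ := surj_two p (lift α)
    obtain ⟨B, hB⟩ := exists_conj hn hc A
    refine Or.inl ⟨B, σ, ?_⟩
    rw [← hB]
    exact lift_injective hn hc h

end Cfsg.Agent.H579.SLAut
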