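/-
An almost simple group `Q` with socle `SL_n(F)` (`n` prime to `|F| - 1`) having a maximal subgroup
of prime index not containing the socle.
-/
import Cfsg.Agent.H579.MaxPNilRed
import Cfsg.Agent.H579.SLStab
import Cfsg.Agent.H579.SLAut

set_option autoImplicit false

namespace Cfsg.Agent.H579.SLRed

open Cfsg Subgroup Cfsg.Agent.Transfer.PNilpotentBasic Matrix
open Cfsg.Agent.H579.MaxPNilRed Cfsg.Agent.H579.SLStab Cfsg.Agent.H579.SLAut
open Cfsg.Agent.ClassicalGeometry.AutPSL.Root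
open Cfsg.Agent.ClassicalGeometry.AutPSL.Auto

section matrices

variable {n : ℕ} {F : Type*} [Field F]

theorem fld_smul (σ : F ≃+* F) (g : Matrix.SpecialLinearGroup (Fin n) F) (u : Fin n → F) :
    (fun i => σ ((g • u) i)) = (fld σ g) • (fun i => σ (u i)) := by
  ext i
  change σ (((g : Matrix (Fin n) (Fin n) F) *ᵥ u) i) =
    ((fld σ g : Matrix (Fin n) (Fin n) F) *ᵥ fun i => σ (u i)) i
  rw [mulVec, mulVec, dotProduct, dotProduct, map_sum]
  apply Finset.sum_congr rfl
  intro j _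
  rw [map_mul, coe_fld_apply]

theorem itr_dot (g : Matrix.SpecialLinearGroup (Fin n) F) (φ w : Fin n → F) :
    (itr g • φ) ⬝ᵥ w = φ ⬝ᵥ (g⁻¹ • w) := by
  change ((itr g : Matrix (Fin n) (Fin n) F) *ᵥ φ) ⬝ᵥ w =
    φ ⬝ᵥ (((g⁻¹ : Matrix.SpecialLinearGroup (Fin n) F) : Matrix (Fin n) (Fin n) F) *ᵥ w)
  rw [coe_itr, dotProduct_mulVec, ← mulVec_transpose]

/-- The perpendicular subspace. -/
def perp (W : Submodule F (Fin n → F)) : Submodule F (Fin n → F) :=
  (W.dualAnnihilator).comap (dotProductEquiv F (Fin n)).toLinearMap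

theorem mem_perp {W : Submodule F (Fin n → F)} {φ : Fin n → F} :
    φ ∈ perp W ↔ ∀ w ∈ W, φ ⬝ᵥ w = 0 := by
  rw [perp, Submodule.mem_comap, Submodule.mem_dualAnnihilator]
  rfl

theorem finrank_perp (W : Submodule F (Fin n → F)) :
    Module.finrank F W + Module.finrank F (perp W) = n := by
  have h1 := Subspace.finrank_add_finrank_dualAnnihilator_eq W
  rw [Module.finrank_fintype_fun_eq_card, Fintype.card_fin] at h1
  have h2 : Module.finrank F (perp W) = Module.finrank F W.dualAnnihilator := by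
    apply LinearEquiv.finrank_eq
    exact (dotProductEquiv F (Fin n)).submoduleMap (perp W) |>.trans
      (LinearEquiv.ofEq _ _ (by
        rw [perp]
        exact Submodule.map_comap_eq_of_surjective (dotProductEquiv F (Fin n)).surjective _))
  rw [h2]
  exact h1

/-- The image of a subspace under `B ∘ σ`. -/
def semi (B : Matrix.SpecialLinearGroup (Fin n) F) (σ : F ≃+* F)
    (W : Submodule F (Fin n → F)) : Submodule F (Fin n → F) where
  carrier := {v | (fun i => σ.symm ((B⁻¹ • v) i)) ∈ W}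
  zero_mem' := by
    change (fun i => σ.symm ((B⁻¹ • (0 : Fin n → F)) i)) ∈ W
    rw [smul_zero]
    convert W.zero_mem using 1
    ext i
    exact map_zero σ.symm
  add_mem' := by
    intro a b ha hb
    change (fun i => σ.symm ((B⁻¹ • (a + b)) i)) ∈ W
    convert W.add_mem ha hb using 1
    ext i
    rw [smul_add, Pi.add_apply, map_add]
    rfl
  smul_mem' := by
    intro c a ha
    change (fun i => σ.symm ((B⁻¹ • (c • a)) i)) ∈ W
    convert W.smul_mem (σ.symm c) ha using 1
    ext i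
    have h1 : (B⁻¹ • (c • a) : Fin n → F) = c • (B⁻¹ • a) :=
      mulVec_smul ((B⁻¹ : Matrix.SpecialLinearGroup (Fin n) F) : Matrix (Fin n) (Fin n) F) c a
    rw [h1, Pi.smul_apply, smul_eq_mul, map_mul]
    rfl

theorem mem_semi {B : Matrix.SpecialLinearGroup (Fin n) F} {σ : F ≃+* F}
    {W : Submodule F (Fin n → F)} {v : Fin n → F} :
    v ∈ semi B σ W ↔ (fun i => σ.symm ((B⁻¹ • v) i)) ∈ W := Iff.rfl

theorem card_semi (B : Matrix.SpecialLinearGroup (Fin n) F) (σ : F ≃+* F)
    (W : Submodule F (Fin n → F)) : Nat.card (semi B σ W) = Nat.card W := by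
  apply Nat.card_congr
  refine
    { toFun := fun v => ⟨fun i => σ.symm ((B⁻¹ • (v : Fin n → F)) i), v.2⟩
      invFun := fun w => ⟨B • (fun i => σ ((w : Fin n → F) i)), ?_⟩
      left_inv := fun v => ?_
      right_inv := fun w => ?_ }
  · rw [mem_semi, inv_smul_smul]
    simp only [RingEquiv.symm_apply_apply]
    exact w.2
  · apply Subtype.ext
    change B • (fun i => σ (σ.symm ((B⁻¹ • (v : Fin n → F)) i))) = (v : Fin n → F)
    simp only [RingEquiv.apply_symm_apply]
    exact smul_inv_smul B _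
  · apply Subtype.ext
    change (fun i => σ.symm ((B⁻¹ • (B • (fun i => σ ((w : Fin n → F) i)))) i)) = (w : Fin n → F)
    rw [inv_smul_smul]
    simp only [RingEquiv.symm_apply_apply]

/-- `B ∘ σ` transports stabilisers. -/
theorem semi_smul {B g : Matrix.SpecialLinearGroup (Fin n) F} {σ : F ≃+* F}
    {W : Submodule F (Fin n → F)} (hg : g ∈ Stab W) : B * fld σ g * B⁻¹ ∈ Stab (semi B σ W) := by
  intro v
  rw [mem_semi, mem_semi]
  have h1 : B⁻¹ • ((B * fld σ g * B⁻¹) • v) = fld σ g • (B⁻¹ • v) := by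
    rw [mul_smul, mul_smul, inv_smul_smul]
  have h2 : (fun i => σ.symm ((fld σ g • (B⁻¹ • v)) i))
      = g • (fun i => σ.symm ((B⁻¹ • v) i)) := by
    have h3 := fld_smul σ g (fun i => σ.symm ((B⁻¹ • v) i))
    simp only [RingEquiv.apply_symm_apply] at h3
    have h4 : fld σ g • (B⁻¹ • v) = fld σ g • (fun i => (B⁻¹ • v) i) := rfl
    rw [h4, ← h3]
    simp only [RingEquiv.symm_apply_apply]
  rw [h1, h2]
  exact hg _

theorem itr_mem_Stab_perp {g : Matrix.SpecialLinearGroup (Fin n) F}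
    {W : Submodule F (Fin n → F)} (hg : g ∈ Stab W) : itr g ∈ Stab (perp W) := by
  intro φ
  rw [mem_perp, mem_perp]
  constructor
  · intro h w hw
    have h1 := h (g • w) ((hg w).2 hw)
    rwa [itr_dot, inv_smul_smul] at h1
  · intro h w hw
    rw [itr_dot]
    exact h _ (((Stab W).inv_mem hg w).2 hw)

end matrices

variable {Q : Type*} [Group Q] [Finite Q] {p : ℕ} [hp : Fact p.Prime]
variable {n : ℕ} {F : Type*} [Field F] [Fintype F]

omit [Finite Q] [Fintype F] in
/-- Elements of `Q` act as automorphisms of `SL_n(F)`. -/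
theorem exists_act {N : Subgroup Q} (hN : N.Normal) (e : Matrix.SpecialLinearGroup (Fin n) F ≃* N)
    (g : Q) : ∃ α : MulAut (Matrix.SpecialLinearGroup (Fin n) F),
      ∀ x, g * (e x : Q) * g⁻¹ = (e (α x) : Q) := by
  refine ⟨(e.trans (MulAut.conjNormal g)).trans e.symm, fun x => ?_⟩
  change g * (e x : Q) * g⁻¹ = (e (e.symm (MulAut.conjNormal g (e x))) : Q)
  rw [MulEquiv.apply_symm_apply]
  exact (MulAut.conjNormal_apply g (e x)).symm

/-- The data: `Q` with socle `SL_n(F)` and a subgroup of prime index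
`r = (|F|^n - 1) / (|F| - 1)`. -/
structure Ctx (p : ℕ) (Q : Type*) [Group Q] (N : Subgroup Q) (r n : ℕ) (F : Type*) [Field F]
    [Fintype F] : Prop where
  red : Red p Q N r
  two : 2 ≤ n
  odd : n = 2 ∨ Odd n
  cop : Nat.Coprime n (Fintype.card F - 1)
  eq : Fintype.card F ^ n - 1 = r * (Fintype.card F - 1)

variable {N : Subgroup Q} {r : ℕ}

omit [Finite Q] hp in
theorem Ctx.ne_char (C : Ctx p Q N r n F) {ℓ : ℕ} [hℓ : Fact ℓ.Prime] [CharP F ℓ] : r ≠ ℓ := by
  rintro rfl
  obtain ⟨k, -, hk⟩ := FiniteField.card F r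
  have h1 := C.eq
  have h2 : r ∣ Fintype.card F ^ n := by
    rw [hk]
    exact dvd_pow (dvd_pow_self r k.pos.ne') (by have := C.two; omega)
  have h3 : 1 ≤ Fintype.card F ^ n := Nat.one_le_pow _ _ Fintype.card_pos
  have h4 : r ∣ Fintype.card F ^ n - 1 := by rw [h1]; exact dvd_mul_right _ _
  have h5 : r ∣ 1 := by
    have := (Nat.dvd_sub_iff_right h3 h2).1 h4
    exact this
  exact hℓ.out.one_lt.ne' (Nat.dvd_one.1 h5)

omit hp in
/-- The intersection of a maximal subgroup of index `r` with the socle is a stabiliser. -/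
theorem Ctx.exists_W (C : Ctx p Q N r n F) (e : Matrix.SpecialLinearGroup (Fin n) F ≃* N)
    {M : Subgroup Q} (hM : IsCoatom M) (hNM : ¬ N ≤ M) (hi : M.index = r) :
    ∃ W : Submodule F (Fin n → F), W ≠ ⊥ ∧ W ≠ ⊤ ∧ (Stab W).index = r ∧
      ∀ x, x ∈ Stab W ↔ (e x : Q) ∈ M := by
  obtain ⟨ℓ, hℓ⟩ := CharP.exists F
  have hℓp : Fact ℓ.Prime := ⟨CharP.char_is_prime F ℓ⟩
  have hN := C.red.normal
  have hsup : N ⊔ M = ⊤ := by
    rw [sup_comm]
    exact hM.2 _ (left_lt_sup.2 hNM)
  have h1 : M.index = M.relIndex N := index_eq_relIndex hsup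
  have h2 : ((M.subgroupOf N).comap e.toMonoidHom).index = r := by
    rw [Subgroup.index_comap_of_surjective _ e.surjective, ← hi, h1]
    rfl
  obtain ⟨W, hW1, hW2, hW3⟩ := eq_stab ℓ C.two C.red.prime C.ne_char h2
  refine ⟨W, hW1, hW2, by rw [← hW3, h2], fun x => ?_⟩
  rw [← hW3]
  rfl

/-- Elements of `Q` act on the socle as semilinear maps. -/
theorem Ctx.exists_fld (C : Ctx p Q N r n F) (e : Matrix.SpecialLinearGroup (Fin n) F ≃* N)
    (g : Q) : ∃ (B : Matrix.SpecialLinearGroup (Fin n) F) (σ : F ≃+* F),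
      ∀ x, g * (e x : Q) * g⁻¹ = (e (B * fld σ x * B⁻¹) : Q) := by
  have hN := C.red.normal
  obtain ⟨α, hα⟩ := exists_act hN e g
  rcases exists_aut C.two C.cop α with ⟨B, σ, h⟩ | ⟨h3, B, σ, h⟩
  · refine ⟨B, σ, fun x => ?_⟩
    rw [hα, h]
    rfl
  exfalso
  obtain ⟨M, hM, hNM, hi⟩ := C.red.ex
  obtain ⟨W, hW1, hW2, hW3, hW4⟩ := C.exists_W e hM hNM hi
  have hsup : N ⊔ M = ⊤ := by
    rw [sup_comm]
    exact hM.2 _ (left_lt_sup.2 hNM)
  -- `g = e b * m`
  have hg : g ∈ N ⊔ M := hsup ▸ Subgroup.mem_top g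
  obtain ⟨c, hc, m, hm, rfl⟩ := Subgroup.mem_sup_of_normal_left.1 hg
  obtain ⟨b, hb⟩ := e.surjective ⟨c, hc⟩
  have hb' : (e b : Q) = c := congrArg Subtype.val hb
  have hm1 : ∀ x, m * (e x : Q) * m⁻¹ = (e ((b⁻¹ * B) * fld σ (itr x) * (b⁻¹ * B)⁻¹) : Q) := by
    intro x
    have h5 := hα x
    rw [h] at h5
    have h6 : (e ((MulAut.conj B * fld σ * itr :
        MulAut (Matrix.SpecialLinearGroup (Fin n) F)) x) : Q)
        = (e (B * fld σ (itr x) * B⁻¹) : Q) := rfl
    rw [h6] at h5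
    have h7 : m * (e x : Q) * m⁻¹ = c⁻¹ * (c * m * (e x : Q) * (c * m)⁻¹) * c := by group
    rw [h7, h5, ← hb', ← Subgroup.coe_inv, ← map_inv, ← Subgroup.coe_mul, ← Subgroup.coe_mul,
      ← map_mul, ← map_mul]
    congr 2
    group
  -- hence the stabiliser of `W` stabilises `(b⁻¹ B) σ (perp W)`
  have hle : Stab W ≤ Stab (semi (b⁻¹ * B) σ (perp W)) := by
    intro x hx
    -- the preimage of `x`
    obtain ⟨y, hy⟩ : ∃ y, (b⁻¹ * B) * fld σ (itr y) * (b⁻¹ * B)⁻¹ = x := by
      obtain ⟨y, hy⟩ := (MulAut.conj (b⁻¹ * B) * fld σ * itr :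
        MulAut (Matrix.SpecialLinearGroup (Fin n) F)).surjective x
      exact ⟨y, hy⟩
    have hyW : y ∈ Stab W := by
      rw [hW4]
      have h8 := hm1 y
      rw [hy] at h8
      have h9 : (e x : Q) ∈ M := (hW4 x).1 hx
      have h10 : (e y : Q) = m⁻¹ * (e x : Q) * m := by
        rw [← h8]
        group
      rw [h10]
      exact M.mul_mem (M.mul_mem (M.inv_mem hm) h9) hm
    rw [← hy]
    exact semi_smul (itr_mem_Stab_perp hyW)
  have hq : 1 < Nat.card F := by
    rw [Nat.card_eq_fintype_card]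
    exact Fintype.one_lt_card
  have hcard : ∀ U : Submodule F (Fin n → F), Nat.card U = Nat.card F ^ Module.finrank F U := by
    intro U
    exact Module.natCard_eq_pow_finrank
  have hf := finrank_perp W
  have hW0 : Module.finrank F W ≠ 0 := by
    rw [Ne, Submodule.finrank_eq_zero]
    exact hW1
  have hWn : Module.finrank F W ≠ n := by
    intro h8
    apply hW2
    apply Submodule.eq_top_of_finrank_eq
    rw [h8, Module.finrank_fintype_fun_eq_card, Fintype.card_fin]
  have hs := card_semi (b⁻¹ * B) σ (perp W)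
  rw [hcard, hcard] at hs
  have hs' := Nat.pow_right_injective hq hs
  have hU1 : semi (b⁻¹ * B) σ (perp W) ≠ ⊥ := by
    intro h8
    rw [h8, finrank_bot] at hs'
    omega
  have hU2 : semi (b⁻¹ * B) σ (perp W) ≠ ⊤ := by
    intro h8
    rw [h8, finrank_top, Module.finrank_fintype_fun_eq_card, Fintype.card_fin] at hs'
    omega
  have hUW := Stab_inj hU1 hU2 hW1 hle
  rw [hUW] at hs'
  rcases C.odd with h8 | ⟨k, h8⟩
  · omega
  · omega

/-- Field-invariant subgroups of `SL_n(F)`. -/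
theorem Ctx.sub (C : Ctx p Q N r n F) (e : Matrix.SpecialLinearGroup (Fin n) F ≃* N)
    (Y : Subgroup (Matrix.SpecialLinearGroup (Fin n) F))
    (hY : ∀ (σ : F ≃+* F), ∀ y ∈ Y, fld σ y ∈ Y) (hY1 : Y ≠ ⊥) (hY2 : Y ≠ ⊤) :
    HasNormalPComplement p Y ∨ ∃ W : Submodule F (Fin n → F), W ≠ ⊥ ∧ W ≠ ⊤ ∧ Y ≤ Stab W ∧
      (Stab W).index = r := by
  have hN := C.red.normal
  let f : Matrix.SpecialLinearGroup (Fin n) F →* Q := N.subtype.comp e.toMonoidHom
  have hf : Function.Injective f := N.subtype_injective.comp e.injective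
  have hfe : ∀ x, f x = (e x : Q) := fun x => rfl
  have hX : N ⊔ normalizer ((Y.map f : Subgroup Q) : Set Q) = ⊤ := by
    rw [eq_top_iff]
    intro g _
    obtain ⟨B, σ, hB⟩ := C.exists_fld e g
    have h1 : (e B : Q)⁻¹ * g ∈ normalizer ((Y.map f : Subgroup Q) : Set Q) := by
      have h2 : ∀ x, ((e B : Q)⁻¹ * g) * f x * ((e B : Q)⁻¹ * g)⁻¹ = f (fld σ x) := by
        intro x
        have h3 : ((e B : Q)⁻¹ * g) * f x * ((e B : Q)⁻¹ * g)⁻¹
            = (e B : Q)⁻¹ * (g * (e x : Q) * g⁻¹) * (e B : Q) := by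
          rw [hfe]
          group
        rw [h3, hB, ← Subgroup.coe_inv, ← map_inv, ← Subgroup.coe_mul, ← Subgroup.coe_mul,
          ← map_mul, ← map_mul, hfe]
        congr 2
        group
      rw [Subgroup.mem_normalizer_iff_map_conj_eq]
      apply Subgroup.eq_of_le_of_card_ge
      · rintro _ ⟨_, ⟨y, hy, rfl⟩, rfl⟩
        exact ⟨fld σ y, hY σ y hy, (h2 y).symm⟩
      · apply le_of_eq
        exact Nat.card_congr ((Y.map f).equivMapOfInjective _
          (MulAut.conj ((e B : Q)⁻¹ * g)).injective).toEquiv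
    have h2 : g = (e B : Q) * ((e B : Q)⁻¹ * g) := by group
    rw [h2]
    exact Subgroup.mul_mem_sup (e B).2 h1
  have hX1 : Y.map f ≠ ⊥ := by
    intro h
    exact hY1 ((Subgroup.map_eq_bot_iff_of_injective Y hf).1 h)
  have hX2 : ¬ N ≤ Y.map f := by
    intro h
    apply hY2
    rw [eq_top_iff]
    intro x _
    obtain ⟨y, hy, hyx⟩ := h (e x).2
    have : y = x := hf hyx
    rw [← this]
    exact hy
  have hX3 : Y.map f ≤ N := by
    rintro _ ⟨y, _, rfl⟩
    exact (e y).2
  rcases C.red.sub hX hX1 hX2 hX3 with h | ⟨M, hM, hNM, hi, -, hXM⟩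
  · left
    exact (hnc_congr (Y.equivMapOfInjective f hf)).1 h
  · right
    obtain ⟨W, hW1, hW2, hW3, hW4⟩ := C.exists_W e hM hNM hi
    refine ⟨W, hW1, hW2, fun y hy => ?_, hW3⟩
    rw [hW4]
    exact hXM ⟨y, hy, rfl⟩

/-- The index of the socle. -/
theorem Ctx.index_dvd (C : Ctx p Q N r n F) (e : Matrix.SpecialLinearGroup (Fin n) F ≃* N) :
    N.index ∣ Nat.card (F ≃+* F) := by
  have hN := C.red.normal
  let A := MulAut (Matrix.SpecialLinearGroup (Fin n) F)
  let I : Subgroup A := (MulAut.conj : Matrix.SpecialLinearGroup (Fin n) F →* A).range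
  have hI : I.Normal := by
    constructor
    rintro _ ⟨x, rfl⟩ α
    refine ⟨α x, ?_⟩
    apply MulEquiv.ext
    intro y
    change α x * y * (α x)⁻¹ = α (x * (α⁻¹ y) * x⁻¹)
    rw [map_mul, map_mul, map_inv]
    congr 2
    exact (α.apply_symm_apply y).symm
  let act : Q →* A :=
    { toFun := fun g => (e.trans (MulAut.conjNormal g)).trans e.symm
      map_one' := by
        apply MulEquiv.ext
        intro x
        change e.symm (MulAut.conjNormal (1 : Q) (e x)) = x
        rw [map_one, MulAut.one_apply, MulEquiv.symm_apply_apply]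
      map_mul' := fun g h => by
        apply MulEquiv.ext
        intro x
        change e.symm (MulAut.conjNormal (g * h) (e x)) =
          e.symm (MulAut.conjNormal g (e (e.symm (MulAut.conjNormal h (e x)))))
        rw [MulEquiv.apply_symm_apply, map_mul, MulAut.mul_apply] }
  have hact : ∀ g x, g * (e x : Q) * g⁻¹ = (e (act g x) : Q) := by
    intro g x
    change g * (e x : Q) * g⁻¹ = (e (e.symm (MulAut.conjNormal g (e x))) : Q)
    rw [MulEquiv.apply_symm_apply]
    exact (MulAut.conjNormal_apply g (e x)).symm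
  let φ : Q →* A ⧸ I := (QuotientGroup.mk' I).comp act
  have hker : φ.ker = N := by
    ext g
    rw [MonoidHom.mem_ker]
    change (act g : A ⧸ I) = 1 ↔ _
    rw [QuotientGroup.eq_one_iff]
    constructor
    · rintro ⟨b, hb⟩
      -- `g` acts as `e b`
      have h1 : (e b : Q)⁻¹ * g ∈ centralizer (N : Set Q) := by
        rw [Subgroup.mem_centralizer_iff]
        intro y hy
        obtain ⟨x, hx⟩ := e.surjective ⟨y, hy⟩
        have hxy : (e x : Q) = y := congrArg Subtype.val hx
        have h2 := hact g x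
        rw [← hb] at h2
        have h3 : (e (MulAut.conj b x) : Q) = (e b : Q) * (e x : Q) * (e b : Q)⁻¹ := by
          rw [MulAut.conj_apply, map_mul, map_mul, map_inv, Subgroup.coe_mul, Subgroup.coe_mul,
            Subgroup.coe_inv]
        rw [h3] at h2
        rw [← hxy]
        have h4 : (e x : Q) = (e b : Q)⁻¹ * g * (e x : Q) * (g⁻¹ * (e b : Q)) := by
          calc (e x : Q) = (e b : Q)⁻¹ * ((e b : Q) * (e x : Q) * (e b : Q)⁻¹) * (e b : Q) := by
                group
            _ = _ := by rw [← h2]; group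
        calc (e x : Q) * ((e b : Q)⁻¹ * g)
            = (e b : Q)⁻¹ * g * (e x : Q) * (g⁻¹ * (e b : Q)) * ((e b : Q)⁻¹ * g) := by
              rw [← h4]
          _ = (e b : Q)⁻¹ * g * (e x : Q) := by group
      rw [C.red.cent, Subgroup.mem_bot] at h1
      have h5 : g = (e b : Q) := (inv_mul_eq_one.1 h1).symm
      rw [h5]
      exact (e b).2
    · intro hg
      obtain ⟨b, hb⟩ := e.surjective ⟨g, hg⟩
      have hb' : (e b : Q) = g := congrArg Subtype.val hb
      refine ⟨b, ?_⟩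
      apply MulEquiv.ext
      intro x
      apply e.injective
      apply Subtype.ext
      rw [← hact, MulAut.conj_apply, map_mul, map_mul, map_inv, Subgroup.coe_mul,
        Subgroup.coe_mul, Subgroup.coe_inv, hb']
  let ψ : (F ≃+* F) →* A ⧸ I := (QuotientGroup.mk' I).comp fld
  have hrange : φ.range ≤ ψ.range := by
    rintro _ ⟨g, rfl⟩
    obtain ⟨B, σ, hB⟩ := C.exists_fld e g
    refine ⟨σ, ?_⟩
    change ((fld σ : A) : A ⧸ I) = ((act g : A) : A ⧸ I)
    symm
    have h1 : act g = MulAut.conj B * fld σ := by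
      apply MulEquiv.ext
      intro x
      apply e.injective
      apply Subtype.ext
      rw [← hact, hB]
      rfl
    rw [h1, QuotientGroup.mk_mul]
    have h2 : ((MulAut.conj B : A) : A ⧸ I) = 1 := by
      rw [QuotientGroup.eq_one_iff]
      exact ⟨B, rfl⟩
    rw [h2, one_mul]
  have h1 : N.index = Nat.card φ.range := by
    rw [← hker]
    exact Subgroup.index_ker φ
  rw [h1]
  exact (Subgroup.card_dvd_of_le hrange).trans (Subgroup.card_range_dvd ψ)

end Cfsg.Agent.H579.SLRed
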