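/-
The monomial subgroup of `SL_n(F)`.
-/
import Cfsg.Agent.H579.SLRed

set_option autoImplicit false

namespace Cfsg.Agent.H579.SLRed

open Cfsg Subgroup Cfsg.Agent.Transfer.PNilpotentBasic Matrix
open Cfsg.Agent.H579.MaxPNilRed Cfsg.Agent.H579.SLStab Cfsg.Agent.H579.SLAut
open Cfsg.Agent.ClassicalGeometry.AutPSL.Root
open Cfsg.Agent.ClassicalGeometry.AutPSL.Auto

/-- Irreducibility. -/
def Irr {n : ℕ} {F : Type*} [Field F] (Y : Subgroup (Matrix.SpecialLinearGroup (Fin n) F)) :
    Prop := ∀ U : Submodule F (Fin n → F), Invt Y U → U = ⊥ ∨ U = ⊤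

section ctx

variable {Q : Type*} [Group Q] [Finite Q] {p : ℕ} [hp : Fact p.Prime]
variable {n : ℕ} {F : Type*} [Field F] [Fintype F] {N : Subgroup Q} {r : ℕ}

theorem Ctx.irr_hnc (C : Ctx p Q N r n F) (e : Matrix.SpecialLinearGroup (Fin n) F ≃* N)
    (Y : Subgroup (Matrix.SpecialLinearGroup (Fin n) F))
    (hY : ∀ (σ : F ≃+* F), ∀ y ∈ Y, fld σ y ∈ Y) (hirr : Irr Y) (hY2 : Y ≠ ⊤) :
    HasNormalPComplement p Y := by
  by_cases hY1 : Y = ⊥
  · apply hnc_of_coprime
    rw [hY1, Subgroup.card_bot]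
    exact Nat.coprime_one_left p
  rcases C.sub e Y hY hY1 hY2 with h | ⟨W, hW1, hW2, hW3, -⟩
  · exact h
  · rcases hirr W (invt_of_le hW3) with h | h
    · exact absurd h hW1
    · exact absurd h hW2

end ctx

section mono

variable {n : ℕ} {F : Type*} [Field F]

/-- Unit vectors. -/
abbrev ev (i : Fin n) : Fin n → F := Pi.single i 1

theorem ev_ne_zero (i : Fin n) : (ev i : Fin n → F) ≠ 0 := by
  intro h
  have h1 := congrFun h i
  rw [show (ev i : Fin n → F) i = 1 from Pi.single_eq_same _ _] at h1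
  exact one_ne_zero h1

theorem eq_top_of_ev {U : Submodule F (Fin n → F)} (h : ∀ i, ev i ∈ U) : U = ⊤ := by
  rw [eq_top_iff]
  intro v _
  rw [← Finset.univ_sum_single v]
  apply U.sum_mem
  intro i _
  have h1 : (Pi.single i (v i) : Fin n → F) = v i • ev i := by
    rw [← Pi.single_smul, smul_eq_mul, mul_one]
  rw [h1]
  exact U.smul_mem _ (h i)

/-- Monomial elements, as a submonoid. -/
def monoM (n : ℕ) (F : Type*) [Field F] : Submonoid (Matrix.SpecialLinearGroup (Fin n) F) where
  carrier := {g | ∀ j : Fin n, ∃ (i : Fin n) (c : F), g • (ev j : Fin n → F) = c • ev i}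
  one_mem' := fun j => ⟨j, 1, by rw [one_smul, one_smul]⟩
  mul_mem' := fun {g h} hg hh j => by
    obtain ⟨i, c, hc⟩ := hh j
    obtain ⟨k, d, hd⟩ := hg i
    refine ⟨k, c * d, ?_⟩
    have h1 : g • (c • (ev i : Fin n → F)) = c • (g • (ev i : Fin n → F)) :=
      mulVec_smul (g : Matrix (Fin n) (Fin n) F) c _
    rw [mul_smul, hc, h1, hd, smul_smul]

/-- The monomial group. -/
def mono (n : ℕ) (F : Type*) [Field F] [Finite F] :
    Subgroup (Matrix.SpecialLinearGroup (Fin n) F) :=
  { monoM n F with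
    inv_mem' := by
      intro g hg
      have h1 : g⁻¹ = g ^ (orderOf g - 1) := by
        rw [inv_eq_iff_mul_eq_one, ← pow_succ', Nat.sub_add_cancel (orderOf_pos g),
          pow_orderOf_eq_one]
      change g⁻¹ ∈ monoM n F
      rw [h1]
      exact Submonoid.pow_mem _ hg _ }

theorem mem_mono [Finite F] {g : Matrix.SpecialLinearGroup (Fin n) F} :
    g ∈ mono n F ↔ ∀ j : Fin n, ∃ (i : Fin n) (c : F), g • (ev j : Fin n → F) = c • ev i := Iff.rfl

theorem mono_fld [Finite F] (σ : F ≃+* F) (g : Matrix.SpecialLinearGroup (Fin n) F)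
    (hg : g ∈ mono n F) : fld σ g ∈ mono n F := by
  rw [mem_mono] at hg ⊢
  intro j
  obtain ⟨i, c, hc⟩ := hg j
  refine ⟨i, σ c, ?_⟩
  have h1 := fld_smul σ g (ev j : Fin n → F)
  have h2 : ∀ k : Fin n, (fun i => σ ((ev k : Fin n → F) i)) = (ev k : Fin n → F) := by
    intro k
    ext l
    by_cases hkl : l = k
    · subst hkl
      rw [show (ev l : Fin n → F) l = 1 from Pi.single_eq_same _ _, map_one]
    · rw [show (ev k : Fin n → F) l = 0 from Pi.single_eq_of_ne hkl _, map_zero]
  rw [h2] at h1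
  rw [← h1, hc]
  ext l
  rw [Pi.smul_apply, smul_eq_mul, map_mul, Pi.smul_apply, smul_eq_mul]
  congr 1
  exact congrFun (h2 i) l

/-- The diagonal element `diag(a, a⁻¹)` at `i`, `j`. -/
theorem diag_smul {i j : Fin n} (hij : i ≠ j) (a : F) (ha : a ≠ 0) (v : Fin n → F) :
    (Matrix.SpecialLinearGroup.diag2n hij a ha) • v = v + ((a - 1) * v i) • ev i +
      ((a⁻¹ - 1) * v j) • ev j :=
  Cfsg.Agent.LieClassical.SLGen.diag2n_smul hij a ha v

/-- The Weyl element. -/
def wl {i j : Fin n} (hij : i ≠ j) : Matrix.SpecialLinearGroup (Fin n) F :=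
  Matrix.SpecialLinearGroup.transvection hij 1 *
    Matrix.SpecialLinearGroup.transvection hij.symm (-1) *
    Matrix.SpecialLinearGroup.transvection hij 1

theorem wl_smul {i j : Fin n} (hij : i ≠ j) (v : Fin n → F) :
    (wl hij : Matrix.SpecialLinearGroup (Fin n) F) • v =
      v + (v j - v i) • ev i + (-v i - v j) • ev j := by
  rw [wl, mul_smul, mul_smul, Cfsg.Agent.LieClassical.SLGen.transvection_smul,
    Cfsg.Agent.LieClassical.SLGen.transvection_smul,
    Cfsg.Agent.LieClassical.SLGen.transvection_smul]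
  ext k
  by_cases hk : k = i
  · subst hk
    simp [hij]
  · by_cases hk' : k = j
    · subst hk'
      simp [hk]
    · simp [hk, hk']

theorem diag_mem [Finite F] {i j : Fin n} (hij : i ≠ j) (a : F) (ha : a ≠ 0) :
    Matrix.SpecialLinearGroup.diag2n hij a ha ∈ mono n F := by
  rw [mem_mono]
  intro k
  by_cases hk : k = i
  · subst hk
    refine ⟨k, a, ?_⟩
    rw [diag_smul]
    ext l
    simp only [Pi.add_apply, Pi.smul_apply, smul_eq_mul, Pi.single_eq_same,
      Pi.single_eq_of_ne hij.symm, mul_zero, zero_mul, add_zero]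
    ring
  · by_cases hk' : k = j
    · subst hk'
      refine ⟨k, a⁻¹, ?_⟩
      rw [diag_smul]
      ext l
      simp only [Pi.add_apply, Pi.smul_apply, smul_eq_mul, Pi.single_eq_same,
        Pi.single_eq_of_ne hij, mul_zero, zero_mul, add_zero]
      ring
    · refine ⟨k, 1, ?_⟩
      rw [diag_smul]
      ext l
      simp only [Pi.add_apply, Pi.smul_apply, smul_eq_mul,
        Pi.single_eq_of_ne (Ne.symm hk), Pi.single_eq_of_ne (Ne.symm hk'), mul_zero, zero_mul,
        add_zero, one_mul]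

theorem wl_mem [Finite F] {i j : Fin n} (hij : i ≠ j) :
    (wl hij : Matrix.SpecialLinearGroup (Fin n) F) ∈ mono n F := by
  rw [mem_mono]
  intro k
  by_cases hk : k = i
  · subst hk
    refine ⟨j, -1, ?_⟩
    rw [wl_smul]
    ext l
    simp only [Pi.add_apply, Pi.smul_apply, smul_eq_mul, Pi.single_eq_same,
      Pi.single_eq_of_ne hij.symm]
    ring
  · by_cases hk' : k = j
    · subst hk'
      refine ⟨i, 1, ?_⟩
      rw [wl_smul]
      ext l
      simp only [Pi.add_apply, Pi.smul_apply, smul_eq_mul, Pi.single_eq_same,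
        Pi.single_eq_of_ne hij]
      ring
    · refine ⟨k, 1, ?_⟩
      rw [wl_smul]
      ext l
      simp only [Pi.add_apply, Pi.smul_apply, smul_eq_mul,
        Pi.single_eq_of_ne (Ne.symm hk), Pi.single_eq_of_ne (Ne.symm hk')]
      ring

theorem wl_diag {i j : Fin n} (hij : i ≠ j) (a : F) (ha : a ≠ 0) :
    (wl hij : Matrix.SpecialLinearGroup (Fin n) F) * Matrix.SpecialLinearGroup.diag2n hij a ha
      = Matrix.SpecialLinearGroup.diag2n hij a⁻¹ (inv_ne_zero ha) * wl hij := by
  apply Cfsg.Agent.LieClassical.SLGen.smul_ext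
  intro v
  rw [mul_smul, mul_smul, diag_smul, wl_smul, wl_smul, diag_smul]
  ext k
  by_cases hk : k = i
  · subst hk
    simp [hij]
  · by_cases hk' : k = j
    · subst hk'
      simp [hk, hij]
      ring
    · simp [hk, hk']

theorem diag_pow {i j : Fin n} (hij : i ≠ j) (a : F) (ha : a ≠ 0) (k : ℕ) :
    (Matrix.SpecialLinearGroup.diag2n hij a ha) ^ k
      = Matrix.SpecialLinearGroup.diag2n hij (a ^ k) (pow_ne_zero k ha) := by
  induction k with
  | zero =>
    apply Cfsg.Agent.LieClassical.SLGen.smul_ext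
    intro v
    rw [diag_smul]
    simp
  | succ k ih =>
    rw [pow_succ, ih]
    apply Cfsg.Agent.LieClassical.SLGen.smul_ext
    intro v
    rw [mul_smul, diag_smul, diag_smul, diag_smul]
    ext l
    by_cases hl : l = i
    · subst hl
      simp [hij]
      ring
    · by_cases hl' : l = j
      · subst hl'
        simp [hl, hij]
        ring
      · simp [hl, hl']

theorem diag_one {i j : Fin n} (hij : i ≠ j) :
    (Matrix.SpecialLinearGroup.diag2n hij (1 : F) one_ne_zero) = 1 := by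
  apply Cfsg.Agent.LieClassical.SLGen.smul_ext
  intro v
  rw [diag_smul]
  simp

theorem diag_inv {i j : Fin n} (hij : i ≠ j) (a : F) (ha : a ≠ 0) :
    (Matrix.SpecialLinearGroup.diag2n hij a ha)⁻¹
      = Matrix.SpecialLinearGroup.diag2n hij a⁻¹ (inv_ne_zero ha) := by
  rw [inv_eq_iff_mul_eq_one]
  apply Cfsg.Agent.LieClassical.SLGen.smul_ext
  intro v
  rw [mul_smul, diag_smul, diag_smul, one_smul]
  ext l
  by_cases hl : l = i
  · subst hl
    simp [hij]
    field_simp
    ring
  · by_cases hl' : l = j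
    · subst hl'
      simp [hl]
      field_simp
      ring
    · simp [hl, hl']

theorem mono_irr [Finite F] (hn : 2 ≤ n) {a : F} (ha : a ≠ 0) (ha2 : a ^ 2 ≠ 1) :
    Irr (mono n F) := by
  intro U hU
  by_cases hU1 : U = ⊥
  · exact Or.inl hU1
  right
  obtain ⟨v, hv, hv0⟩ := Submodule.exists_mem_ne_zero_of_ne_bot hU1
  obtain ⟨i, hi⟩ := Function.ne_iff.1 hv0
  have hi' : v i ≠ 0 := hi
  have hnt : Nontrivial (Fin n) := Fin.nontrivial_iff_two_le.2 hn
  obtain ⟨j, hj⟩ := exists_ne i
  have ha1 : a ≠ 1 := by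
    rintro rfl
    exact ha2 (one_pow 2)
  -- `w = α e_i + β e_j`
  have h1 : ((a - 1) * v i) • (ev i : Fin n → F) + ((a⁻¹ - 1) * v j) • (ev j : Fin n → F) ∈ U := by
    have h2 := hU _ (diag_mem hj.symm a ha) v hv
    rw [diag_smul, add_assoc, U.add_mem_iff_right hv] at h2
    exact h2
  have h2 := hU _ (diag_mem hj.symm a ha) _ h1
  have h3 : ((a - 1) * v i * (a - a⁻¹)) • (ev i : Fin n → F) ∈ U := by
    have h4 := U.sub_mem h2 (U.smul_mem a⁻¹ h1)
    convert h4 using 1
    rw [diag_smul]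
    ext l
    by_cases hl : l = i
    · subst hl
      simp [hj.symm, hj]
      ring
    · by_cases hl' : l = j
      · subst hl'
        simp [hj]
        ring
      · simp [hl, hl']
  have h4 : (ev i : Fin n → F) ∈ U := by
    rw [U.smul_mem_iff] at h3
    · exact h3
    · apply mul_ne_zero (mul_ne_zero (sub_ne_zero.2 ha1) hi')
      intro h5
      apply ha2
      have h6 : a = a⁻¹ := sub_eq_zero.1 h5
      rw [pow_two]
      nth_rewrite 2 [h6]
      exact mul_inv_cancel₀ ha
  apply eq_top_of_ev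
  intro k
  by_cases hk : k = i
  · rw [hk]; exact h4
  · have h5 := hU _ (wl_mem (Ne.symm hk)) _ h4
    rw [wl_smul] at h5
    have h6 : (ev i : Fin n → F) + ((ev i : Fin n → F) k - (ev i : Fin n → F) i) • ev i +
        (-(ev i : Fin n → F) i - (ev i : Fin n → F) k) • ev k = -(ev k : Fin n → F) := by
      ext l
      simp only [Pi.add_apply, Pi.smul_apply, smul_eq_mul, Pi.single_eq_same,
        Pi.single_eq_of_ne hk, Pi.neg_apply]
      ring
    rw [h6] at h5
    exact U.neg_mem_iff.1 h5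

theorem mono_ne_top [Finite F] (hn : 2 ≤ n) : mono n F ≠ ⊤ := by
  intro h
  have hnt : Nontrivial (Fin n) := Fin.nontrivial_iff_two_le.2 hn
  obtain ⟨i, j, hij⟩ := exists_pair_ne (Fin n)
  have h1 : (Matrix.SpecialLinearGroup.transvection hij (1 : F)) ∈ mono n F :=
    h ▸ Subgroup.mem_top _
  obtain ⟨k, c, hk⟩ := h1 j
  rw [Cfsg.Agent.LieClassical.SLGen.transvection_smul] at hk
  have h2 := congrFun hk i
  have h3 := congrFun hk j
  simp only [Pi.add_apply, Pi.smul_apply, smul_eq_mul, Pi.single_eq_same,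
    Pi.single_eq_of_ne hij, Pi.single_eq_of_ne hij.symm, mul_one, mul_zero, zero_add,
    add_zero] at h2 h3
  by_cases hki : k = i
  · subst hki
    have h4 : (ev k : Fin n → F) j = 0 := Pi.single_eq_of_ne hij.symm _
    rw [h4, mul_zero] at h3
    exact one_ne_zero h3
  · have h4 : (ev k : Fin n → F) i = 0 := Pi.single_eq_of_ne (Ne.symm hki) _
    rw [h4, mul_zero] at h2
    exact one_ne_zero h2

variable {p : ℕ} [hp : Fact p.Prime]

theorem mono_not_hnc (hp2 : p ≠ 2) [Finite F] (hn : 2 ≤ n) {a : F} (ha1 : a ≠ 1) (hap : a ^ p = 1) :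
    ¬ HasNormalPComplement p (mono n F) := by
  have hnt : Nontrivial (Fin n) := Fin.nontrivial_iff_two_le.2 hn
  obtain ⟨i, j, hij⟩ := exists_pair_ne (Fin n)
  have ha : a ≠ 0 := by
    rintro rfl
    rw [zero_pow hp.out.ne_zero] at hap
    exact zero_ne_one hap
  refine not_hnc_of_inverts hp2 (x := (⟨_, diag_mem hij a ha⟩ : mono n F))
    (y := ⟨_, wl_mem hij⟩) ?_ ?_ ?_
  · intro h
    have h1 := congrArg Subtype.val h
    apply ha1
    have h2 := congrArg (fun g : Matrix.SpecialLinearGroup (Fin n) F => (g • (ev i : Fin n → F)) i) h1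
    change ((Matrix.SpecialLinearGroup.diag2n hij a ha) • (ev i : Fin n → F)) i
      = ((1 : Matrix.SpecialLinearGroup (Fin n) F) • (ev i : Fin n → F)) i at h2
    rw [diag_smul, one_smul] at h2
    simp only [Pi.add_apply, Pi.smul_apply, smul_eq_mul, Pi.single_eq_same,
      Pi.single_eq_of_ne hij, mul_one, mul_zero, add_zero, add_sub_cancel] at h2
    exact h2
  · apply Subtype.ext
    change (Matrix.SpecialLinearGroup.diag2n hij a ha) ^ p = 1
    rw [diag_pow]
    have h1 : ∀ (b : F) (hb : b ≠ 0), b = 1 →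
        (Matrix.SpecialLinearGroup.diag2n hij b hb) = 1 := by
      rintro b hb rfl
      exact diag_one hij
    exact h1 _ _ hap
  · apply Subtype.ext
    change wl hij * Matrix.SpecialLinearGroup.diag2n hij a ha * (wl hij)⁻¹
      = (Matrix.SpecialLinearGroup.diag2n hij a ha)⁻¹
    rw [wl_diag, mul_inv_cancel_right, diag_inv]

end mono

section ctx2

variable {Q : Type*} [Group Q] [Finite Q] {p : ℕ} [hp : Fact p.Prime]
variable {n : ℕ} {F : Type*} [Field F] [Fintype F] {N : Subgroup Q} {r : ℕ}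

/-- `p` does not divide `|F| - 1`. -/
theorem Ctx.not_dvd (C : Ctx p Q N r n F) (e : Matrix.SpecialLinearGroup (Fin n) F ≃* N)
    (hp2 : p ≠ 2) : ¬ p ∣ Fintype.card F - 1 := by
  classical
  intro h
  obtain ⟨u, hu⟩ := exists_prime_orderOf_dvd_card' (G := Fˣ) p (by
    rw [Nat.card_eq_fintype_card, Fintype.card_units]
    exact h)
  have hu1 : (u : F) ≠ 1 := by
    intro h1
    have h2 : u = 1 := Units.ext h1
    rw [h2, orderOf_one] at hu
    exact hp.out.one_lt.ne hu
  have hup : (u : F) ^ p = 1 := by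
    rw [← Units.val_pow_eq_pow_val, ← hu, pow_orderOf_eq_one, Units.val_one]
  have hu2 : (u : F) ^ 2 ≠ 1 := by
    intro h1
    have h2 : u ^ 2 = 1 := by
      apply Units.ext
      rw [Units.val_pow_eq_pow_val, h1, Units.val_one]
    have h3 : orderOf u ∣ 2 := orderOf_dvd_of_pow_eq_one h2
    rw [hu, Nat.prime_dvd_prime_iff_eq hp.out Nat.prime_two] at h3
    exact hp2 h3
  exact mono_not_hnc hp2 C.two hu1 hup
    (C.irr_hnc e (mono n F) (fun σ y hy => mono_fld σ y hy) (mono_irr C.two u.ne_zero hu2)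
      (mono_ne_top C.two))

end ctx2

end Cfsg.Agent.H579.SLRed
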