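/-
The group generated by the negatives of the reflections of an orthogonal space of odd dimension.
-/
import Cfsg.Agent.H579.SLMono

set_option autoImplicit false

namespace Cfsg.Agent.H579.SLRed

open Cfsg Subgroup Cfsg.Agent.Transfer.PNilpotentBasic Matrix
open Cfsg.Agent.H579.MaxPNilRed Cfsg.Agent.H579.SLStab Cfsg.Agent.H579.SLAut
open Cfsg.Agent.ClassicalGeometry.AutPSL.Root
open Cfsg.Agent.ClassicalGeometry.AutPSL.Auto

/-- A subgroup generated by involutions, of order divisible by the odd prime `p`, has no normal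
`p`-complement. -/
theorem not_hnc_of_closure {p : ℕ} [hp : Fact p.Prime] (hp2 : p ≠ 2) {G : Type*} [Group G]
    [Finite G] (S : Set G) (hS : ∀ s ∈ S, s ^ 2 = 1) (hpG : p ∣ Nat.card (closure S)) :
    ¬ HasNormalPComplement p (closure S) := by
  intro hG
  obtain ⟨K, hK, h1, k, h2⟩ :=
    Cfsg.Agent.OddOrderLocal.NilpotentQuotient.exists_of_hasNormalPComplement hG
  have h3 : ∀ x : closure S, x ^ 2 = 1 → x ∈ K := by
    intro x hx
    have h4 : (x : closure S ⧸ K) ^ 2 = 1 := by
      rw [← QuotientGroup.mk_pow, hx, QuotientGroup.mk_one]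
    have h5 : (x : closure S ⧸ K) ^ (p ^ k) = 1 := by
      have h6 : Nat.card (closure S ⧸ K) = p ^ k := by
        rw [← Subgroup.index_eq_card]
        exact h2
      rw [← h6]
      exact pow_card_eq_one'
    have h6 : Nat.Coprime 2 (p ^ k) :=
      Nat.Coprime.pow_right k ((Nat.coprime_primes Nat.prime_two hp.out).2 (Ne.symm hp2))
    rw [← QuotientGroup.eq_one_iff, ← orderOf_eq_one_iff]
    exact Nat.eq_one_of_dvd_coprimes h6 (orderOf_dvd_of_pow_eq_one h4)
      (orderOf_dvd_of_pow_eq_one h5)
  have h4 : closure S ≤ K.map (closure S).subtype := by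
    rw [closure_le]
    intro s hs
    refine ⟨⟨s, Subgroup.subset_closure hs⟩, h3 _ ?_, rfl⟩
    exact Subtype.ext (hS s hs)
  have h5 : K = ⊤ := by
    rw [eq_top_iff]
    intro x _
    obtain ⟨y, hy, hyx⟩ := h4 x.2
    have : y = x := Subtype.ext hyx
    rwa [← this]
  apply h1
  rw [h5, Subgroup.card_top]
  exact hpG

section form

variable {n m : ℕ} {F : Type*} [Field F] (e : Unit ⊕ (Fin m ⊕ Fin m) ≃ Fin n)

/-- The involution of the index set. -/
def tau (i : Fin n) : Fin n := e (Sum.map id Sum.swap (e.symm i))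

theorem tau_tau (i : Fin n) : tau e (tau e i) = i := by
  have h1 : ∀ x : Unit ⊕ (Fin m ⊕ Fin m), Sum.map id Sum.swap (Sum.map id Sum.swap x) = x := by
    rintro (x | x | x) <;> rfl
  rw [tau, tau, Equiv.symm_apply_apply, h1, Equiv.apply_symm_apply]

/-- The fixed index. -/
def mid : Fin n := e (Sum.inl ())

theorem tau_mid : tau e (mid e) = mid e := by
  rw [tau, mid, Equiv.symm_apply_apply]
  rfl

theorem tau_ne {i : Fin n} (hi : i ≠ mid e) : tau e i ≠ i := by
  intro h
  apply hi
  obtain ⟨x, rfl⟩ := e.surjective i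
  rw [tau, Equiv.symm_apply_apply] at h
  have h1 := e.injective h
  rcases x with x | x | x
  · rfl
  · simp at h1
  · simp at h1

/-- The permutation of the index set. -/
def tauE : Fin n ≃ Fin n := ⟨tau e, tau e, tau_tau e, tau_tau e⟩

/-- The form. -/
def bil (v w : Fin n → F) : F := (fun i => v (tau e i)) ⬝ᵥ w

theorem bil_comm (v w : Fin n → F) : bil e v w = bil e w v := by
  rw [bil, bil, dotProduct, dotProduct]
  rw [← Equiv.sum_comp (tauE e)]
  apply Finset.sum_congr rfl
  intro i _
  change v (tau e (tau e i)) * w (tau e i) = w (tau e i) * v i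
  rw [tau_tau, mul_comm]

theorem bil_add (v w x : Fin n → F) : bil e v (w + x) = bil e v w + bil e v x :=
  dotProduct_add _ _ _

theorem bil_smul (c : F) (v w : Fin n → F) : bil e v (c • w) = c * bil e v w := by
  rw [bil, dotProduct_smul, smul_eq_mul]
  rfl

theorem bil_neg (v w : Fin n → F) : bil e v (-w) = -bil e v w := dotProduct_neg _ _

theorem add_bil (v w x : Fin n → F) : bil e (v + w) x = bil e v x + bil e w x := by
  rw [bil_comm, bil_add, bil_comm e x v, bil_comm e x w]

theorem neg_bil (v w : Fin n → F) : bil e (-v) w = -bil e v w := by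
  rw [bil_comm, bil_neg, bil_comm]

theorem bil_ev (i : Fin n) (w : Fin n → F) : bil e (ev i) w = w (tau e i) := by
  have h1 : (fun j => (ev i : Fin n → F) (tau e j)) = ev (tau e i) := by
    funext j
    by_cases h : j = tau e i
    · rw [h, tau_tau, show (ev i : Fin n → F) i = 1 from Pi.single_eq_same _ _,
        show (ev (tau e i) : Fin n → F) (tau e i) = 1 from Pi.single_eq_same _ _]
    · rw [show (ev (tau e i) : Fin n → F) j = 0 from Pi.single_eq_of_ne h _]
      apply Pi.single_eq_of_ne
      intro h2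
      apply h
      rw [← h2, tau_tau]
  rw [bil, h1, single_dotProduct, one_mul]

theorem bil_self (v : Fin n → F) : bil e v v = v (mid e) ^ 2 +
    2 * ((fun i => v (e (Sum.inr (Sum.inl i)))) ⬝ᵥ (fun i => v (e (Sum.inr (Sum.inr i))))) := by
  rw [bil, dotProduct, ← Equiv.sum_comp e, Fintype.sum_sum_type, Fintype.sum_sum_type,
    Finset.univ_unique, Finset.sum_singleton, dotProduct]
  have h1 : ∀ x, tau e (e x) = e (Sum.map id Sum.swap x) := by
    intro x
    rw [tau, Equiv.symm_apply_apply]
  simp only [h1, Sum.map_inl, Sum.map_inr, id_eq, Sum.swap_inl, Sum.swap_inr]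
  rw [mid, two_mul, pow_two]
  congr 2
  apply Finset.sum_congr rfl
  intro i _
  ring

/-- The negative of a reflection. -/
def rf (hn : Odd n) (v : Fin n → F) (hv : bil e v v ≠ 0) :
    Matrix.SpecialLinearGroup (Fin n) F :=
  ⟨-(1 + vecMulVec ((-2 / bil e v v) • v) (fun i => v (tau e i))), by
    rw [det_neg, Fintype.card_fin, hn.neg_one_pow, vecMulVec_eq Unit,
      det_one_add_replicateCol_mul_replicateRow, dotProduct_smul]
    change -1 * (1 + (-2 / bil e v v) • bil e v v) = 1
    rw [smul_eq_mul]
    field_simp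
    ring⟩

theorem rf_smul (hn : Odd n) (v : Fin n → F) (hv : bil e v v ≠ 0) (x : Fin n → F) :
    rf e hn v hv • x = -x + (2 * bil e v x / bil e v v) • v := by
  change (-(1 + vecMulVec ((-2 / bil e v v) • v) (fun i => v (tau e i)))) *ᵥ x = _
  rw [neg_mulVec, add_mulVec, one_mulVec, vecMulVec_mulVec, op_smul_eq_smul]
  change -(x + (bil e v x) • ((-2 / bil e v v) • v)) = _
  rw [smul_smul, neg_add, ← neg_smul]
  congr 2
  field_simp

theorem rf_sq (hn : Odd n) (v : Fin n → F) (hv : bil e v v ≠ 0) :
    (rf e hn v hv) ^ 2 = 1 := by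
  apply Cfsg.Agent.LieClassical.SLGen.smul_ext
  intro x
  rw [pow_two, mul_smul, rf_smul, rf_smul, bil_add, bil_neg, bil_smul, one_smul]
  ext i
  simp only [Pi.add_apply, Pi.neg_apply, Pi.smul_apply, smul_eq_mul]
  field_simp
  ring

/-- The generators. -/
def gens (hn : Odd n) : Set (Matrix.SpecialLinearGroup (Fin n) F) :=
  {g | ∃ (v : Fin n → F) (hv : bil e v v ≠ 0), g = rf e hn v hv}

/-- The group generated by the negatives of the reflections. -/
def refl (hn : Odd n) : Subgroup (Matrix.SpecialLinearGroup (Fin n) F) := closure (gens e hn)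

theorem bil_fld (σ : F ≃+* F) (v w : Fin n → F) :
    bil e (fun i => σ (v i)) (fun i => σ (w i)) = σ (bil e v w) := by
  rw [bil, bil, dotProduct, dotProduct, map_sum]
  apply Finset.sum_congr rfl
  intro i _
  rw [map_mul]

theorem refl_fld (hn : Odd n) (σ : F ≃+* F) (g : Matrix.SpecialLinearGroup (Fin n) F)
    (hg : g ∈ refl e hn) : fld σ g ∈ refl e hn := by
  have h1 : (refl e hn).map (fld σ).toMonoidHom ≤ refl (F := F) e hn := by
    rw [refl, MonoidHom.map_closure, closure_le]
    rintro _ ⟨_, ⟨v, hv, rfl⟩, rfl⟩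
    apply Subgroup.subset_closure
    have hv' : bil e (fun i => σ (v i)) (fun i => σ (v i)) ≠ 0 := by
      rw [bil_fld]
      exact (map_ne_zero_iff σ σ.injective).2 hv
    refine ⟨fun i => σ (v i), hv', ?_⟩
    apply Cfsg.Agent.LieClassical.SLGen.smul_ext
    intro x
    have h2 : x = fun i => σ (σ.symm (x i)) := by
      funext i
      rw [RingEquiv.apply_symm_apply]
    rw [h2]
    have h3 := fld_smul σ (rf e hn v hv) (fun i => σ.symm (x i))
    change fld σ (rf e hn v hv) • (fun i => σ (σ.symm (x i))) = _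
    rw [← h3, rf_smul, rf_smul, bil_fld, bil_fld]
    ext i
    simp only [Pi.add_apply, Pi.neg_apply, Pi.smul_apply, smul_eq_mul, map_add, map_neg, map_mul,
      map_div₀, map_ofNat]
  exact h1 ⟨g, hg, rfl⟩

theorem bil_mid : bil e (ev (mid e) : Fin n → F) (ev (mid e)) = 1 := by
  rw [bil_ev, tau_mid]
  exact Pi.single_eq_same _ _

theorem refl_irr (hn : Odd n) (h2 : (2 : F) ≠ 0) : Irr (refl (F := F) e hn) := by
  intro U hU
  by_cases hU2 : U = ⊤
  · exact Or.inr hU2
  left
  -- dichotomy
  have hd : ∀ v : Fin n → F, bil e v v ≠ 0 → v ∈ U ∨ ∀ u ∈ U, bil e v u = 0 := by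
    intro v hv
    by_contra hno
    push Not at hno
    obtain ⟨hvU, u, hu, huv⟩ := hno
    have h3 := hU _ (Subgroup.subset_closure ⟨v, hv, rfl⟩) u hu
    rw [rf_smul, U.add_mem_iff_right (U.neg_mem hu)] at h3
    have h4 : 2 * bil e v u / bil e v v ≠ 0 := div_ne_zero (mul_ne_zero h2 huv) hv
    exact hvU ((U.smul_mem_iff h4).1 h3)
  have hmid : bil e (ev (mid e) : Fin n → F) (ev (mid e)) ≠ 0 := by
    rw [bil_mid]
    exact one_ne_zero
  have hm1 : ∀ i, i ≠ mid e → bil e (ev (mid e) + ev i : Fin n → F) (ev (mid e) + ev i) = 1 ∧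
      bil e (ev (mid e) + ev i : Fin n → F) (ev (mid e)) = 1 := by
    intro i hi
    have h3 : bil e (ev (mid e) : Fin n → F) (ev i) = 0 := by
      rw [bil_ev, tau_mid]
      exact Pi.single_eq_of_ne (Ne.symm hi) _
    have h4 : bil e (ev i : Fin n → F) (ev i) = 0 := by
      rw [bil_ev]
      exact Pi.single_eq_of_ne (tau_ne e hi) _
    constructor
    · rw [bil_add, add_bil, add_bil, bil_mid, h3, h4, bil_comm e (ev i), h3]
      ring
    · rw [add_bil, bil_mid, bil_comm e (ev i), h3, add_zero]
  -- `e_mid ∉ U`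
  have hnot : (ev (mid e) : Fin n → F) ∉ U := by
    intro h
    apply hU2
    apply eq_top_of_ev
    intro i
    by_cases hi : i = mid e
    · rw [hi]; exact h
    · obtain ⟨h3, h4⟩ := hm1 i hi
      rcases hd (ev (mid e) + ev i) (by rw [h3]; exact one_ne_zero) with h5 | h5
      · exact (U.add_mem_iff_right h).1 h5
      · rw [h5 _ h] at h4
        exact absurd h4 zero_ne_one
  have horth := (hd _ hmid).resolve_left hnot
  rw [eq_bot_iff]
  intro u hu
  rw [Submodule.mem_bot]
  have hall : ∀ i, bil e (ev i : Fin n → F) u = 0 := by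
    intro i
    by_cases hi : i = mid e
    · rw [hi]; exact horth u hu
    · obtain ⟨h3, h4⟩ := hm1 i hi
      rcases hd (ev (mid e) + ev i) (by rw [h3]; exact one_ne_zero) with h5 | h5
      · exfalso
        have h6 := horth _ h5
        rw [bil_comm, h4] at h6
        exact one_ne_zero h6
      · have h6 := h5 u hu
        rw [add_bil, horth u hu, zero_add] at h6
        exact h6
  funext i
  have := hall (tau e i)
  rw [bil_ev, tau_tau] at this
  exact this

theorem refl_bil (hn : Odd n) {g : Matrix.SpecialLinearGroup (Fin n) F} (hg : g ∈ refl e hn)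
    (x y : Fin n → F) : bil e (g • x) (g • y) = bil e x y := by
  revert x y
  refine Subgroup.closure_induction (p := fun g _ => ∀ x y : Fin n → F,
    bil e (g • x) (g • y) = bil e x y) ?_ ?_ ?_ ?_ hg
  · rintro _ ⟨v, hv, rfl⟩ x y
    rw [rf_smul, rf_smul, bil_add, bil_neg, bil_smul, add_bil, neg_bil, add_bil, neg_bil,
      bil_comm e (_ • v) y, bil_smul, bil_comm e (_ • v) v, bil_smul, bil_comm e x v,
      bil_comm e y v]
    field_simp
    ring
  · intro x y
    rw [one_smul, one_smul]
  · intro g h _ _ hg hh x y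
    rw [mul_smul, mul_smul, hg, hh]
  · intro g _ hg x y
    rw [← hg, smul_inv_smul, smul_inv_smul]

theorem refl_ne_top (hn : Odd n) (h3 : 3 ≤ n) : refl (F := F) e hn ≠ ⊤ := by
  intro h
  have hnt : Nontrivial (Fin n) := Fin.nontrivial_iff_two_le.2 (by omega)
  obtain ⟨j, hj⟩ := exists_ne (mid e)
  -- a transvection not preserving the form
  have h1 : (Matrix.SpecialLinearGroup.transvection hj (1 : F)) ∈ refl e hn :=
    h ▸ Subgroup.mem_top _
  have h2 := refl_bil e hn h1 (ev (mid e)) (ev (tau e j))
  rw [Cfsg.Agent.LieClassical.SLGen.transvection_smul,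
    Cfsg.Agent.LieClassical.SLGen.transvection_smul] at h2
  have htj : tau e j ≠ mid e := by
    intro h4
    apply hj
    have h5 := congrArg (tau e) h4
    rw [tau_tau, tau_mid] at h5
    exact h5
  have h4 : (ev (tau e j) : Fin n → F) (mid e) = 0 := Pi.single_eq_of_ne (Ne.symm htj) _
  have h5 : (ev (mid e) : Fin n → F) (mid e) = 1 := Pi.single_eq_same _ _
  rw [h4, h5, mul_zero, zero_smul, add_zero, mul_one, one_smul, add_bil, bil_ev, bil_ev,
    tau_mid, h4] at h2
  have h6 : (ev (tau e j) : Fin n → F) (tau e j) = 1 := Pi.single_eq_same _ _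
  rw [h6, zero_add] at h2
  exact one_ne_zero h2

/-- The orbit of the fixed vector. -/
theorem orbit_dvd [Finite F] (hn : Odd n) (h2 : (2 : F) ≠ 0) {p : ℕ} [hp : Fact p.Prime]
    (hp2 : p ≠ 2) (hpS : p ∣ Nat.card {v : Fin n → F // bil e v v = 1}) :
    p ∣ Nat.card (refl (F := F) e hn) := by
  classical
  set v₀ : Fin n → F := ev (mid e) with hv₀
  have hv₀1 : bil e v₀ v₀ = 1 := bil_mid e
  let O : Set (Fin n → F) := MulAction.orbit (refl (F := F) e hn) v₀
  let S : Set (Fin n → F) := {v | bil e v v = 1}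
  have hOS : O ⊆ S := by
    rintro _ ⟨g, rfl⟩
    change bil e (g.1 • v₀) (g.1 • v₀) = 1
    rw [refl_bil e hn g.2, hv₀1]
  have hsmul : ∀ (g : refl (F := F) e hn) (x : Fin n → F), g • (-x) = -(g • x) := fun g x =>
    smul_neg g.1 x
  have hS : ∀ w ∈ S, w ∈ O ∨ -w ∈ O := by
    intro w hw
    have hw1 : bil e w w = 1 := hw
    have h4 : bil e (v₀ + -w) (v₀ + -w) = 2 - 2 * bil e v₀ w := by
      rw [bil_add, add_bil, add_bil, bil_neg, bil_neg, neg_bil, neg_bil, hv₀1, hw1,
        bil_comm e w v₀]
      ring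
    have h5 : bil e (v₀ + w) (v₀ + w) = 2 + 2 * bil e v₀ w := by
      rw [bil_add, add_bil, add_bil, hv₀1, hw1, bil_comm e w v₀]
      ring
    by_cases h6 : bil e (v₀ + -w) (v₀ + -w) = 0
    · left
      have h7 : bil e (v₀ + w) (v₀ + w) ≠ 0 := by
        intro h8
        rw [h4] at h6
        rw [h5] at h8
        have h9 : (2 : F) * 2 = 0 := by linear_combination h6 + h8
        rcases mul_eq_zero.1 h9 with h10 | h10 <;> exact h2 h10
      refine ⟨⟨rf e hn (v₀ + w) h7, Subgroup.subset_closure ⟨_, h7, rfl⟩⟩, ?_⟩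
      change rf e hn (v₀ + w) h7 • v₀ = w
      rw [rf_smul]
      have h8 : 2 * bil e (v₀ + w) v₀ / bil e (v₀ + w) (v₀ + w) = 1 := by
        rw [div_eq_one_iff_eq h7, add_bil, hv₀1, bil_comm e w v₀, h5]
        ring
      rw [h8, one_smul]
      abel
    · right
      refine ⟨⟨rf e hn (v₀ + -w) h6, Subgroup.subset_closure ⟨_, h6, rfl⟩⟩, ?_⟩
      change rf e hn (v₀ + -w) h6 • v₀ = -w
      rw [rf_smul]
      have h8 : 2 * bil e (v₀ + -w) v₀ / bil e (v₀ + -w) (v₀ + -w) = 1 := by
        rw [div_eq_one_iff_eq h6, add_bil, neg_bil, hv₀1, bil_comm e w v₀, h4]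
        ring
      rw [h8, one_smul]
      abel
  have hSO : S = O ∪ (fun v => -v) '' O := by
    apply Set.Subset.antisymm
    · intro w hw
      rcases hS w hw with h4 | h4
      · exact Or.inl h4
      · exact Or.inr ⟨-w, h4, neg_neg w⟩
    · rintro w (hw | ⟨v, hv, rfl⟩)
      · exact hOS hw
      · have h4 : bil e v v = 1 := hOS hv
        change bil e (-v) (-v) = 1
        rw [bil_neg, neg_bil, neg_neg, h4]
  have hcardO : Nat.card O ∣ Nat.card (refl (F := F) e hn) := by
    rw [Nat.card_congr (MulAction.orbitEquivQuotientStabilizer (refl (F := F) e hn) v₀)]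
    exact Subgroup.card_quotient_dvd_card _
  have hpO : p ∣ Nat.card O := by
    have hpS' : p ∣ S.ncard := hpS
    by_cases hneg : -v₀ ∈ O
    · have h4 : (fun v : Fin n → F => -v) '' O ⊆ O := by
        rintro _ ⟨_, ⟨g, rfl⟩, rfl⟩
        obtain ⟨h, hh⟩ := hneg
        refine ⟨g * h, ?_⟩
        change (g * h) • v₀ = -(g • v₀)
        rw [mul_smul]
        have hh' : h • v₀ = -v₀ := hh
        rw [hh', hsmul]
      rw [hSO, Set.union_eq_self_of_subset_right h4] at hpS'
      exact hpS'
    · have h4 : Disjoint O ((fun v : Fin n → F => -v) '' O) := by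
        rw [Set.disjoint_left]
        rintro _ ⟨g, rfl⟩ ⟨_, ⟨h, rfl⟩, h5⟩
        apply hneg
        refine ⟨h⁻¹ * g, ?_⟩
        change (h⁻¹ * g) • v₀ = -v₀
        have h6 : -(h • v₀) = g • v₀ := h5
        rw [mul_smul, ← h6, hsmul, inv_smul_smul]
      rw [hSO, Set.ncard_union_eq h4, Set.ncard_image_of_injective _ neg_injective, ← two_mul] at hpS'
      rcases hp.out.dvd_mul.1 hpS' with h5 | h5
      · rw [Nat.prime_dvd_prime_iff_eq hp.out Nat.prime_two] at h5
        exact absurd h5 hp2
      · exact h5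
  exact hpO.trans hcardO

/-- The number of vectors of norm `1`. -/
theorem card_norm_one [Fintype F] (h2 : (2 : F) ≠ 0) :
    Nat.card {v : Fin n → F // bil e v v = 1} =
      Fintype.card F ^ m * Fintype.card F ^ m + Fintype.card F ^ m := by
  classical
  let E1 : {v : Fin n → F // bil e v v = 1} ≃
      {s : (Fin m → F) × (F × (Fin m → F)) // s.2.1 ^ 2 + 2 * (s.1 ⬝ᵥ s.2.2) = 1} :=
    { toFun := fun v => ⟨(fun i => v.1 (e (Sum.inr (Sum.inl i))), v.1 (mid e),
        fun i => v.1 (e (Sum.inr (Sum.inr i)))), by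
        have := v.2
        rw [bil_self] at this
        exact this⟩
      invFun := fun s => ⟨fun k => Sum.elim (fun _ => s.1.2.1) (Sum.elim s.1.1 s.1.2.2)
        (e.symm k), by
        rw [bil_self]
        simp only [mid, Equiv.symm_apply_apply, Sum.elim_inl, Sum.elim_inr]
        exact s.2⟩
      left_inv := fun v => by
        apply Subtype.ext
        funext k
        obtain ⟨x, rfl⟩ := e.surjective k
        simp only [Equiv.symm_apply_apply]
        rcases x with x | x | x <;> rfl
      right_inv := fun s => by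
        apply Subtype.ext
        simp only [mid, Equiv.symm_apply_apply, Sum.elim_inl, Sum.elim_inr] }
  rw [Nat.card_congr E1]
  let E2 := Equiv.subtypeProdEquivSigmaSubtype
    (fun (x : Fin m → F) (t : F × (Fin m → F)) => t.1 ^ 2 + 2 * (x ⬝ᵥ t.2) = 1)
  rw [Nat.card_congr E2, Nat.card_sigma]
  have hV : Fintype.card (Fin m → F) = Fintype.card F ^ m := by
    rw [Fintype.card_fun, Fintype.card_fin]
  have h3 : ∀ x : Fin m → F, Nat.card {t : F × (Fin m → F) // t.1 ^ 2 + 2 * (x ⬝ᵥ t.2) = 1} =
      Fintype.card F ^ m + (if x = 0 then Fintype.card F ^ m else 0) := by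
    intro x
    by_cases hx : x = 0
    · subst hx
      rw [if_pos rfl]
      have E3 : {t : F × (Fin m → F) // t.1 ^ 2 + 2 * ((0 : Fin m → F) ⬝ᵥ t.2) = 1} ≃
          Bool × (Fin m → F) :=
        { toFun := fun t => (decide (t.1.1 = 1), t.1.2)
          invFun := fun s => ⟨(if s.1 then 1 else -1, s.2), by
            change (if s.1 = true then (1 : F) else -1) ^ 2 + 2 * ((0 : Fin m → F) ⬝ᵥ s.2) = 1
            rw [zero_dotProduct, mul_zero, add_zero]
            cases s.1 <;> simp⟩
          left_inv := fun t => by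
            apply Subtype.ext
            apply Prod.ext
            · change (if decide (t.1.1 = 1) = true then (1 : F) else -1) = t.1.1
              have h4 := t.2
              rw [zero_dotProduct, mul_zero, add_zero] at h4
              have h5 : (t.1.1 - 1) * (t.1.1 + 1) = 0 := by linear_combination h4
              rcases mul_eq_zero.1 h5 with h6 | h6
              · have h7 : t.1.1 = 1 := sub_eq_zero.1 h6
                rw [if_pos (decide_eq_true h7), h7]
              · have h7 : t.1.1 = -1 := eq_neg_of_add_eq_zero_left h6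
                have h8 : ¬ t.1.1 = 1 := by
                  intro h9
                  apply h2
                  rw [h9] at h7
                  linear_combination h7
                rw [decide_eq_false h8, if_neg Bool.false_ne_true, h7]
            · rfl
          right_inv := fun s => by
            apply Prod.ext
            · change decide ((if s.1 = true then (1 : F) else -1) = 1) = s.1
              have h4 : ¬ (-1 : F) = 1 := by
                intro h9
                apply h2
                linear_combination -h9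
              rcases s with ⟨b, y⟩
              cases b
              · simp [h4]
              · simp
            · rfl }
      rw [Nat.card_congr E3, Nat.card_prod, Nat.card_eq_fintype_card, Nat.card_eq_fintype_card,
        hV, Fintype.card_bool]
      ring
    · rw [if_neg hx, add_zero]
      obtain ⟨i, hi⟩ := Function.ne_iff.1 hx
      have hi' : x i ≠ 0 := hi
      obtain ⟨z, hz⟩ : ∃ z : Fin m → F, x ⬝ᵥ z = 1 :=
        ⟨Pi.single i (x i)⁻¹, by rw [dotProduct_single, mul_inv_cancel₀ hi']⟩
      have E3 : {t : F × (Fin m → F) // t.1 ^ 2 + 2 * (x ⬝ᵥ t.2) = 1} ≃ (Fin m → F) :=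
        { toFun := fun t => t.1.2 - ((1 - t.1.1 ^ 2) / 2) • z + t.1.1 • z
          invFun := fun u => ⟨(x ⬝ᵥ u, u - (x ⬝ᵥ u) • z + ((1 - (x ⬝ᵥ u) ^ 2) / 2) • z), by
            change (x ⬝ᵥ u) ^ 2 + 2 * (x ⬝ᵥ (u - (x ⬝ᵥ u) • z +
              ((1 - (x ⬝ᵥ u) ^ 2) / 2) • z)) = 1
            rw [dotProduct_add, dotProduct_sub, dotProduct_smul, dotProduct_smul, hz]
            simp only [smul_eq_mul]
            field_simp
            ring⟩
          left_inv := fun t => by
            have h4 : x ⬝ᵥ (t.1.2 - ((1 - t.1.1 ^ 2) / 2) • z + t.1.1 • z) = t.1.1 := by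
              have h5 := t.2
              rw [dotProduct_add, dotProduct_sub, dotProduct_smul, dotProduct_smul, hz]
              simp only [smul_eq_mul]
              have h6 : x ⬝ᵥ t.1.2 = (1 - t.1.1 ^ 2) / 2 := by
                field_simp
                linear_combination h5
              rw [h6]
              ring
            apply Subtype.ext
            apply Prod.ext
            · exact h4
            · change (t.1.2 - ((1 - t.1.1 ^ 2) / 2) • z + t.1.1 • z) -
                (x ⬝ᵥ (t.1.2 - ((1 - t.1.1 ^ 2) / 2) • z + t.1.1 • z)) • z +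
                ((1 - (x ⬝ᵥ (t.1.2 - ((1 - t.1.1 ^ 2) / 2) • z + t.1.1 • z)) ^ 2) / 2) • z
                = t.1.2
              rw [h4]
              abel
          right_inv := fun u => by
            change (u - (x ⬝ᵥ u) • z + ((1 - (x ⬝ᵥ u) ^ 2) / 2) • z) -
              ((1 - (x ⬝ᵥ u) ^ 2) / 2) • z + (x ⬝ᵥ u) • z = u
            abel }
      rw [Nat.card_congr E3, Nat.card_eq_fintype_card, hV]
  rw [Finset.sum_congr rfl fun x _ => h3 x, Finset.sum_add_distrib, Finset.sum_ite_eq',
    Finset.sum_const, Finset.card_univ, hV, smul_eq_mul]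
  simp

end form

end Cfsg.Agent.H579.SLRed
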