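/-
The stabiliser of a plane in `SL_n(F)`.
-/
import Cfsg.Agent.H579.SLMono
import Cfsg.Agent.ClassicalGeometry.PSL2Basic

set_option autoImplicit false

namespace Cfsg.Agent.H579.SLRed

open Cfsg Subgroup Cfsg.Agent.Transfer.PNilpotentBasic Matrix
open Cfsg.Agent.H579.MaxPNilRed Cfsg.Agent.H579.SLStab Cfsg.Agent.H579.SLAut
open Cfsg.Agent.ClassicalGeometry.AutPSL.Root
open Cfsg.Agent.ClassicalGeometry.AutPSL.Auto
open scoped LinearAlgebra.Projectivization

/-- A perfect group of order divisible by `p` has no normal `p`-complement. -/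
theorem not_hnc_of_perfect {p : ℕ} [hp : Fact p.Prime] {G : Type*} [Group G] [Finite G]
    (h : commutator G = ⊤) (hpG : p ∣ Nat.card G) : ¬ HasNormalPComplement p G := by
  intro hG
  obtain ⟨K, hK, h1, k, h2⟩ :=
    Cfsg.Agent.OddOrderLocal.NilpotentQuotient.exists_of_hasNormalPComplement hG
  have h3 : IsPGroup p (G ⧸ K) := IsPGroup.of_card (n := k) (by
    rw [← Subgroup.index_eq_card]; exact h2)
  have h4 : Group.IsNilpotent (G ⧸ K) := h3.isNilpotent
  have h5 : commutator (G ⧸ K) = ⊤ := by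
    have h6 := Subgroup.map_commutator (⊤ : Subgroup G) ⊤ (QuotientGroup.mk' K)
    rw [Subgroup.map_top_of_surjective _ (QuotientGroup.mk'_surjective K)] at h6
    rw [commutator_def, ← h6, ← commutator_def, h,
      Subgroup.map_top_of_surjective _ (QuotientGroup.mk'_surjective K)]
  have h6 : Subsingleton (G ⧸ K) := by
    by_contra hns
    rw [not_subsingleton_iff_nontrivial] at hns
    exact (Group.IsSolvable.commutator_lt_top_of_nontrivial (G ⧸ K)).ne h5
  have h7 : K = ⊤ := by
    rw [← Subgroup.index_eq_one, Subgroup.index_eq_card]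
    exact Nat.card_eq_one_iff_unique.2 ⟨h6, ⟨1⟩⟩
  apply h1
  rw [h7, Subgroup.card_top]
  exact hpG

section orders

variable {F : Type*} [Field F] [Fintype F] {p : ℕ} [hp : Fact p.Prime]

theorem dvd_card_GL {m i : ℕ} (h1 : 1 ≤ i) (h2 : i ≤ m) (h : p ∣ Fintype.card F ^ i - 1) :
    p ∣ Nat.card (GL (Fin m) F) := by
  rw [Matrix.card_GL_field]
  have hm : m - i < m := by omega
  refine Dvd.dvd.trans ?_ (Finset.dvd_prod_of_mem _ (Finset.mem_univ (⟨m - i, hm⟩ : Fin m)))
  change p ∣ Fintype.card F ^ m - Fintype.card F ^ (m - i)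
  have h3 : Fintype.card F ^ m - Fintype.card F ^ (m - i)
      = Fintype.card F ^ (m - i) * (Fintype.card F ^ i - 1) := by
    rw [Nat.mul_sub, mul_one, ← pow_add, Nat.sub_add_cancel h2]
  rw [h3]
  exact Dvd.dvd.mul_left h _

theorem dvd_card_SL {m i : ℕ} (h1 : 1 ≤ i) (h2 : i ≤ m) (h : p ∣ Fintype.card F ^ i - 1)
    (h0 : ¬ p ∣ Fintype.card F - 1) : p ∣ Nat.card (Matrix.SpecialLinearGroup (Fin m) F) := by
  have hne : Nonempty (Fin m) := ⟨⟨0, by omega⟩⟩
  have h3 := dvd_card_GL (F := F) h1 h2 h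
  rw [← Cfsg.Agent.ClassicalGeometry.PSL2Basic.card_SL_mul] at h3
  exact (hp.out.dvd_mul.1 h3).resolve_right h0

theorem char_dvd_card_SL {m : ℕ} (hm : 2 ≤ m) (h : p ∣ Fintype.card F) :
    p ∣ Nat.card (Matrix.SpecialLinearGroup (Fin m) F) := by
  have hne : Nonempty (Fin m) := ⟨⟨0, by omega⟩⟩
  have h3 : p ∣ Nat.card (GL (Fin m) F) := by
    rw [Matrix.card_GL_field]
    refine Dvd.dvd.trans ?_ (Finset.dvd_prod_of_mem _ (Finset.mem_univ (⟨1, by omega⟩ : Fin m)))
    change p ∣ Fintype.card F ^ m - Fintype.card F ^ 1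
    exact Nat.dvd_sub (h.trans (dvd_pow_self _ (by omega))) (h.trans (dvd_pow_self _ (by omega)))
  rw [← Cfsg.Agent.ClassicalGeometry.PSL2Basic.card_SL_mul] at h3
  refine (hp.out.dvd_mul.1 h3).resolve_right fun h4 => ?_
  have h5 : 1 ≤ Fintype.card F := Fintype.card_pos
  have h6 : p ∣ 1 := (Nat.dvd_sub_iff_right h5 h).1 h4
  exact hp.out.one_lt.ne' (Nat.dvd_one.1 h6)

theorem sl_not_hnc {m : ℕ} (hm : 3 ≤ m)
    (h : p ∣ Nat.card (Matrix.SpecialLinearGroup (Fin m) F)) :
    ¬ HasNormalPComplement p (Matrix.SpecialLinearGroup (Fin m) F) :=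
  not_hnc_of_perfect (Cfsg.Agent.LieClassical.SLGen.commutator_eq_top
    (by rw [Fintype.card_fin]; exact hm)) h

end orders

section plane

variable {F : Type*} [Field F] {m : ℕ}

/-- The plane spanned by the first two unit vectors. -/
def plane (m : ℕ) (F : Type*) [Field F] : Submodule F (Fin (2 + m) → F) where
  carrier := {v | ∀ k : Fin m, v (Fin.natAdd 2 k) = 0}
  zero_mem' := fun _ => rfl
  add_mem' := fun {a b} ha hb k => by
    have h1 : a (Fin.natAdd 2 k) = 0 := ha k
    have h2 : b (Fin.natAdd 2 k) = 0 := hb k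
    rw [Pi.add_apply, h1, h2, add_zero]
  smul_mem' := fun c a ha k => by
    have h1 : a (Fin.natAdd 2 k) = 0 := ha k
    rw [Pi.smul_apply, h1, smul_zero]

theorem mem_plane {v : Fin (2 + m) → F} : v ∈ plane m F ↔ ∀ k : Fin m, v (Fin.natAdd 2 k) = 0 :=
  Iff.rfl

/-- The corner embedding. -/
def corner : Matrix.SpecialLinearGroup (Fin m) F →* Matrix.SpecialLinearGroup (Fin (2 + m)) F where
  toFun A := ⟨Matrix.reindex finSumFinEquiv finSumFinEquiv (Matrix.fromBlocks 1 0 0 A.1), by
    rw [Matrix.det_reindex_self, Matrix.det_fromBlocks_zero₁₂, det_one, one_mul, A.2]⟩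
  map_one' := by
    apply Subtype.ext
    change Matrix.reindex finSumFinEquiv finSumFinEquiv (Matrix.fromBlocks 1 0 0
      (1 : Matrix (Fin m) (Fin m) F)) = 1
    rw [Matrix.fromBlocks_one, Matrix.reindex_apply, Matrix.submatrix_one_equiv]
  map_mul' A B := by
    apply Subtype.ext
    change Matrix.reindex finSumFinEquiv finSumFinEquiv (Matrix.fromBlocks 1 0 0 (A.1 * B.1))
      = Matrix.reindex finSumFinEquiv finSumFinEquiv (Matrix.fromBlocks 1 0 0 A.1) *
        Matrix.reindex finSumFinEquiv finSumFinEquiv (Matrix.fromBlocks 1 0 0 B.1)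
    rw [Matrix.reindex_apply, Matrix.reindex_apply, Matrix.reindex_apply,
      Matrix.submatrix_mul_equiv, Matrix.fromBlocks_multiply]
    simp

theorem corner_injective : Function.Injective (corner : Matrix.SpecialLinearGroup (Fin m) F →* _) := by
  intro A B h
  apply Subtype.ext
  have h1 : Matrix.reindex finSumFinEquiv finSumFinEquiv (Matrix.fromBlocks 1 0 0 A.1)
      = Matrix.reindex finSumFinEquiv finSumFinEquiv (Matrix.fromBlocks 1 0 0 B.1) :=
    congrArg Subtype.val h
  have h2 := (Matrix.reindex finSumFinEquiv finSumFinEquiv).injective h1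
  exact (Matrix.fromBlocks_inj.1 h2).2.2.2

theorem corner_smul (A : Matrix.SpecialLinearGroup (Fin m) F) {v : Fin (2 + m) → F}
    (hv : v ∈ plane m F) : corner A • v = v := by
  have h0 : v ∘ finSumFinEquiv = Sum.elim (fun i : Fin 2 => v (Fin.castAdd m i)) 0 := by
    funext x
    rcases x with i | k
    · simp
    · simp only [Function.comp_apply, finSumFinEquiv_apply_right, Sum.elim_inr, Pi.zero_apply]
      exact hv k
  change (Matrix.reindex finSumFinEquiv finSumFinEquiv (Matrix.fromBlocks 1 0 0 A.1)) *ᵥ v = v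
  rw [Matrix.reindex_apply, Matrix.submatrix_mulVec_equiv, Equiv.symm_symm, h0,
    Matrix.fromBlocks_mulVec]
  simp only [one_mulVec, mulVec_zero, add_zero, zero_mulVec, Sum.elim_comp_inl,
    Sum.elim_comp_inr]
  rw [← h0]
  funext x
  simp

theorem plane_fld (σ : F ≃+* F) {g : Matrix.SpecialLinearGroup (Fin (2 + m)) F}
    (hg : g ∈ Stab (plane m F)) : fld σ g ∈ Stab (plane m F) := by
  have h := semi_smul (B := 1) (σ := σ) hg
  have h1 : semi 1 σ (plane m F) = plane m F := by
    ext v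
    rw [mem_semi, mem_plane, mem_plane]
    constructor
    · intro h2 k
      have h3 := h2 k
      rw [inv_one, one_smul] at h3
      exact (map_eq_zero_iff σ.symm σ.symm.injective).1 h3
    · intro h2 k
      rw [inv_one, one_smul, h2 k, map_zero]
  rw [h1, one_mul, inv_one, mul_one] at h
  exact h

theorem plane_ne_bot : plane m F ≠ ⊥ := by
  intro h
  have h1 : (ev (Fin.castAdd m 0) : Fin (2 + m) → F) ∈ plane m F := by
    intro k
    apply Pi.single_eq_of_ne
    intro h2
    have h3 := congrArg Fin.val h2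
    simp at h3
  rw [h, Submodule.mem_bot] at h1
  exact ev_ne_zero _ h1

theorem plane_ne_top (hm : 0 < m) : plane m F ≠ ⊤ := by
  intro h
  have h1 : (ev (Fin.natAdd 2 ⟨0, hm⟩) : Fin (2 + m) → F) ∈ plane m F := h ▸ Submodule.mem_top
  have h2 : (ev (Fin.natAdd 2 ⟨0, hm⟩) : Fin (2 + m) → F) (Fin.natAdd 2 ⟨0, hm⟩) = 0 := h1 _
  rw [show (ev (Fin.natAdd 2 ⟨0, hm⟩) : Fin (2 + m) → F) (Fin.natAdd 2 ⟨0, hm⟩) = 1 from
    Pi.single_eq_same _ _] at h2
  exact one_ne_zero h2

theorem stab_plane_not_hnc {p : ℕ} [hp : Fact p.Prime] [Fintype F] (hm : 3 ≤ m)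
    (h : p ∣ Nat.card (Matrix.SpecialLinearGroup (Fin m) F)) :
    ¬ HasNormalPComplement p (Stab (plane m F)) := by
  intro hh
  apply sl_not_hnc hm h
  refine hnc_of_injective (corner.codRestrict (Stab (plane m F)) fun A => ?_) ?_ hh
  · apply mem_Stab_of_maps
    intro w hw
    rw [corner_smul A hw]
    exact hw
  · intro A B hAB
    exact corner_injective (congrArg Subtype.val hAB)

/-- Two-transitivity on the projective space. -/
theorem exists_pair {n : ℕ} {i j : Fin n} (hij : i ≠ j) {v w : Fin n → F} (hv : v ≠ 0)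
    (hw : w ∉ Submodule.span F {v}) :
    ∃ (g : Matrix.SpecialLinearGroup (Fin n) F) (c d : F),
      g • (c • ev i : Fin n → F) = v ∧ g • (d • ev j : Fin n → F) = w := by
  have hw0 : w ≠ 0 := by
    rintro rfl
    exact hw (Submodule.zero_mem _)
  have h2 : MulAction.IsMultiplyPretransitive (Matrix.SpecialLinearGroup (Fin n) F)
      (ℙ F (Fin n → F)) 2 := inferInstance
  rw [MulAction.is_two_pretransitive_iff] at h2
  have h3 : Projectivization.mk F (ev i : Fin n → F) (ev_ne_zero i)
      ≠ Projectivization.mk F (ev j : Fin n → F) (ev_ne_zero j) := by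
    intro h
    rw [Projectivization.mk_eq_mk_iff'] at h
    obtain ⟨a, ha⟩ := h
    have h4 := congrFun ha i
    rw [Pi.smul_apply, show (ev j : Fin n → F) i = 0 from Pi.single_eq_of_ne hij _,
      show (ev i : Fin n → F) i = 1 from Pi.single_eq_same _ _, smul_zero] at h4
    exact zero_ne_one h4
  have h4 : Projectivization.mk F v hv ≠ Projectivization.mk F w hw0 := by
    intro h
    rw [Projectivization.mk_eq_mk_iff'] at h
    obtain ⟨a, ha⟩ := h
    have ha0 : a ≠ 0 := by
      rintro rfl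
      rw [zero_smul] at ha
      exact hv ha.symm
    apply hw
    rw [Submodule.mem_span_singleton]
    exact ⟨a⁻¹, by rw [← ha, smul_smul, inv_mul_cancel₀ ha0, one_smul]⟩
  obtain ⟨g, hg1, hg2⟩ := h2 h3 h4
  rw [Projectivization.smul_mk, Projectivization.mk_eq_mk_iff'] at hg1 hg2
  obtain ⟨a, ha⟩ := hg1
  obtain ⟨b, hb⟩ := hg2
  have hsm : ∀ (c : F) (u : Fin n → F), g • (c • u) = c • (g • u) := fun c u =>
    mulVec_smul (g : Matrix (Fin n) (Fin n) F) c u
  have ha0 : a ≠ 0 := by
    rintro rfl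
    rw [zero_smul] at ha
    have h5 := congrArg (fun x => g⁻¹ • x) ha
    simp only [smul_zero, inv_smul_smul] at h5
    exact ev_ne_zero _ h5.symm
  have hb0 : b ≠ 0 := by
    rintro rfl
    rw [zero_smul] at hb
    have h5 := congrArg (fun x => g⁻¹ • x) hb
    simp only [smul_zero, inv_smul_smul] at h5
    exact ev_ne_zero _ h5.symm
  refine ⟨g, a⁻¹, b⁻¹, ?_, ?_⟩
  · rw [hsm, ← ha, smul_smul, inv_mul_cancel₀ ha0, one_smul]
  · rw [hsm, ← hb, smul_smul, inv_mul_cancel₀ hb0, one_smul]

/-- The number of planes is large. -/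
theorem index_plane [Fintype F] :
    (Fintype.card F ^ (2 + m)) * (Fintype.card F ^ (2 + m)) ≤
      Fintype.card F ^ (2 + m) + Fintype.card F * Fintype.card F ^ (2 + m) +
      (Stab (plane m F)).index * (Fintype.card F ^ 2 * Fintype.card F ^ 2) := by
  classical
  set V := Fin (2 + m) → F with hV
  let S := Matrix.SpecialLinearGroup (Fin (2 + m)) F ⧸ Stab (plane m F)
  let emb : (Fin 2 → F) → V := fun a k => if h : (k : ℕ) < 2 then a ⟨k, h⟩ else 0
  have hemb : ∀ v ∈ plane m F, ∃ a, emb a = v := by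
    intro v hv
    refine ⟨fun i => v (Fin.castAdd m i), ?_⟩
    funext k
    change (if h : (k : ℕ) < 2 then v (Fin.castAdd m ⟨k, h⟩) else 0) = v k
    by_cases h : (k : ℕ) < 2
    · rw [dif_pos h]
      rfl
    · rw [dif_neg h]
      have h1 := hv ⟨(k : ℕ) - 2, by omega⟩
      rw [← h1]
      congr 1
      apply Fin.ext
      change 2 + ((k : ℕ) - 2) = (k : ℕ)
      omega
  let f : V ⊕ (F × V) ⊕ (S × ((Fin 2 → F) × (Fin 2 → F))) → V × V :=
    Sum.elim (fun w => (0, w)) (Sum.elim (fun x => (x.2, x.1 • x.2))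
      (fun x => (x.1.out • emb x.2.1, x.1.out • emb x.2.2)))
  have hf : Function.Surjective f := by
    rintro ⟨v, w⟩
    by_cases hv : v = 0
    · exact ⟨Sum.inl w, by rw [hv]; rfl⟩
    by_cases hw : w ∈ Submodule.span F {v}
    · obtain ⟨c, hc⟩ := Submodule.mem_span_singleton.1 hw
      exact ⟨Sum.inr (Sum.inl (c, v)), by rw [← hc]; rfl⟩
    · have hij : (Fin.castAdd m 0 : Fin (2 + m)) ≠ Fin.castAdd m 1 := by
        intro h
        have h1 := congrArg Fin.val h
        simp at h1
      obtain ⟨g, c, d, hg1, hg2⟩ := exists_pair hij hv hw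
      have h1 : (QuotientGroup.mk g : S).out⁻¹ * g ∈ Stab (plane m F) := by
        rw [← QuotientGroup.eq]
        exact QuotientGroup.out_eq' _
      have h2 : (c • ev (Fin.castAdd m 0) : V) ∈ plane m F := by
        apply Submodule.smul_mem
        intro k
        apply Pi.single_eq_of_ne
        intro h2
        have h3 := congrArg Fin.val h2
        simp at h3
      have h3 : (d • ev (Fin.castAdd m 1) : V) ∈ plane m F := by
        apply Submodule.smul_mem
        intro k
        apply Pi.single_eq_of_ne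
        intro h2
        have h3 := congrArg Fin.val h2
        simp at h3
        omega
      obtain ⟨a, ha⟩ := hemb _ ((h1 _).2 h2)
      obtain ⟨b, hb⟩ := hemb _ ((h1 _).2 h3)
      refine ⟨Sum.inr (Sum.inr (QuotientGroup.mk g, (a, b))), ?_⟩
      change ((QuotientGroup.mk g : S).out • emb a, (QuotientGroup.mk g : S).out • emb b) = (v, w)
      rw [ha, hb, mul_smul, mul_smul, smul_inv_smul, smul_inv_smul, hg1, hg2]
  have h1 := Nat.card_le_card_of_surjective f hf
  rw [Nat.card_sum, Nat.card_sum, Nat.card_prod, Nat.card_prod, Nat.card_prod, Nat.card_prod] at h1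
  have h2 : Nat.card V = Fintype.card F ^ (2 + m) := by
    rw [Nat.card_eq_fintype_card]
    exact (Fintype.card_fun).trans (by rw [Fintype.card_fin])
  have h3 : Nat.card (Fin 2 → F) = Fintype.card F ^ 2 := by
    rw [Nat.card_eq_fintype_card, Fintype.card_fun, Fintype.card_fin]
  have h4 : Nat.card S = (Stab (plane m F)).index := rfl
  rw [h2, h3, h4, Nat.card_eq_fintype_card (α := F)] at h1
  omega

end plane

section ctx3

variable {Q : Type*} [Group Q] [Finite Q] {p : ℕ} [hp : Fact p.Prime]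
variable {m : ℕ} {F : Type*} [Field F] [Fintype F] {N : Subgroup Q} {r : ℕ}

theorem Ctx.not_dvd_levi (C : Ctx p Q N r (2 + m) F)
    (e : Matrix.SpecialLinearGroup (Fin (2 + m)) F ≃* N) (hm : 3 ≤ m) :
    ¬ p ∣ Nat.card (Matrix.SpecialLinearGroup (Fin m) F) := by
  intro h
  have hne : Stab (plane m F) ≠ ⊥ := by
    intro h1
    apply stab_plane_not_hnc (p := p) hm h
    apply hnc_of_coprime
    rw [h1, Subgroup.card_bot]
    exact Nat.coprime_one_left p
  rcases C.sub e (Stab (plane m F)) (fun σ y hy => plane_fld σ hy) hne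
    (Stab_ne_top plane_ne_bot (plane_ne_top (by omega))) with h1 | ⟨W, hW1, hW2, hW3, hW4⟩
  · exact stab_plane_not_hnc hm h h1
  · have hW := Stab_inj hW1 hW2 plane_ne_bot hW3
    rw [hW] at hW4
    have h1 := index_plane (m := m) (F := F)
    rw [hW4] at h1
    have h2 := C.eq
    have hq : 2 ≤ Fintype.card F := Fintype.one_lt_card
    set q := Fintype.card F with hqdef
    have h3 : q ^ 5 ≤ q ^ (2 + m) := Nat.pow_le_pow_right (by omega) (by omega)
    set A := q ^ (2 + m) with hA
    have hA1 : 1 ≤ A := Nat.one_le_pow _ _ (by omega)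
    have h4 : A = r * (q - 1) + 1 := by omega
    obtain ⟨s, hs⟩ : ∃ s, q = s + 2 := ⟨q - 2, by omega⟩
    have h5 : q - 1 = s + 1 := by omega
    rw [h5] at h4
    -- multiply by `q - 1`
    have h6 : (s + 1) * (A * A) ≤ (s + 1) * (A + q * A) + (A - 1) * (q ^ 2 * q ^ 2) := by
      have h7 : A - 1 = r * (s + 1) := by omega
      calc (s + 1) * (A * A) ≤ (s + 1) * (A + q * A + r * (q ^ 2 * q ^ 2)) :=
            Nat.mul_le_mul_left _ h1
        _ = (s + 1) * (A + q * A) + (A - 1) * (q ^ 2 * q ^ 2) := by rw [h7]; ring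
    have h8 : (s + 1) * (A * A) < ((s + 1) * (1 + q) + q ^ 4) * A := by
      have h9 : (A - 1) * (q ^ 2 * q ^ 2) < A * (q ^ 2 * q ^ 2) :=
        Nat.mul_lt_mul_of_pos_right (by omega) (by positivity)
      calc (s + 1) * (A * A) ≤ (s + 1) * (A + q * A) + (A - 1) * (q ^ 2 * q ^ 2) := h6
        _ < (s + 1) * (A + q * A) + A * (q ^ 2 * q ^ 2) := by omega
        _ = _ := by ring
    have h9 : (s + 1) * A < (s + 1) * (1 + q) + q ^ 4 := by
      have h10 : (s + 1) * A * A < ((s + 1) * (1 + q) + q ^ 4) * A := by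
        calc (s + 1) * A * A = (s + 1) * (A * A) := by ring
          _ < _ := h8
      exact lt_of_mul_lt_mul_right h10 (Nat.zero_le _)
    have h10 : (s + 1) * q ^ 5 < (s + 1) * (1 + q) + q ^ 4 :=
      lt_of_le_of_lt (Nat.mul_le_mul_left _ h3) h9
    rw [hs] at h10
    have h11 : (s + 1) * (1 + (s + 2)) + (s + 2) ^ 4 ≤ (s + 1) * (s + 2) ^ 5 := by
      nlinarith [sq_nonneg s, pow_pos (show 0 < s + 2 by omega) 3, Nat.zero_le s,
        Nat.zero_le (s ^ 2), Nat.zero_le (s ^ 3), Nat.zero_le (s ^ 4), Nat.zero_le (s ^ 5),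
        Nat.zero_le (s ^ 6)]
    omega

end ctx3

end Cfsg.Agent.H579.SLRed
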