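/-
The subgroup `SL_n(K)` of `SL_n(F)` for a subfield `K` of `F`.
-/
import Cfsg.Agent.H579.SLPar

set_option autoImplicit false

namespace Cfsg.Agent.H579.SLRed

open Cfsg Subgroup Cfsg.Agent.Transfer.PNilpotentBasic Matrix
open Cfsg.Agent.H579.MaxPNilRed Cfsg.Agent.H579.SLStab Cfsg.Agent.H579.SLAut
open Cfsg.Agent.ClassicalGeometry.AutPSL.Root
open Cfsg.Agent.ClassicalGeometry.AutPSL.Auto

section sub

variable {n : ℕ} {K F : Type*} [Field K] [Fintype K] [Field F] [Fintype F] (φ : K →+* F)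

/-- The image of `SL_n(K)`. -/
def subSL (n : ℕ) : Subgroup (Matrix.SpecialLinearGroup (Fin n) F) :=
  (Matrix.SpecialLinearGroup.map φ : Matrix.SpecialLinearGroup (Fin n) K →* _).range

/-- The image of `K` consists of the roots of `X ^ |K| - X`. -/
theorem mem_range_iff (x : F) : x ∈ Set.range φ ↔ x ^ Fintype.card K = x := by
  classical
  constructor
  · rintro ⟨y, rfl⟩
    rw [← map_pow, FiniteField.pow_card]
  · intro hx
    have hq : 1 < Fintype.card K := Fintype.one_lt_card
    let P : Polynomial F := Polynomial.X ^ Fintype.card K - Polynomial.X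
    have hP : P ≠ 0 := FiniteField.X_pow_card_sub_X_ne_zero F hq
    have hdeg : P.natDegree = Fintype.card K := FiniteField.X_pow_card_sub_X_natDegree_eq F hq
    have h1 : Finset.univ.image φ ⊆ P.roots.toFinset := by
      intro y hy
      obtain ⟨z, -, rfl⟩ := Finset.mem_image.1 hy
      rw [Multiset.mem_toFinset, Polynomial.mem_roots hP, Polynomial.IsRoot.def]
      simp only [P, Polynomial.eval_sub, Polynomial.eval_pow, Polynomial.eval_X]
      rw [← map_pow, FiniteField.pow_card, sub_self]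
    have h2 : P.roots.toFinset.card ≤ Fintype.card K :=
      (Multiset.toFinset_card_le _).trans ((Polynomial.card_roots' P).trans_eq hdeg)
    have h3 : (Finset.univ.image φ).card = Fintype.card K := by
      rw [Finset.card_image_of_injective _ φ.injective, Finset.card_univ]
    have h4 := Finset.eq_of_subset_of_card_le h1 (by rw [h3]; exact h2)
    have h5 : x ∈ P.roots.toFinset := by
      rw [Multiset.mem_toFinset, Polynomial.mem_roots hP, Polynomial.IsRoot.def]
      simp only [P, Polynomial.eval_sub, Polynomial.eval_pow, Polynomial.eval_X]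
      rw [hx, sub_self]
    rw [← h4] at h5
    obtain ⟨z, -, hz⟩ := Finset.mem_image.1 h5
    exact ⟨z, hz⟩

theorem subSL_fld (σ : F ≃+* F) (g : Matrix.SpecialLinearGroup (Fin n) F) (hg : g ∈ subSL φ n) :
    fld σ g ∈ subSL φ n := by
  obtain ⟨A, rfl⟩ := hg
  have h1 : ∀ a : K, ∃ b : K, φ b = σ (φ a) := by
    intro a
    have h2 : σ (φ a) ∈ Set.range φ := by
      rw [mem_range_iff, ← map_pow, ← map_pow, FiniteField.pow_card]
    exact h2
  choose τ hτ using h1
  let B : Matrix (Fin n) (Fin n) K := fun i j => τ (A.1 i j)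
  have hB : (B.map φ) = (fld σ (Matrix.SpecialLinearGroup.map φ A)).1 := by
    ext i j
    change φ (τ (A.1 i j)) = σ (φ (A.1 i j))
    exact hτ _
  have hdet : B.det = 1 := by
    apply φ.injective
    rw [RingHom.map_det, map_one]
    change (B.map φ).det = 1
    rw [hB]
    exact (fld σ (Matrix.SpecialLinearGroup.map φ A)).2
  exact ⟨⟨B, hdet⟩, Subtype.ext hB⟩

theorem transvection_mem_subSL {i j : Fin n} (hij : i ≠ j) :
    Matrix.SpecialLinearGroup.transvection hij (1 : F) ∈ subSL φ n := by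
  refine ⟨Matrix.SpecialLinearGroup.transvection hij (1 : K), ?_⟩
  apply Subtype.ext
  ext k l
  change φ (((1 : Matrix (Fin n) (Fin n) K) + single i j (1 : K) : Matrix (Fin n) (Fin n) K) k l)
    = ((1 : Matrix (Fin n) (Fin n) F) + single i j (1 : F) : Matrix (Fin n) (Fin n) F) k l
  rw [Matrix.add_apply, Matrix.add_apply, map_add, one_apply, single_apply, one_apply,
    single_apply]
  split_ifs <;> simp

theorem subSL_irr (hn : 2 ≤ n) : Irr (subSL φ n) := by
  intro U hU
  by_cases hU1 : U = ⊥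
  · exact Or.inl hU1
  right
  obtain ⟨v, hv, hv0⟩ := Submodule.exists_mem_ne_zero_of_ne_bot hU1
  obtain ⟨j, hj⟩ := Function.ne_iff.1 hv0
  have hj' : v j ≠ 0 := hj
  have h1 : ∀ i, i ≠ j → (ev i : Fin n → F) ∈ U := by
    intro i hij
    have h2 := hU _ (transvection_mem_subSL φ hij) v hv
    rw [Cfsg.Agent.LieClassical.SLGen.transvection_smul, U.add_mem_iff_right hv, one_mul,
      U.smul_mem_iff hj'] at h2
    exact h2
  have hnt : Nontrivial (Fin n) := Fin.nontrivial_iff_two_le.2 hn
  obtain ⟨k, hk⟩ := exists_ne j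
  apply eq_top_of_ev
  intro i
  by_cases hij : i = j
  · subst hij
    have h2 := hU _ (transvection_mem_subSL φ hk.symm) _ (h1 k hk)
    rw [Cfsg.Agent.LieClassical.SLGen.transvection_smul, U.add_mem_iff_right (h1 k hk), one_mul,
      show (ev k : Fin n → F) k = 1 from Pi.single_eq_same _ _, one_smul] at h2
    exact h2
  · exact h1 i hij

theorem subSL_ne_top (hn : 2 ≤ n) (h : Fintype.card K < Fintype.card F) : subSL φ n ≠ ⊤ := by
  intro htop
  have hnt : Nontrivial (Fin n) := Fin.nontrivial_iff_two_le.2 hn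
  obtain ⟨i, j, hij⟩ := exists_pair_ne (Fin n)
  have hns : ¬ Function.Surjective φ := by
    intro hs
    exact absurd (Fintype.card_le_of_surjective φ hs) (not_le.2 h)
  apply hns
  intro c
  have h1 : Matrix.SpecialLinearGroup.transvection hij c ∈ subSL φ n := htop ▸ Subgroup.mem_top _
  obtain ⟨A, hA⟩ := h1
  refine ⟨A.1 i j, ?_⟩
  have h2 : φ (A.1 i j) = ((1 : Matrix (Fin n) (Fin n) F) + single i j c) i j :=
    congrFun (congrFun (congrArg Subtype.val hA) i) j
  rw [h2, Matrix.add_apply, one_apply, single_apply, if_neg hij, if_pos ⟨rfl, rfl⟩, zero_add]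

theorem subSL_not_hnc {p : ℕ} [hp : Fact p.Prime] (hn : 3 ≤ n)
    (h : p ∣ Nat.card (Matrix.SpecialLinearGroup (Fin n) K)) :
    ¬ HasNormalPComplement p (subSL φ n) := by
  intro hh
  apply sl_not_hnc hn h
  refine hnc_of_injective ((Matrix.SpecialLinearGroup.map φ :
    Matrix.SpecialLinearGroup (Fin n) K →* Matrix.SpecialLinearGroup (Fin n) F).codRestrict
    (subSL φ n) fun A => ⟨A, rfl⟩) ?_ hh
  intro A B hAB
  have h1 : Matrix.SpecialLinearGroup.map φ A = Matrix.SpecialLinearGroup.map φ B :=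
    congrArg Subtype.val hAB
  apply Subtype.ext
  ext i j
  exact φ.injective (congrFun (congrFun (congrArg Subtype.val h1) i) j)

end sub

section ctx4

variable {Q : Type*} [Group Q] [Finite Q] {p : ℕ} [hp : Fact p.Prime]
variable {n : ℕ} {F : Type*} [Field F] [Fintype F] {N : Subgroup Q} {r : ℕ}

/-- Subfields. -/
theorem Ctx.not_dvd_subfield (C : Ctx p Q N r n F) (e : Matrix.SpecialLinearGroup (Fin n) F ≃* N)
    (hn : 3 ≤ n) (hp2 : p ≠ 2) {ℓ d g : ℕ} [hℓ : Fact ℓ.Prime] [CharP F ℓ]
    (hF : Fintype.card F = ℓ ^ d) (hgd : g ∣ d) (hg0 : 0 < g) (hgd' : g < d) :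
    ¬ p ∣ (ℓ ^ g) ^ (n - 1) - 1 := by
  classical
  intro h
  let K := GaloisField ℓ g
  have hKfin : Fintype K := Fintype.ofFinite K
  have hK : Fintype.card K = ℓ ^ g := by
    rw [← Nat.card_eq_fintype_card]
    exact GaloisField.card ℓ g hg0.ne'
  let _ : Algebra (ZMod ℓ) F := ZMod.algebra F ℓ
  have hfr : Module.finrank (ZMod ℓ) F = d := by
    have h1 := FiniteField.pow_finrank_eq_card ℓ F
    rw [hF] at h1
    exact Nat.pow_right_injective hℓ.out.two_le h1
  obtain ⟨φ⟩ : Nonempty (K →ₐ[ZMod ℓ] F) := by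
    apply FiniteField.nonempty_algHom_of_finrank_dvd
    rw [hfr, GaloisField.finrank ℓ hg0.ne']
    exact hgd
  have hlt : Fintype.card K < Fintype.card F := by
    rw [hK, hF]
    exact Nat.pow_lt_pow_right hℓ.out.one_lt hgd'
  -- `p` does not divide `|K| - 1`
  have hnd : ¬ p ∣ Fintype.card K - 1 := by
    intro h1
    apply C.not_dvd e hp2
    rw [hK] at h1
    rw [hF]
    obtain ⟨c, rfl⟩ := hgd
    rw [pow_mul]
    exact h1.trans (by simpa using Nat.sub_dvd_pow_sub_pow (ℓ ^ g) 1 c)
  refine subSL_not_hnc (n := n) (φ : K →+* F) hn (p := p) ?_ ?_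
  · exact dvd_card_SL (i := n - 1) (by omega) (by omega) (by rw [hK]; exact h) hnd
  · exact C.irr_hnc e (subSL (φ : K →+* F) n) (fun σ y hy => subSL_fld _ σ y hy)
      (subSL_irr _ C.two) (subSL_ne_top _ C.two hlt)

end ctx4

end Cfsg.Agent.H579.SLRed
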