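/-
Conclusion for the socle `PSL_n(F)`.
-/
import Cfsg.Agent.H579.SLSubfield
import Cfsg.Agent.H579.SLRefl
import Cfsg.Agent.Lib.FieldAutCard

set_option autoImplicit false

namespace Cfsg.Agent.H579.SLRed

open Cfsg Subgroup Cfsg.Agent.Transfer.PNilpotentBasic Matrix
open Cfsg.Agent.H579.MaxPNilRed Cfsg.Agent.H579.SLStab Cfsg.Agent.H579.SLAut
open Cfsg.Agent.ClassicalGeometry.AutPSL.Root
open Cfsg.Agent.ClassicalGeometry.AutPSL.Auto

section arith

theorem prime_of_geom {q n r : ℕ} (hq : 2 ≤ q) (hn : 2 ≤ n) (hr : r.Prime)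
    (h : q ^ n - 1 = r * (q - 1)) : n.Prime := by
  by_contra hnp
  obtain ⟨a, ⟨b, rfl⟩, ha1, ha2⟩ := Nat.exists_dvd_of_not_prime2 hn hnp
  have hb2 : 2 ≤ b := by
    by_contra hb
    have : b = 0 ∨ b = 1 := by omega
    rcases this with rfl | rfl
    · omega
    · omega
  obtain ⟨s, hs⟩ : (q - 1) ∣ q ^ a - 1 := by simpa using Nat.sub_dvd_pow_sub_pow q 1 a
  obtain ⟨c, hc⟩ : (q ^ a - 1) ∣ q ^ (a * b) - 1 := by
    rw [pow_mul]
    simpa using Nat.sub_dvd_pow_sub_pow (q ^ a) 1 b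
  have h1 : r = s * c := by
    have h2 : (q - 1) * r = (q - 1) * (s * c) := by
      rw [mul_comm, ← h, hc, hs, mul_assoc]
    exact Nat.eq_of_mul_eq_mul_left (by omega) h2
  have h3 : q ^ 1 < q ^ a := Nat.pow_lt_pow_right (by omega) (by omega)
  have h4 : q ^ a < q ^ (a * b) := Nat.pow_lt_pow_right (by omega) (by nlinarith)
  rw [pow_one] at h3
  have hs1 : s ≠ 1 := by
    rintro rfl
    omega
  have hc1 : c ≠ 1 := by
    rintro rfl
    omega
  rw [h1] at hr
  rcases (Nat.prime_mul_iff.1 hr) with ⟨-, h5⟩ | ⟨-, h5⟩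
  · exact hc1 h5
  · exact hs1 h5

theorem coprime_of_geom {q n r : ℕ} (hq : 2 ≤ q) (hn : n.Prime) (hr : r.Prime)
    (h : q ^ n - 1 = r * (q - 1)) : Nat.Coprime n (q - 1) := by
  rw [Nat.Prime.coprime_iff_not_dvd hn]
  intro hd
  have h1 : r = ∑ i ∈ Finset.range n, q ^ i := by
    rw [Nat.geomSum_eq hq, h, Nat.mul_div_cancel _ (by omega)]
  have h2 : n ∣ r := by
    rw [← (ZMod.natCast_eq_zero_iff r n), h1, Nat.cast_sum]
    have h3 : (q : ZMod n) = 1 := by
      have h4 : ((q - 1 : ℕ) : ZMod n) = 0 := (ZMod.natCast_eq_zero_iff _ _).2 hd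
      rw [Nat.cast_sub (by omega), Nat.cast_one, sub_eq_zero] at h4
      exact h4
    simp [h3]
  have h3 : n = r := (Nat.prime_dvd_prime_iff_eq hn hr).1 h2
  have h4 : n < r := by
    conv_lhs => rw [← Finset.card_range n, Finset.card_eq_sum_ones]
    rw [h1]
    apply Finset.sum_lt_sum
    · intro i _
      exact Nat.one_le_pow _ _ (by omega)
    · refine ⟨1, Finset.mem_range.2 hn.one_lt, ?_⟩
      rw [pow_one]
      omega
  omega

end arith

section ctx5

variable {Q : Type*} [Group Q] [Finite Q] {p : ℕ} [hp : Fact p.Prime]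
variable {n : ℕ} {F : Type*} [Field F] [Fintype F] {N : Subgroup Q} {r : ℕ}

omit [Finite Q] in
/-- The possibilities for `p`. -/
theorem Ctx.cases (C : Ctx p Q N r n F) (e : Matrix.SpecialLinearGroup (Fin n) F ≃* N)
    (h0 : ¬ p ∣ Fintype.card F - 1) :
    p ∣ Fintype.card F ∨ ∃ j, 2 ≤ j ∧ j ≤ n - 1 ∧ p ∣ Fintype.card F ^ j - 1 := by
  have hne : Nonempty (Fin n) := ⟨⟨0, by have := C.two; omega⟩⟩
  have h1 : p ∣ Nat.card (Matrix.SpecialLinearGroup (Fin n) F) := by
    rw [Nat.card_congr e.toEquiv]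
    exact C.red.dvd
  have h2 : p ∣ Nat.card (GL (Fin n) F) := by
    rw [← Cfsg.Agent.ClassicalGeometry.PSL2Basic.card_SL_mul]
    exact Dvd.dvd.mul_right h1 _
  rw [Matrix.card_GL_field, hp.out.prime.dvd_finsetProd_iff] at h2
  obtain ⟨i, -, hi⟩ := h2
  have hi' : p ∣ Fintype.card F ^ n - Fintype.card F ^ (i : ℕ) := hi
  have h3 : Fintype.card F ^ n - Fintype.card F ^ (i : ℕ)
      = Fintype.card F ^ (i : ℕ) * (Fintype.card F ^ (n - i) - 1) := by
    rw [Nat.mul_sub, mul_one, ← pow_add, Nat.add_sub_cancel' i.2.le]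
  rw [h3] at hi'
  rcases hp.out.dvd_mul.1 hi' with h4 | h4
  · exact Or.inl (hp.out.dvd_of_dvd_pow h4)
  · right
    have hin : 1 ≤ n - i := by have := i.2; omega
    refine ⟨n - i, ?_, ?_, h4⟩
    · by_contra h5
      have h6 : n - i = 1 := by omega
      rw [h6, pow_one] at h4
      exact h0 h4
    · by_contra h5
      have h6 : n - i = n := by omega
      rw [h6, C.eq] at h4
      rcases hp.out.dvd_mul.1 h4 with h7 | h7
      · exact C.red.ne ((Nat.prime_dvd_prime_iff_eq hp.out C.red.prime).1 h7).symm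
      · exact h0 h7

/-- `|F|` is even. -/
theorem Ctx.not_odd (C : Ctx p Q N r n F) (e : Matrix.SpecialLinearGroup (Fin n) F ≃* N)
    (hn3 : 3 ≤ n) (hp2 : p ≠ 2) (h2 : (2 : F) ≠ 0)
    (h : p ∣ Fintype.card F ∨ (p ∣ Fintype.card F ^ (n - 1) - 1 ∧
      ∀ j, 1 ≤ j → j ≤ n - 2 → ¬ p ∣ Fintype.card F ^ j - 1)) : False := by
  have hodd : Odd n := by
    rcases C.odd with h3 | h3
    · omega
    · exact h3
  obtain ⟨m, hm⟩ := hodd
  have e0 : Unit ⊕ (Fin m ⊕ Fin m) ≃ Fin n :=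
    Fintype.equivOfCardEq (by simp; omega)
  have h3 : p ∣ Nat.card {v : Fin n → F // bil e0 v v = 1} := by
    rw [card_norm_one e0 h2]
    have h4 : Fintype.card F ^ m * Fintype.card F ^ m + Fintype.card F ^ m
        = Fintype.card F ^ m * (Fintype.card F ^ m + 1) := by ring
    rw [h4]
    rcases h with h5 | ⟨h5, h6⟩
    · exact Dvd.dvd.mul_right (h5.trans (dvd_pow_self _ (by omega))) _
    · apply Dvd.dvd.mul_left
      have h7 : n - 1 = m + m := by omega
      rw [h7, pow_add] at h5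
      have h8 : 1 ≤ Fintype.card F ^ m := Nat.one_le_pow _ _ Fintype.card_pos
      have h9 : Fintype.card F ^ m * Fintype.card F ^ m - 1
          = (Fintype.card F ^ m + 1) * (Fintype.card F ^ m - 1) := by
        obtain ⟨s, hs⟩ : ∃ s, Fintype.card F ^ m = s + 1 := ⟨_, (Nat.sub_add_cancel h8).symm⟩
        rw [hs]
        have : (s + 1) * (s + 1) = (s + 1 + 1) * s + 1 := by ring
        rw [this, Nat.add_sub_cancel, Nat.add_sub_cancel]
      rw [h9] at h5
      exact (hp.out.dvd_mul.1 h5).resolve_right (h6 m (by omega) (by omega))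
  have hodd' : Odd n := ⟨m, hm⟩
  have h4 := orbit_dvd e0 hodd' h2 hp2 h3
  exact not_hnc_of_closure hp2 (gens e0 hodd') (by
    rintro _ ⟨v, hv, rfl⟩
    exact rf_sq e0 hodd' v hv) h4
    (C.irr_hnc e (refl e0 hodd') (fun σ y hy => refl_fld e0 hodd' σ y hy)
      (refl_irr e0 hodd' h2) (refl_ne_top e0 hodd' hn3))

/-- **The conclusion for `SL_n(F)`.** -/
theorem Ctx.main (C : Ctx p Q N r n F) (e : Matrix.SpecialLinearGroup (Fin n) F ≃* N)
    (hp2 : p ≠ 2) (hnp : n.Prime) :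
    3 ≤ n ∧ ∃ d : ℕ, Odd d ∧ Fintype.card F = 2 ^ d ∧ N.index ∣ d ∧
      ((2 ^ (d * n) - 1) / (2 ^ d - 1)).Prime ∧ p ∣ 2 ^ (d * (n - 1)) - 1 ∧
      ∀ j : ℕ, 0 < j → j < d * (n - 1) → ¬ p ∣ 2 ^ j - 1 := by
  have hq2 : 2 ≤ Fintype.card F := Fintype.one_lt_card
  have h0 := C.not_dvd e hp2
  obtain ⟨ℓ, hℓ⟩ := CharP.exists F
  have hℓp : Fact ℓ.Prime := ⟨CharP.char_is_prime F ℓ⟩
  obtain ⟨k, -, hk⟩ := FiniteField.card F ℓ
  have hcases := C.cases e h0
  -- `n ≠ 2`
  have hn3 : 3 ≤ n := by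
    by_contra hlt
    have hn2 : n = 2 := by have := hnp.two_le; omega
    subst hn2
    rcases hcases with h1 | ⟨j, hj1, hj2, -⟩
    · have h2 : Fintype.card F ^ 2 - 1 = (Fintype.card F + 1) * (Fintype.card F - 1) := by
        obtain ⟨s, hs⟩ : ∃ s, Fintype.card F = s + 1 := ⟨Fintype.card F - 1, by omega⟩
        rw [hs, Nat.add_sub_cancel]
        have : (s + 1) ^ 2 = (s + 1 + 1) * s + 1 := by ring
        rw [this, Nat.add_sub_cancel]
      have h3 : r = Fintype.card F + 1 := by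
        have h4 := C.eq
        rw [h2] at h4
        exact (Nat.eq_of_mul_eq_mul_right (by omega) h4).symm
      have h4 : Odd (Fintype.card F) := by
        rw [hk] at h1 ⊢
        have h5 : p = ℓ := (Nat.prime_dvd_prime_iff_eq hp.out hℓp.out).1
          (hp.out.dvd_of_dvd_pow h1)
        rw [← h5]
        exact (hp.out.odd_of_ne_two hp2).pow
      have h5 : Even r := by
        rw [h3]
        exact h4.add_odd odd_one
      have h6 := (C.red.prime.even_iff).1 h5
      omega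
    · omega
  -- primitivity with respect to `|F|`
  have hprim : (p ∣ Fintype.card F ∧ n = 3) ∨ (p ∣ Fintype.card F ^ (n - 1) - 1 ∧
      ∀ j, 1 ≤ j → j ≤ n - 2 → ¬ p ∣ Fintype.card F ^ j - 1) := by
    by_cases hn5 : 5 ≤ n
    · obtain ⟨m, rfl⟩ : ∃ m, n = 2 + m := ⟨n - 2, by omega⟩
      have hm := C.not_dvd_levi e (by omega)
      rcases hcases with h1 | ⟨j, hj1, hj2, hj3⟩
      · exact absurd (char_dvd_card_SL (by omega) h1) hm
      · right
        have h1 : ∀ i, 1 ≤ i → i ≤ 2 + m - 2 → ¬ p ∣ Fintype.card F ^ i - 1 := by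
          intro i hi1 hi2 hi3
          exact hm (dvd_card_SL hi1 (by omega) hi3 h0)
        refine ⟨?_, h1⟩
        have h2 : j = 2 + m - 1 := by
          by_contra hne
          exact h1 j (by omega) (by omega) hj3
        rw [← h2]
        exact hj3
    · have hn : n = 3 := by
        have h1 : n = 3 ∨ n = 4 := by omega
        rcases h1 with h1 | h1
        · exact h1
        · subst h1
          exact absurd hnp (by decide)
      subst hn
      rcases hcases with h1 | ⟨j, hj1, hj2, hj3⟩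
      · exact Or.inl ⟨h1, rfl⟩
      · right
        have h2 : j = 2 := by omega
        subst h2
        refine ⟨hj3, fun i hi1 hi2 hi3 => ?_⟩
        have h4 : i = 1 := by omega
        subst h4
        rw [pow_one] at hi3
        exact h0 hi3
  -- the characteristic is `2`
  have hℓ2 : ℓ = 2 := by
    by_contra hne
    have h2 : (2 : F) ≠ 0 := by
      intro h
      have h3 : ((2 : ℕ) : F) = 0 := by exact_mod_cast h
      rw [CharP.cast_eq_zero_iff F ℓ, Nat.prime_dvd_prime_iff_eq hℓp.out Nat.prime_two] at h3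
      exact hne h3
    refine C.not_odd e hn3 hp2 h2 ?_
    rcases hprim with ⟨h3, -⟩ | h3
    · exact Or.inl h3
    · exact Or.inr h3
  subst hℓ2
  set d : ℕ := (k : ℕ) with hd
  have hd0 : 0 < d := k.pos
  have hprim' := hprim.resolve_left (by
    rintro ⟨h1, -⟩
    rw [hk] at h1
    exact hp2 ((Nat.prime_dvd_prime_iff_eq hp.out Nat.prime_two).1 (hp.out.dvd_of_dvd_pow h1)))
  obtain ⟨hpr1, hpr2⟩ := hprim'
  have hnodd : Odd n := hnp.odd_of_ne_two (by omega)
  have hreq : r * (2 ^ d - 1) = 2 ^ (d * n) - 1 := by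
    have := C.eq
    rw [hk, ← pow_mul] at this
    exact this.symm
  have h2d : 2 ≤ 2 ^ d := by
    calc 2 = 2 ^ 1 := rfl
      _ ≤ 2 ^ d := Nat.pow_le_pow_right (by omega) hd0
  refine ⟨hn3, d, ?_, hk, ?_, ?_, ?_, ?_⟩
  · -- `d` is odd
    rw [← Nat.not_even_iff_odd]
    rintro ⟨c, hc⟩
    have hc0 : 0 < c := by omega
    set s := 2 ^ c with hs
    have hs2 : 2 ≤ s := by
      calc 2 = 2 ^ 1 := rfl
        _ ≤ 2 ^ c := Nat.pow_le_pow_right (by omega) hc0
    have hds : 2 ^ d = s * s := by rw [hc, pow_add]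
    have h1 : 2 ^ (d * n) = s ^ n * s ^ n := by
      rw [pow_mul, hds, mul_pow]
    rw [h1, hds] at hreq
    obtain ⟨A, hA⟩ : (s - 1) ∣ s ^ n - 1 := by simpa using Nat.sub_dvd_pow_sub_pow s 1 n
    obtain ⟨B, hB⟩ : (s + 1) ∣ s ^ n + 1 := by simpa using hnodd.nat_add_dvd_pow_add_pow s 1
    have hsn : s ^ 1 < s ^ n := Nat.pow_lt_pow_right (by omega) (by omega)
    rw [pow_one] at hsn
    have hA1 : A ≠ 1 := by
      rintro rfl
      omega
    have hB1 : B ≠ 1 := by
      rintro rfl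
      omega
    have h2 : r = A * B := by
      obtain ⟨t, ht⟩ : ∃ t, s = t + 1 := ⟨s - 1, by omega⟩
      have h3 : s * s - 1 = (s - 1) * (s + 1) := by
        rw [ht, Nat.add_sub_cancel]
        have : (t + 1) * (t + 1) = t * (t + 1 + 1) + 1 := by ring
        rw [this, Nat.add_sub_cancel]
      have h4 : s ^ n * s ^ n - 1 = (s ^ n - 1) * (s ^ n + 1) := by
        obtain ⟨u, hu⟩ : ∃ u, s ^ n = u + 1 := ⟨s ^ n - 1, by omega⟩
        rw [hu, Nat.add_sub_cancel]
        have : (u + 1) * (u + 1) = u * (u + 1 + 1) + 1 := by ring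
        rw [this, Nat.add_sub_cancel]
      rw [h3, h4, hA, hB] at hreq
      have h5 : ((s - 1) * (s + 1)) * r = ((s - 1) * (s + 1)) * (A * B) := by
        linear_combination hreq
      exact Nat.eq_of_mul_eq_mul_left (Nat.mul_pos (by omega) (by omega)) h5
    have hr := C.red.prime
    rw [h2] at hr
    rcases (Nat.prime_mul_iff.1 hr) with ⟨-, h5⟩ | ⟨-, h5⟩
    · exact hB1 h5
    · exact hA1 h5
  · -- the index
    have h1 := C.index_dvd e
    rwa [Cfsg.Agent.Lib.FieldAutCard.card_ringAut (p := 2) (f := d) hd0 hk] at h1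
  · rw [← hreq, Nat.mul_div_cancel _ (by omega)]
    exact C.red.prime
  · rw [hk, ← pow_mul] at hpr1
    exact hpr1
  · -- primitivity
    intro j hj0 hj hpj
    have hodp : Nat.Coprime 2 p := (Nat.coprime_primes Nat.prime_two hp.out).2 (Ne.symm hp2)
    -- the order of `2` modulo `p`
    set u : (ZMod p)ˣ := ZMod.unitOfCoprime 2 hodp with hu
    have hud : ∀ i : ℕ, p ∣ 2 ^ i - 1 ↔ orderOf u ∣ i := by
      intro i
      rw [orderOf_dvd_iff_pow_eq_one, ← Units.val_inj, Units.val_pow_eq_pow_val, hu,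
        ZMod.coe_unitOfCoprime, Units.val_one, ← Nat.cast_pow, ← Nat.cast_one (R := ZMod p),
        ZMod.natCast_eq_natCast_iff]
      constructor
      · intro h
        exact ((Nat.modEq_iff_dvd' (Nat.one_le_pow _ _ (by omega))).2 h).symm
      · intro h
        exact (Nat.modEq_iff_dvd' (Nat.one_le_pow _ _ (by omega))).1 h.symm
    set t := orderOf u with ht
    have ht0 : 0 < t := orderOf_pos u
    have htj : t ∣ j := (hud j).1 hpj
    have hq : ∀ i : ℕ, p ∣ Fintype.card F ^ i - 1 ↔ t ∣ d * i := by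
      intro i
      rw [hk, ← pow_mul, hud]
    set g := Nat.gcd t d with hg
    have hg0 : 0 < g := Nat.gcd_pos_of_pos_left _ ht0
    obtain ⟨t', ht'⟩ : g ∣ t := Nat.gcd_dvd_left t d
    obtain ⟨d', hd'⟩ : g ∣ d := Nat.gcd_dvd_right t d
    have hco : Nat.Coprime t' d' := by
      have := Nat.coprime_div_gcd_div_gcd (m := t) (n := d) hg0
      have h1 : t / Nat.gcd t d = t' := by
        rw [← hg]
        exact Nat.div_eq_of_eq_mul_right hg0 ht'
      have h2 : d / Nat.gcd t d = d' := by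
        rw [← hg]
        exact Nat.div_eq_of_eq_mul_right hg0 hd'
      rwa [h1, h2] at this
    have hq' : ∀ i : ℕ, p ∣ Fintype.card F ^ i - 1 ↔ t' ∣ i := by
      intro i
      rw [hq, ht', hd', mul_assoc, Nat.mul_dvd_mul_iff_left hg0]
      constructor
      · intro h
        exact hco.dvd_of_dvd_mul_left h
      · intro h
        exact Dvd.dvd.mul_left h d'
    have ht'n : t' = n - 1 := by
      have h1 : t' ∣ n - 1 := (hq' _).1 hpr1
      have h2 : t' ≤ n - 1 := Nat.le_of_dvd (by omega) h1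
      by_contra hne
      have h3 : 1 ≤ t' := by
        rcases Nat.eq_zero_or_pos t' with h4 | h4
        · rw [h4, mul_zero] at ht'
          omega
        · exact h4
      exact hpr2 t' h3 (by omega) ((hq' _).2 dvd_rfl)
    -- `g < d`
    have hgd : g < d := by
      have h1 : t ≤ j := Nat.le_of_dvd hj0 htj
      have h2 : g * (n - 1) < d * (n - 1) := by
        rw [← ht'n, ← ht']
        rw [← ht'n] at hj
        omega
      exact lt_of_mul_lt_mul_right h2 (Nat.zero_le _)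
    refine C.not_dvd_subfield e hn3 hp2 hk (Nat.gcd_dvd_right t d) hg0 hgd ?_
    rw [← pow_mul, hud]
    change t ∣ g * (n - 1)
    rw [← ht'n, ← ht']

end ctx5

/-- **The conclusion for the socle `PSL_n(F)`.** -/
theorem psl_case {Q : Type*} [Group Q] [Finite Q] {p : ℕ} [hp : Fact p.Prime] (hp2 : p ≠ 2)
    {N : Subgroup Q} {r : ℕ} (R : Red p Q N r) {n : ℕ} (hn : 2 ≤ n) {F : Type} [Field F]
    [Fintype F] (e : N ≃* Matrix.ProjectiveSpecialLinearGroup (Fin n) F)
    (heq : Fintype.card F ^ n - 1 = r * (Fintype.card F - 1)) :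
    ∃ (n d : ℕ), n.Prime ∧ 3 ≤ n ∧ Odd d ∧ Nat.Coprime n (2 ^ d - 1) ∧
      ((2 ^ (d * n) - 1) / (2 ^ d - 1)).Prime ∧
      p ∣ 2 ^ (d * (n - 1)) - 1 ∧ (∀ j : ℕ, 0 < j → j < d * (n - 1) → ¬ p ∣ 2 ^ j - 1) ∧
      ∃ (F : Type) (_ : Field F) (_ : Fintype F), Fintype.card F = 2 ^ d ∧
        ∃ N : Subgroup Q, N.Normal ∧ N.index ∣ d ∧
          Subgroup.centralizer (N : Set Q) = ⊥ ∧
          Nonempty (↥N ≃* Matrix.ProjectiveSpecialLinearGroup (Fin n) F) := by
  have hq2 : 2 ≤ Fintype.card F := Fintype.one_lt_card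
  have hnp : n.Prime := prime_of_geom hq2 hn R.prime heq
  have hcop := coprime_of_geom hq2 hnp R.prime heq
  have C : Ctx p Q N r n F := ⟨R, hn, hnp.eq_two_or_odd', hcop, heq⟩
  obtain ⟨hn3, d, h1, h2, h3, h4, h5, h6⟩ :=
    C.main ((prEquiv hn hcop).trans e.symm) hp2 hnp
  rw [h2] at hcop
  exact ⟨n, d, hnp, hn3, h1, hcop, h4, h5, h6, F, inferInstance, inferInstance, h2, N, R.normal,
    h3, R.cent, ⟨e⟩⟩

end Cfsg.Agent.H579.SLRed
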