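/-
Groups whose maximal subgroups are `p`-nilpotent or of prime index: the conclusion.
-/
import Cfsg.Agent.H579.AltCase
import Cfsg.Agent.H579.RedMod
import Cfsg.Agent.H579.SLFinal
import Cfsg.Agent.H579.MathieuTab
import Cfsg.Agent.H579.ElevenRed
import Cfsg.Agent.H579.InnerRed
import Cfsg.Agent.H410.PrimeIndex
import Cfsg.Agent.KFacts.M23.OutOne
import Cfsg.Agent.Cit.ElevenFact

set_option autoImplicit false

namespace Cfsg.Agent.H579.MaxPNilFinal

open Cfsg Subgroup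
open Cfsg.Agent.H579.MaxPNilRed

theorem prime_dvd_ten {p : ℕ} (hp : p.Prime) (hp2 : p ≠ 2) (h : 11 ≡ 1 [MOD p]) : p = 5 := by
  have h1 : p ∣ 10 := by
    have := (Nat.modEq_iff_dvd' (by norm_num : 1 ≤ 11)).1 h.symm
    simpa using this
  have h2 : p ∣ 2 * 5 := by simpa using h1
  rcases (Nat.Prime.dvd_mul hp).1 h2 with h3 | h3
  · exact absurd ((Nat.prime_dvd_prime_iff_eq hp (by norm_num)).1 h3) hp2
  · exact (Nat.prime_dvd_prime_iff_eq hp (by norm_num)).1 h3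

theorem prime_dvd_twentytwo {p : ℕ} (hp : p.Prime) (hp2 : p ≠ 2) (h : 23 ≡ 1 [MOD p]) : p = 11 := by
  have h1 : p ∣ 22 := by
    have := (Nat.modEq_iff_dvd' (by norm_num : 1 ≤ 23)).1 h.symm
    simpa using this
  have h2 : p ∣ 2 * 11 := by simpa using h1
  rcases (Nat.Prime.dvd_mul hp).1 h2 with h3 | h3
  · exact absurd ((Nat.prime_dvd_prime_iff_eq hp (by norm_num)).1 h3) hp2
  · exact (Nat.prime_dvd_prime_iff_eq hp (by norm_num)).1 h3

/-- The reduced situation with a known socle. -/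
theorem main {Q : Type*} [Group Q] [Finite Q] {p : ℕ} [hp : Fact p.Prime] (hp2 : p ≠ 2)
    {N : Subgroup Q} {r : ℕ} (R : Red p Q N r) (hK : IsKnownSimple' N) :
    (p = 5 ∧ ∃ (F : Type) (_ : Field F) (_ : Fintype F), Fintype.card F = 11 ∧
        Nonempty (Q ≃* Matrix.ProjectiveSpecialLinearGroup (Fin 2) F)) ∨
    (∃ (n d : ℕ), n.Prime ∧ 3 ≤ n ∧ Odd d ∧ Nat.Coprime n (2 ^ d - 1) ∧
      ((2 ^ (d * n) - 1) / (2 ^ d - 1)).Prime ∧
      p ∣ 2 ^ (d * (n - 1)) - 1 ∧ (∀ j : ℕ, 0 < j → j < d * (n - 1) → ¬ p ∣ 2 ^ j - 1) ∧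
      ∃ (F : Type) (_ : Field F) (_ : Fintype F), Fintype.card F = 2 ^ d ∧
        ∃ N : Subgroup Q, N.Normal ∧ N.index ∣ d ∧
          Subgroup.centralizer (N : Set Q) = ⊥ ∧
          Nonempty (↥N ≃* Matrix.ProjectiveSpecialLinearGroup (Fin n) F)) := by
  have hN := R.normal
  have hsimple := R.simple
  obtain ⟨M, hM, hNM, hidx⟩ := R.ex
  have hsup : N ⊔ M = ⊤ := by
    rw [sup_comm]
    exact hM.2 _ (left_lt_sup.2 hNM)
  have hrel : (M.subgroupOf N).index = r := by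
    have h1 := index_eq_relIndex hsup
    rw [hidx] at h1
    exact h1.symm
  have hna : ¬ IsMulCommutative N := fun h => R.notComm (fun a b => isMulCommutative_iff.1 h a b)
  rcases Cfsg.Agent.H410.PrimeIndex.prime_index hK hna _ r R.prime hrel with
    ⟨-, ⟨e⟩⟩ | ⟨n, F, _, _, hn, heq, ⟨e⟩⟩ | ⟨h11, he | h⟩ | ⟨h23, h⟩
  · exact (AltCase.alt_case hp2 R e).elim
  · exact Or.inr (SLRed.psl_case hp2 R hn e heq)
  · left
    subst h11
    obtain ⟨e⟩ := he
    obtain rfl := prime_dvd_ten hp.out hp2 (RedMod.modEq hp2 R)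
    have htop := ElevenRed.eleven_top R e
    refine ⟨rfl, ZMod 11, inferInstance, inferInstance, ZMod.card 11, ⟨?_⟩⟩
    exact (Subgroup.topEquiv.symm.trans (MulEquiv.subgroupCongr htop.symm)).trans e
  · exfalso
    subst h11
    obtain rfl := prime_dvd_ten hp.out hp2 (RedMod.modEq hp2 R)
    have htop : N = ⊤ := InnerRed.top_of_inner hN R.cent (by
      intro φ
      obtain ⟨g, hg⟩ : ∃ g : N, (φ : MulAut N) = MulAut.conj g := by
        by_contra hno
        push Not at hno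
        exact Cfsg.Agent.Cit.ElevenFact.outer h (a := φ) hno
      refine ⟨g, fun x => ?_⟩
      rw [hg, MulAut.conj_apply])
    obtain ⟨e⟩ := h
    exact MathieuTab.m11_false (InnerRed.coatoms_of_top R htop e)
  · exfalso
    subst h23
    obtain rfl := prime_dvd_twentytwo hp.out hp2 (RedMod.modEq hp2 R)
    have htop : N = ⊤ := InnerRed.top_of_inner hN R.cent
      (fun φ => Cfsg.Agent.KFacts.M23.OutOne.exists_conj' h φ)
    obtain ⟨e⟩ := h
    exact MathieuTab.m23_false (InnerRed.coatoms_of_top R htop e)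

/-- The theorem, given the classification. -/
theorem main' {G : Type*} [Group G] [Finite G]
    (p : ℕ) [Fact p.Prime] (hp : p ≠ 2) (hG : ¬ Cfsg.IsPSolvable p G)
    (hmax : ∀ M : Subgroup G, IsCoatom M → (∃ K : Subgroup ↥M, K.Normal ∧ ¬ p ∣ Nat.card K ∧ ∃ k : ℕ, K.index = p ^ k) ∨ (M.index).Prime)
    (S : Subgroup G) [S.Normal] (hS : Cfsg.IsPSolvable p S) (hSmax : ∀ N : Subgroup G, N.Normal → Cfsg.IsPSolvable p N → N ≤ S)
    (hK : ∀ N : Subgroup (G ⧸ S), IsSimpleGroup N → IsKnownSimple' N) :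
    (p = 5 ∧ ∃ (F : Type) (_ : Field F) (_ : Fintype F), Fintype.card F = 11 ∧
        Nonempty (G ⧸ S ≃* Matrix.ProjectiveSpecialLinearGroup (Fin 2) F)) ∨
    (∃ (n d : ℕ), n.Prime ∧ 3 ≤ n ∧ Odd d ∧ Nat.Coprime n (2 ^ d - 1) ∧ ((2 ^ (d * n) - 1) / (2 ^ d - 1)).Prime ∧
        p ∣ 2 ^ (d * (n - 1)) - 1 ∧ (∀ j : ℕ, 0 < j → j < d * (n - 1) → ¬ p ∣ 2 ^ j - 1) ∧
        ∃ (F : Type) (_ : Field F) (_ : Fintype F), Fintype.card F = 2 ^ d ∧
          ∃ N : Subgroup (G ⧸ S), N.Normal ∧ N.index ∣ d ∧ Subgroup.centralizer (N : Set (G ⧸ S)) = ⊥ ∧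
            Nonempty (↥N ≃* Matrix.ProjectiveSpecialLinearGroup (Fin n) F)) := by
  have hnt : Nontrivial (G ⧸ S) := by
    rw [QuotientGroup.nontrivial_iff]
    rintro rfl
    apply hG
    exact (Cfsg.Agent.PLocal.PSolvable.isPSolvable_congr (Subgroup.topEquiv (G := G))).1 hS
  obtain ⟨N, r, R⟩ := exists_red hp (hyp_quotient hmax S) (rad_quotient S hS hSmax)
  exact main hp R (hK N R.simple)

end Cfsg.Agent.H579.MaxPNilFinal
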