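import Cfsg.Agent.H579.EightMain

/-!
# `Meet p (POmega F Q)` in cross characteristic, all odd `p`, `|F| ≥ 4` (helper579, task 1594 for S2484)

`meet3_POmega_plus_cross` (`m ≥ 5`), `meet3_POmega_minus_cross` (`m ≥ 3`); the odd dimensional case is
`Mpo.meet3_POmega_odd_cross` in `MpoMainT`.
-/

set_option autoImplicit false
set_option linter.unusedSectionVars false
set_option linter.style.haveILetI false

namespace Cfsg.Agent.H579.Eight

open Cfsg QuadraticMap Cfsg.Agent.H903.SylMeet Cfsg.Agent.H903.SylSemi Cfsg.Agent.H903.SylReg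
open Cfsg.Agent.LieClassical.OrthCore Cfsg.Agent.LieClassical.OrthTrans
open Cfsg.Agent.LieClassical.OrthCenter Cfsg.Agent.LieClassical.QuadForms
open Cfsg.Agent.AutOrth.Main
open Cfsg.Agent.H152 Cfsg.Agent.H152.MeetOmega Cfsg.Agent.H579.OmElt Cfsg.Agent.H579.Mpo

section perm

variable {ι : Type} [Fintype ι] [DecidableEq ι] {F : Type*} [Field F] [Finite F] {Q : QuadraticForm F (ι → F)}

/-- an element of order three of `Ω` from a permutation of the coordinates -/
theorem exists_three (hG : Good Q) (σ : Equiv.Perm ι) (hσ3 : σ ^ 3 = 1) (hσ1 : σ ≠ 1) (hσQ : ∀ v : ι → F, Q (v ∘ σ) = Q v)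
    {x : ι → F} (hx0 : x ≠ 0) (hx : x ∘ σ = x) :
    ∃ s : ↥(Omega F ⇑Q), s ^ 3 = 1 ∧ s ≠ 1 ∧ ∃ x, x ≠ 0 ∧ rho ⇑Q s x = x := by
  let T : Module.End F (ι → F) :=
    { toFun := fun v => v ∘ σ
      map_add' := fun _ _ => rfl
      map_smul' := fun _ _ => rfl }
  have hT : ∀ v, T v = v ∘ σ := fun _ => rfl
  have hTn : ∀ (n : ℕ) (v : ι → F), (T ^ n) v = v ∘ ⇑(σ ^ n) := by
    intro n
    induction n with
    | zero => intro v; rfl
    | succ n ih =>
      intro v
      rw [pow_succ, Module.End.mul_apply, ih, hT, pow_succ']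
      rfl
  have hT3 : T ^ 3 = 1 := by
    refine LinearMap.ext fun v => ?_
    rw [hTn, hσ3]
    rfl
  obtain ⟨a, ha⟩ := exists_omega_elt Q hG.nondeg (card_ge hG) (LinearEquiv.refl F (ι → F)) (Q' := ⇑Q) (fun _ => rfl)
    (T := T) hσQ (by decide : Odd 3) hT3
  have ha' : ∀ v, rho ⇑Q a v = T v := ha
  have hpow : ∀ (n : ℕ) (v : ι → F), rho ⇑Q (a ^ n) v = (T ^ n) v := by
    intro n
    induction n with
    | zero => intro v; rw [pow_zero, pow_zero, map_one]; rfl
    | succ n ih => intro v; rw [pow_succ, pow_succ, Module.End.mul_apply, map_mul, Equiv.Perm.mul_apply, ih, ha']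
  refine ⟨a, ?_, ?_, x, hx0, by rw [ha', hT, hx]⟩
  · apply rho_injective ⇑Q
    ext v : 1
    rw [hpow, hT3, map_one]
    rfl
  · rintro rfl
    apply hσ1
    ext i
    by_contra hne
    have h1 : T (Pi.single (σ i) 1) = Pi.single (σ i) 1 := by
      rw [← ha', map_one]
      rfl
    have h2 := congrFun h1 i
    rw [hT, Function.comp_apply, Pi.single_eq_same, Pi.single_eq_of_ne (fun h => hne (by rw [← h]; rfl))] at h2
    exact one_ne_zero h2

theorem exists_cycle {m : ℕ} (hm : 3 ≤ m) : ∃ c : Equiv.Perm (Fin m), c ^ 3 = 1 ∧ c ≠ 1 := by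
  have h := Equiv.Perm.isThreeCycle_swap_mul_swap_same (a := (⟨0, by omega⟩ : Fin m)) (b := ⟨1, by omega⟩)
    (c := ⟨2, by omega⟩) (by simp) (by simp) (by simp)
  refine ⟨_, by rw [← h.orderOf]; exact pow_orderOf_eq_one _, fun h1 => ?_⟩
  have h2 := h.orderOf
  rw [h1, orderOf_one] at h2
  norm_num at h2

end perm

section rows

variable {p m : ℕ} [hp : Fact p.Prime] {F : Type*} [Field F]

theorem meet_plus_eight [Finite F] (hF : Nat.card F = 8) (hm : 5 ≤ m) : Meet 3 (POmega F (quadFormPlus m F)) := by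
  have h1 : ∀ P : Subgroup (MulAut (POmega F (quadFormPlus m F))), IsPGroup 3 P → ∀ β ∈ P,
    AutOrth.Main.Ind (quadFormPlus m F) β := fun _ _ β _ => all_plus hm β
  revert h1
  rw [← coe_plusForm]
  intro h1
  have hG : Good (plusForm m F) := good_plus (by omega)
  obtain ⟨c, hc3, hc1⟩ := exists_cycle (m := m) (by omega)
  refine meet_eight hF hG h1 (exists_three hG (Equiv.sumCongr c c) ?_ ?_ ?_ (x := Sum.elim (fun _ => 1) (fun _ => 0))
    ?_ ?_)
  · ext x
    have h2 : ∀ i, c (c (c i)) = i := fun i => by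
      have := congrArg (fun f : Equiv.Perm (Fin m) => f i) hc3
      simpa [pow_succ] using this
    rcases x with x | x <;> simp [pow_succ, h2]
  · intro h
    apply hc1
    refine Equiv.ext fun i => ?_
    have h2 := congrArg (fun f : Equiv.Perm (Fin m ⊕ Fin m) => f (Sum.inl i)) h
    simpa using h2
  · intro v
    rw [coe_plusForm]
    unfold quadFormPlus
    exact Equiv.sum_comp c (fun i => v (Sum.inl i) * v (Sum.inr i))
  · intro h
    have h2 := congrFun h (Sum.inl ⟨0, by omega⟩)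
    exact one_ne_zero h2
  · funext x
    rcases x with x | x <;> rfl

theorem meet_minus_eight [Finite F] (hF : Nat.card F = 8) (hm : 3 ≤ m) (a b : F)
    (hab : ∀ z₁ z₂ : F, z₁ ^ 2 + a * z₁ * z₂ + b * z₂ ^ 2 = 0 → z₁ = 0 ∧ z₂ = 0) :
    Meet 3 (POmega F (quadFormMinus m F a b)) := by
  have h1 : ∀ P : Subgroup (MulAut (POmega F (quadFormMinus m F a b))), IsPGroup 3 P → ∀ β ∈ P,
    AutOrth.Main.Ind (quadFormMinus m F a b) β := fun _ _ β _ => all_minus hm hab β
  revert h1
  rw [← coe_minusForm]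
  intro h1
  have hG : Good (minusForm m F a b) := good_minus (by omega) hab
  obtain ⟨c, hc3, hc1⟩ := exists_cycle hm
  refine meet_eight hF hG h1 (exists_three hG (Equiv.sumCongr (Equiv.sumCongr c c) (Equiv.refl (Fin 2))) ?_ ?_ ?_
    (x := Sum.elim (Sum.elim (fun _ => 1) (fun _ => 0)) (fun _ => 0)) ?_ ?_)
  · ext x
    have h2 : ∀ i, c (c (c i)) = i := fun i => by
      have := congrArg (fun f : Equiv.Perm (Fin m) => f i) hc3
      simpa [pow_succ] using this
    rcases x with (x | x) | x <;> simp [pow_succ, h2]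
  · intro h
    apply hc1
    refine Equiv.ext fun i => ?_
    have h2 := congrArg (fun f : Equiv.Perm ((Fin m ⊕ Fin m) ⊕ Fin 2) => f (Sum.inl (Sum.inl i))) h
    simpa using h2
  · intro v
    rw [coe_minusForm]
    unfold quadFormMinus
    congr 1
    exact Equiv.sum_comp c (fun i => v (Sum.inl (Sum.inl i)) * v (Sum.inl (Sum.inr i)))
  · intro h
    have h2 := congrFun h (Sum.inl (Sum.inl ⟨0, by omega⟩))
    exact one_ne_zero h2
  · funext x
    rcases x with (x | x) | x <;> rfl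

theorem eq_three_of (hp3 : 3 ≤ p) (h5 : ¬ 5 ≤ p) : p = 3 := by
  have h4 : p ≠ 4 := by
    rintro rfl
    exact absurd hp.1 (by norm_num)
  omega

/-- **Task 1594**, plus type, `m ≥ 5`. -/
theorem meet3_POmega_plus_cross [Finite F] (hp3 : 3 ≤ p) (hF4 : 4 ≤ Nat.card F) (hpF : (p : F) ≠ 0) (hm : 5 ≤ m) :
    Meet p (POmega F (quadFormPlus m F)) := by
  by_cases hF8 : Nat.card F = 8
  · by_cases h5 : 5 ≤ p
    · exact meet_POmega_plus_cross h5 hpF (by omega) (Cfsg.Agent.H903.SylRegT.regO p hp3 F hF4 _ hpF (by simp; omega))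
    · obtain rfl := eq_three_of hp3 h5
      exact meet_plus_eight hF8 hm
  · exact meet3_POmega_plus_cross_ne hp3 hF4 hF8 hpF hm

/-- **Task 1594**, minus type. -/
theorem meet3_POmega_minus_cross [Finite F] (hp3 : 3 ≤ p) (hF4 : 4 ≤ Nat.card F) (hpF : (p : F) ≠ 0) (hm : 3 ≤ m)
    (a b : F) (hab : ∀ z₁ z₂ : F, z₁ ^ 2 + a * z₁ * z₂ + b * z₂ ^ 2 = 0 → z₁ = 0 ∧ z₂ = 0) :
    Meet p (POmega F (quadFormMinus m F a b)) := by
  by_cases hF8 : Nat.card F = 8
  · by_cases h5 : 5 ≤ p
    · exact meet_POmega_minus_cross h5 hpF hm a b hab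
        (Cfsg.Agent.H903.SylRegT.regO p hp3 F hF4 _ hpF (by simp; omega))
    · obtain rfl := eq_three_of hp3 h5
      exact meet_minus_eight hF8 hm a b hab
  · exact meet3_POmega_minus_cross_ne hp3 hF4 hF8 hpF hm a b hab

end rows

end Cfsg.Agent.H579.Eight
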