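/-
Order types of iterated semidirect products: for a group `Γ` over a finite group `P` the
solutions of `x ^ n = 1` are counted fibrewise, and extending `Γ` by an abelian group `V` on
which `P` acts multiplies the fibre counts by an explicit factor.
-/
import Mathlib

set_option autoImplicit false

namespace Cfsg.Agent.H579.OTFrame

/-- The number of solutions of `g ^ n = 1`. -/
noncomputable def cnt (G : Type*) [Group G] (n : ℕ) : ℕ := Nat.card {g : G // g ^ n = 1}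

theorem cnt_prod (G H : Type*) [Group G] [Group H] (n : ℕ) :
    cnt (G × H) n = cnt G n * cnt H n := by
  unfold cnt
  rw [← Nat.card_prod]
  refine Nat.card_congr ⟨fun x => ⟨⟨x.1.1, (Prod.ext_iff.1 x.2).1⟩, ⟨x.1.2, (Prod.ext_iff.1 x.2).2⟩⟩,
    fun x => ⟨(x.1.1, x.2.1), Prod.ext x.1.2 x.2.2⟩, fun _ => rfl, fun _ => rfl⟩

theorem cnt_pi (G : Type*) [Group G] (k n : ℕ) :
    cnt (Fin k → G) n = cnt G n ^ k := by
  unfold cnt
  have e : {g : Fin k → G // g ^ n = 1} ≃ (Fin k → {g : G // g ^ n = 1}) :=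
    ⟨fun x i => ⟨x.1 i, congrFun x.2 i⟩, fun x => ⟨fun i => (x i).1, funext fun i => (x i).2⟩,
      fun _ => rfl, fun _ => rfl⟩
  rw [Nat.card_congr e, Nat.card_fun, Nat.card_fin]

/-- A finite group with a homomorphism to `P`. -/
structure Ov (P : Type) [Group P] : Type 1 where
  carrier : Type
  [grp : Group carrier]
  [fin : Finite carrier]
  π : carrier →* P

attribute [instance] Ov.grp Ov.fin

variable {P : Type} [Group P]

/-- The number of solutions of `x ^ n = 1` in the fibre over `g`. -/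
noncomputable def Ov.cntO (Γ : Ov P) (g : P) (n : ℕ) : ℕ :=
  Nat.card {x : Γ.carrier // x ^ n = 1 ∧ Γ.π x = g}

theorem Ov.cnt_eq [Fintype P] (Γ : Ov P) (n : ℕ) :
    cnt Γ.carrier n = ∑ g : P, Γ.cntO g n := by
  unfold cnt Ov.cntO
  have e : {x : Γ.carrier // x ^ n = 1} ≃ Σ g : P, {x : Γ.carrier // x ^ n = 1 ∧ Γ.π x = g} :=
    ⟨fun x => ⟨Γ.π x.1, x.1, x.2, rfl⟩, fun x => ⟨x.2.1, x.2.2.1⟩, fun _ => rfl, by
      rintro ⟨g, x, hx, rfl⟩; rfl⟩
  rw [Nat.card_congr e, Nat.card_sigma]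

/-- The group `P` over itself. -/
def base (P : Type) [Group P] [Finite P] : Ov P := ⟨P, MonoidHom.id P⟩

theorem cntO_base [Finite P] [DecidableEq P] (g : P) (n : ℕ) :
    (base P).cntO g n = if g ^ n = 1 then 1 else 0 := by
  unfold Ov.cntO base
  split_ifs with h
  · rw [Nat.card_eq_one_iff_unique]
    exact ⟨⟨fun x y => Subtype.ext (x.2.2.trans y.2.2.symm)⟩, ⟨⟨g, h, rfl⟩⟩⟩
  · rw [Nat.card_eq_zero]
    left
    exact ⟨fun x => h (by have h1 := x.2.1; have h2 : x.1 = g := x.2.2; rwa [h2] at h1)⟩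

section Ext

variable {V : Type} [AddCommGroup V]

/-- The carrier of the extension of `Γ` by `V`. -/
structure SD (Γ : Ov P) (ρ : P →* AddMonoid.End V) where
  v : V
  x : Γ.carrier

variable {Γ : Ov P} {ρ : P →* AddMonoid.End V}

@[ext] theorem SD.ext' {a b : SD Γ ρ} (h1 : a.v = b.v) (h2 : a.x = b.x) : a = b := by
  cases a; cases b; congr

instance SD.instMul : Mul (SD Γ ρ) := ⟨fun a b => ⟨a.v + ρ (Γ.π a.x) b.v, a.x * b.x⟩⟩
instance SD.instOne : One (SD Γ ρ) := ⟨⟨0, 1⟩⟩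
instance SD.instInv : Inv (SD Γ ρ) := ⟨fun a => ⟨-(ρ (Γ.π a.x⁻¹) a.v), a.x⁻¹⟩⟩

@[simp] theorem SD.mul_v (a b : SD Γ ρ) : (a * b).v = a.v + ρ (Γ.π a.x) b.v := rfl
@[simp] theorem SD.mul_x (a b : SD Γ ρ) : (a * b).x = a.x * b.x := rfl
@[simp] theorem SD.one_v : (1 : SD Γ ρ).v = 0 := rfl
@[simp] theorem SD.one_x : (1 : SD Γ ρ).x = 1 := rfl
@[simp] theorem SD.inv_v (a : SD Γ ρ) : (a⁻¹).v = -(ρ (Γ.π a.x⁻¹) a.v) := rfl
@[simp] theorem SD.inv_x (a : SD Γ ρ) : (a⁻¹).x = a.x⁻¹ := rfl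

instance SD.instGroup : Group (SD Γ ρ) :=
  Group.ofLeftAxioms
    (by
      intro a b c
      apply SD.ext'
      · simp only [SD.mul_v, SD.mul_x, map_mul, map_add, add_assoc]
        rfl
      · simp [mul_assoc])
    (by
      intro a
      apply SD.ext'
      · simp
      · simp)
    (by
      intro a
      apply SD.ext'
      · simp
      · simp)

/-- The equivalence with the product. -/
def SD.equiv (Γ : Ov P) (ρ : P →* AddMonoid.End V) : SD Γ ρ ≃ V × Γ.carrier :=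
  ⟨fun a => (a.v, a.x), fun a => ⟨a.1, a.2⟩, fun _ => rfl, fun _ => rfl⟩

instance SD.instFinite [Finite V] : Finite (SD Γ ρ) := Finite.of_equiv _ (SD.equiv Γ ρ).symm

/-- The projection. -/
def SD.proj (Γ : Ov P) (ρ : P →* AddMonoid.End V) : SD Γ ρ →* Γ.carrier where
  toFun a := a.x
  map_one' := rfl
  map_mul' _ _ := rfl

/-- The inclusion of the kernel. -/
def SD.incl (Γ : Ov P) (ρ : P →* AddMonoid.End V) : Multiplicative V →* SD Γ ρ where
  toFun v := ⟨v.toAdd, 1⟩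
  map_one' := rfl
  map_mul' a b := by
    apply SD.ext'
    · simp
    · simp

theorem SD.isSolvable (Γ : Ov P) (ρ : P →* AddMonoid.End V) [Group.IsSolvable Γ.carrier] :
    Group.IsSolvable (SD Γ ρ) := by
  refine Group.isSolvable_of_ker_le_range (SD.incl Γ ρ) (SD.proj Γ ρ) ?_
  intro a ha
  exact ⟨Multiplicative.ofAdd a.v, SD.ext' rfl (MonoidHom.mem_ker.1 ha).symm⟩

/-- The norm. -/
def nrm (τ : V → V) : ℕ → V → V
  | 0, _ => 0
  | n + 1, v => v + τ (nrm τ n v)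

theorem SD.pow_eq (a : SD Γ ρ) (n : ℕ) :
    a ^ n = ⟨nrm (ρ (Γ.π a.x)) n a.v, a.x ^ n⟩ := by
  induction n with
  | zero =>
    rw [pow_zero]
    apply SD.ext'
    · rfl
    · simp
  | succ n ih =>
    rw [pow_succ', ih]
    apply SD.ext'
    · rfl
    · simp [pow_succ']

/-- The factor. -/
noncomputable def fac (τ : V → V) (n : ℕ) : ℕ := Nat.card {v : V // nrm τ n v = 0}

theorem nrm_eq_sum (τ : AddMonoid.End V) (n : ℕ) (v : V) :
    nrm τ n v = ∑ i ∈ Finset.range n, (τ ^ i) v := by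
  induction n with
  | zero => simp [nrm]
  | succ n ih =>
    rw [nrm, ih, map_sum, Finset.sum_range_succ', add_comm]
    congr 1
    refine Finset.sum_congr rfl fun i _ => ?_
    rw [pow_succ']
    rfl

theorem map_nrm (τ : AddMonoid.End V) (n : ℕ) (h : τ ^ n = 1) (v : V) :
    τ (nrm τ n v) = nrm τ n v := by
  have h1 : nrm τ (n + 1) v = v + τ (nrm τ n v) := rfl
  have h2 : nrm τ (n + 1) v = nrm τ n v + v := by
    rw [nrm_eq_sum, nrm_eq_sum, Finset.sum_range_succ, h]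
    rfl
  rw [h1, add_comm] at h2
  exact add_right_cancel h2

theorem fac_fpf (τ : AddMonoid.End V) (n : ℕ) (h : τ ^ n = 1)
    (hfpf : ∀ v, τ v = v → v = 0) : fac τ n = Nat.card V := by
  unfold fac
  refine Nat.card_congr (Equiv.subtypeUnivEquiv fun v => ?_)
  exact hfpf _ (map_nrm τ n h v)

theorem nrm_one (n : ℕ) (v : V) : nrm ((1 : AddMonoid.End V) : V → V) n v = n • v := by
  rw [nrm_eq_sum]
  simp

theorem fac_one_of_dvd (ℓ : ℕ) (hℓ : ∀ v : V, ℓ • v = 0) (n : ℕ) (hn : ℓ ∣ n) :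
    fac ((1 : AddMonoid.End V) : V → V) n = Nat.card V := by
  unfold fac
  refine Nat.card_congr (Equiv.subtypeUnivEquiv fun v => ?_)
  obtain ⟨k, rfl⟩ := hn
  rw [nrm_one, mul_comm, mul_nsmul, hℓ] 

theorem eq_zero_of_nsmul {ℓ : ℕ} (hp : ℓ.Prime) (hℓ : ∀ v : V, ℓ • v = 0) {n : ℕ} (hn : ¬ ℓ ∣ n)
    {v : V} (hv : n • v = 0) : v = 0 := by
  have h1 : addOrderOf v ∣ ℓ := addOrderOf_dvd_of_nsmul_eq_zero (hℓ v)
  have h2 : addOrderOf v ∣ n := addOrderOf_dvd_of_nsmul_eq_zero hv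
  have h3 : Nat.Coprime ℓ n := (Nat.Prime.coprime_iff_not_dvd hp).2 hn
  have h4 : addOrderOf v = 1 := Nat.eq_one_of_dvd_coprimes h3 h1 h2
  exact AddMonoid.addOrderOf_eq_one_iff.1 h4

theorem fac_one_of_not_dvd {ℓ : ℕ} (hp : ℓ.Prime) (hℓ : ∀ v : V, ℓ • v = 0) (n : ℕ)
    (hn : ¬ ℓ ∣ n) : fac ((1 : AddMonoid.End V) : V → V) n = 1 := by
  unfold fac
  rw [Nat.card_eq_one_iff_unique]
  refine ⟨⟨fun x y => Subtype.ext ?_⟩, ⟨⟨0, by rw [nrm_one, smul_zero]⟩⟩⟩
  have hx := x.2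
  have hy := y.2
  rw [nrm_one] at hx hy
  rw [eq_zero_of_nsmul hp hℓ hn hx, eq_zero_of_nsmul hp hℓ hn hy]

theorem nrm_mul (τ : AddMonoid.End V) {m : ℕ} (h : τ ^ m = 1) (k : ℕ) (v : V) :
    nrm τ (m * k) v = k • nrm τ m v := by
  induction k with
  | zero => simp [nrm]
  | succ k ih =>
    rw [Nat.mul_succ, nrm_eq_sum, Finset.sum_range_add, ← nrm_eq_sum, ih, succ_nsmul]
    congr 1
    rw [nrm_eq_sum]
    refine Finset.sum_congr rfl fun i _ => ?_
    rw [pow_add, pow_mul, h, one_pow, one_mul]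

theorem fac_mul_of_dvd (τ : AddMonoid.End V) {m : ℕ} (h : τ ^ m = 1) {ℓ : ℕ}
    (hℓ : ∀ v : V, ℓ • v = 0) (k : ℕ) (hk : ℓ ∣ k) : fac τ (m * k) = Nat.card V := by
  unfold fac
  refine Nat.card_congr (Equiv.subtypeUnivEquiv fun v => ?_)
  obtain ⟨k, rfl⟩ := hk
  rw [nrm_mul τ h, mul_comm ℓ k, mul_nsmul, hℓ] 

theorem fac_mul_of_not_dvd (τ : AddMonoid.End V) {m : ℕ} (h : τ ^ m = 1) {ℓ : ℕ} (hp : ℓ.Prime)
    (hℓ : ∀ v : V, ℓ • v = 0) (k : ℕ) (hk : ¬ ℓ ∣ k) : fac τ (m * k) = fac τ m := by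
  unfold fac
  refine Nat.card_congr (Equiv.subtypeEquivRight fun v => ?_)
  rw [nrm_mul τ h]
  exact ⟨fun h1 => eq_zero_of_nsmul hp hℓ hk h1, fun h1 => by rw [h1, smul_zero]⟩

section

variable [Finite V]

/-- The extension of `Γ` by `V`. -/
def Ov.ext (Γ : Ov P) (ρ : P →* AddMonoid.End V) : Ov P := ⟨SD Γ ρ, Γ.π.comp (SD.proj Γ ρ)⟩

theorem cntO_ext (Γ : Ov P) (ρ : P →* AddMonoid.End V) (g : P) (n : ℕ) :
    (Γ.ext ρ).cntO g n = fac (ρ g) n * Γ.cntO g n := by
  unfold Ov.cntO fac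
  rw [← Nat.card_prod]
  refine Nat.card_congr ⟨fun a => ⟨⟨a.1.v, ?_⟩, ⟨a.1.x, ?_, ?_⟩⟩, fun a => ⟨⟨a.1.1, a.2.1⟩, ?_, ?_⟩,
    fun _ => rfl, fun _ => rfl⟩
  · have h1 := a.2.1
    have h2 : Γ.π a.1.x = g := a.2.2
    have h3 := SD.pow_eq (Γ := Γ) (ρ := ρ) a.1 n
    rw [h2] at h3
    have h4 : (⟨nrm (ρ g) n a.1.v, a.1.x ^ n⟩ : SD Γ ρ) = 1 := h3.symm.trans h1
    exact congrArg SD.v h4
  · have h1 := a.2.1
    have h3 := SD.pow_eq (Γ := Γ) (ρ := ρ) a.1 n
    exact congrArg SD.x (h3.symm.trans h1)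
  · exact a.2.2
  · have h3 := SD.pow_eq (Γ := Γ) (ρ := ρ) ⟨a.1.1, a.2.1⟩ n
    refine h3.trans ?_
    apply SD.ext'
    · change nrm (ρ (Γ.π a.2.1)) n a.1.1 = 0
      rw [a.2.2.2]
      exact a.1.2
    · exact a.2.2.1
  · exact a.2.2.2

end

end Ext

/-- A finite `P`-module with known factors. -/
structure PMod (P : Type) [Group P] : Type 1 where
  V : Type
  [grp : AddCommGroup V]
  [fin : Finite V]
  ρ : P →* AddMonoid.End V
  F : P → ℕ → ℕ
  hF : ∀ g n, g ^ n = 1 → fac (ρ g) n = F g n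

attribute [instance] PMod.grp PMod.fin

/-- The group built from a list of modules. -/
def mk [Finite P] (L : List (PMod P)) : Ov P := L.foldr (fun M Γ => Γ.ext M.ρ) (base P)

theorem cntO_mk [Finite P] [DecidableEq P] (L : List (PMod P)) (g : P) (n : ℕ) :
    (mk L).cntO g n = if g ^ n = 1 then (L.map fun M => M.F g n).prod else 0 := by
  induction L with
  | nil => exact cntO_base g n
  | cons M L ih =>
    change ((mk L).ext M.ρ).cntO g n = _
    rw [cntO_ext, ih]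
    split_ifs with h
    · rw [List.map_cons, List.prod_cons, M.hF g n h]
    · rw [mul_zero]

theorem cnt_mk [Fintype P] [DecidableEq P] (L : List (PMod P)) (n : ℕ) :
    cnt (mk L).carrier n =
      ∑ g : P, if g ^ n = 1 then (L.map fun M => M.F g n).prod else 0 := by
  rw [Ov.cnt_eq]
  exact Finset.sum_congr rfl fun g _ => cntO_mk L g n

theorem isSolvable_mk [Finite P] [Group.IsSolvable P] (L : List (PMod P)) :
    Group.IsSolvable (mk L).carrier := by
  induction L with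
  | nil => exact (inferInstance : Group.IsSolvable P)
  | cons M L ih => exact SD.isSolvable (mk L) M.ρ

/-- A base module: an elementary abelian group with an automorphism of order `m` all of whose
nontrivial powers are fixed point free. -/
structure BM : Type 1 where
  V : Type
  [grp : AddCommGroup V]
  [fin : Finite V]
  τ : AddMonoid.End V
  m : ℕ
  ℓ : ℕ
  q : ℕ
  hm : τ ^ m = 1
  hfpf : ∀ k, ¬ m ∣ k → ∀ v, (τ ^ k) v = v → v = 0
  hp : ℓ.Prime
  hℓ : ∀ v : V, ℓ • v = 0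
  hq : Nat.card V = q

attribute [instance] BM.grp BM.fin

theorem BM.pow_eq (b : BM) {i j : ℕ} (h : i % b.m = j % b.m) : b.τ ^ i = b.τ ^ j := by
  rw [← Nat.mod_add_div i b.m, ← Nat.mod_add_div j b.m, pow_add, pow_add, pow_mul, pow_mul, b.hm,
    one_pow, one_pow, h]

/-- A module for `P` via a homomorphism to `ℤ/m`. -/
def BM.toPMod (b : BM) (lam : P → ℕ) (h : ∀ g h, lam (g * h) % b.m = (lam g + lam h) % b.m)
    (h1 : lam 1 % b.m = 0) : PMod P where
  V := b.V
  ρ :=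
    { toFun := fun g => b.τ ^ lam g
      map_one' := by
        have : b.τ ^ lam 1 = b.τ ^ 0 := b.pow_eq (by rw [h1, Nat.zero_mod])
        rw [this, pow_zero]
      map_mul' := fun g k => by
        rw [← pow_add]
        exact b.pow_eq (h g k) }
  F := fun g n => if lam g % b.m = 0 then (if n % b.ℓ = 0 then b.q else 1) else b.q
  hF := by
    intro g n hg
    change fac (b.τ ^ lam g : AddMonoid.End b.V) n = _
    by_cases hl : lam g % b.m = 0
    · have h2 : b.τ ^ lam g = 1 := by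
        have : b.τ ^ lam g = b.τ ^ 0 := b.pow_eq (by rw [hl, Nat.zero_mod])
        rw [this, pow_zero]
      rw [h2, if_pos hl]
      split_ifs with hn
      · rw [fac_one_of_dvd b.ℓ b.hℓ n (Nat.dvd_of_mod_eq_zero hn), b.hq]
      · exact fac_one_of_not_dvd b.hp b.hℓ n (fun h => hn (Nat.mod_eq_zero_of_dvd h))
    · rw [if_neg hl, fac_fpf _ n _ (b.hfpf _ fun hd => hl (Nat.mod_eq_zero_of_dvd hd)), b.hq]
      have key : ∀ n : ℕ, (b.τ ^ lam g) ^ n = b.τ ^ lam (g ^ n) := by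
        intro n
        induction n with
        | zero =>
          rw [pow_zero, pow_zero, ← pow_zero b.τ]
          exact b.pow_eq (by rw [h1, Nat.zero_mod])
        | succ n ih =>
          rw [pow_succ, ih, pow_succ g n, ← pow_add]
          exact b.pow_eq (h _ _).symm
      rw [key, hg, ← pow_zero b.τ]
      exact b.pow_eq (by rw [h1, Nat.zero_mod])

/-- The endomorphism given by an additive function. -/
def endOf {V : Type} [AddCommGroup V] (f : V → V) (hadd : ∀ v w, f (v + w) = f v + f w) :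
    AddMonoid.End V := AddMonoidHom.mk' f hadd

theorem endOf_pow {V : Type} [AddCommGroup V] (f : V → V) (hadd : ∀ v w, f (v + w) = f v + f w)
    (n : ℕ) (v : V) : (endOf f hadd ^ n) v = f^[n] v := by
  rw [AddMonoid.End.coe_pow]
  rfl

/-- Constructor with decidable conditions. -/
def BM.of (V : Type) [AddCommGroup V] [Finite V] (f : V → V) (hadd : ∀ v w, f (v + w) = f v + f w)
    (m ℓ q : ℕ) (hm0 : m ≠ 0) (hm : ∀ v, f^[m] v = v)
    (hfpf : ∀ k < m, k ≠ 0 → ∀ v, f^[k] v = v → v = 0) (hp : ℓ.Prime)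
    (hℓ : ∀ v : V, ℓ • v = 0) (hq : Nat.card V = q) : BM where
  V := V
  τ := endOf f hadd
  m := m
  ℓ := ℓ
  q := q
  hm := by
    refine AddMonoidHom.ext fun v => ?_
    exact (endOf_pow f hadd m v).trans (hm v)
  hfpf := by
    intro k hk v hv
    rw [endOf_pow] at hv
    refine hfpf (k % m) (Nat.mod_lt _ (Nat.pos_of_ne_zero hm0))
      (fun h => hk (Nat.dvd_of_mod_eq_zero h)) v ?_
    conv_rhs => rw [← hv, ← Nat.mod_add_div k m, Function.iterate_add_apply, Function.iterate_mul]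
    congr 1
    symm
    generalize k / m = j
    induction j with
    | zero => rfl
    | succ j ih =>
      rw [Function.iterate_succ_apply', ih]
      exact hm v
  hp := hp
  hℓ := hℓ
  hq := hq

end Cfsg.Agent.H579.OTFrame
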