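/-
The Heisenberg group of order 27 and its module `𝔽₄³`.
-/
import Cfsg.Agent.H579.OTFrame

set_option autoImplicit false
set_option synthInstance.maxSize 2000

namespace Cfsg.Agent.H579.OTHeis

open Cfsg.Agent.H579.OTFrame

/-- The Heisenberg group modulo 3. -/
structure E27 where
  a : ZMod 3
  b : ZMod 3
  c : ZMod 3
  deriving DecidableEq

namespace E27

/-- The equivalence with the triples. -/
def equiv : E27 ≃ ZMod 3 × ZMod 3 × ZMod 3 :=
  ⟨fun x => (x.a, x.b, x.c), fun x => ⟨x.1, x.2.1, x.2.2⟩, fun _ => rfl, fun _ => rfl⟩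

instance instFintype : Fintype E27 := Fintype.ofEquiv _ equiv.symm

instance instMul : Mul E27 := ⟨fun x y => ⟨x.a + y.a, x.b + y.b, x.c + y.c + x.a * y.b⟩⟩
instance instOne : One E27 := ⟨⟨0, 0, 0⟩⟩
instance instInv : Inv E27 := ⟨fun x => ⟨-x.a, -x.b, -x.c + x.a * x.b⟩⟩

theorem mul_def (x y : E27) : x * y = ⟨x.a + y.a, x.b + y.b, x.c + y.c + x.a * y.b⟩ := rfl
theorem one_def : (1 : E27) = ⟨0, 0, 0⟩ := rfl
theorem inv_def (x : E27) : x⁻¹ = ⟨-x.a, -x.b, -x.c + x.a * x.b⟩ := rfl

instance instGroup : Group E27 :=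
  Group.ofLeftAxioms
    (by
      intro x y z
      simp only [mul_def, E27.mk.injEq]
      refine ⟨add_assoc _ _ _, add_assoc _ _ _, ?_⟩
      ring)
    (by
      intro x
      cases x
      simp [mul_def, one_def])
    (by
      intro x
      simp [mul_def, one_def, inv_def])

theorem card : Fintype.card E27 = 27 := by
  rw [Fintype.ofEquiv_card]
  rfl

theorem pow_three (x : E27) : x ^ 3 = 1 := by
  revert x
  decide +kernel

theorem isPGroup : IsPGroup 3 E27 := fun x => ⟨1, by rw [pow_one]; exact pow_three x⟩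

instance isSolvable : Group.IsSolvable E27 := by
  have h3 : Fact (Nat.Prime 3) := ⟨Nat.prime_three⟩
  have h4 : Group.IsNilpotent E27 := IsPGroup.isNilpotent isPGroup
  infer_instance

end E27

/-- Multiplication by a power of a primitive cube root of unity. -/
def om (k : ZMod 3) (v : ZMod 2 × ZMod 2) : ZMod 2 × ZMod 2 :=
  if k = 0 then v else if k = 1 then (v.2, v.1 + v.2) else (v.1 + v.2, v.1)

theorem om_add (k l : ZMod 3) (v : ZMod 2 × ZMod 2) : om (k + l) v = om k (om l v) := by
  revert k l v; decide +kernel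

theorem om_map_add (k : ZMod 3) (v w : ZMod 2 × ZMod 2) : om k (v + w) = om k v + om k w := by
  revert k v w; decide +kernel

theorem om_zero (v : ZMod 2 × ZMod 2) : om 0 v = v := rfl

/-- The module `𝔽₄³`. -/
abbrev W : Type := ZMod 3 → ZMod 2 × ZMod 2

/-- The action. -/
def T (g : E27) (f : W) : W := fun x => om (g.c + g.b * x) (f (x + g.a))

theorem T_add (g : E27) (f f' : W) : T g (f + f') = T g f + T g f' :=
  funext fun _ => om_map_add _ _ _

theorem T_one (f : W) : T 1 f = f := by
  funext x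
  simp only [T, E27.one_def, zero_mul, add_zero, om_zero]

theorem T_mul (g h : E27) (f : W) : T (g * h) f = T g (T h f) := by
  funext x
  simp only [T, E27.mul_def]
  rw [← om_add, add_assoc x]
  congr 1
  ring

/-- The representation. -/
def rho : E27 →* AddMonoid.End W where
  toFun g := endOf (T g) (T_add g)
  map_one' := AddMonoidHom.ext fun v => T_one v
  map_mul' g h := AddMonoidHom.ext fun v => T_mul g h v

theorem rho_apply (g : E27) (f : W) : rho g f = T g f := rfl

theorem card_W : Nat.card W = 64 := by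
  rw [Nat.card_eq_fintype_card]
  simp [W]

theorem two_nsmul_W (v : W) : 2 • v = 0 := by
  have key : ∀ w : ZMod 2 × ZMod 2, 2 • w = 0 := by decide
  exact funext fun x => key (v x)

theorem fac_three (g : E27) (h : ¬ (g.a = 0 ∧ g.b = 0)) : fac (T g) 3 = 16 := by
  have key : ∀ g : E27, ¬ (g.a = 0 ∧ g.b = 0) →
      Fintype.card {v : W // ∀ x, v x + (T g v) x + (T g (T g v)) x = 0} = 16 := by
    decide +kernel
  rw [← key g h, ← Nat.card_eq_fintype_card]
  unfold fac
  refine Nat.card_congr (Equiv.subtypeEquivRight fun v => ?_)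
  have h1 : nrm (T g) 3 v = v + (T g v + T g (T g v)) := by
    simp only [nrm]
    rw [show T g (0 : W) = 0 from (map_zero (rho g)), add_zero, T_add]
  rw [h1, funext_iff]
  refine forall_congr' fun x => ?_
  simp only [Pi.add_apply, Pi.zero_apply, add_assoc]

/-- The factors of `W`. -/
def FW (g : E27) (n : ℕ) : ℕ :=
  if g = 1 then (if n % 2 = 0 then 64 else 1)
  else if g.a = 0 ∧ g.b = 0 then 64
  else if n % 2 = 0 then 64 else 16

theorem rho_pow (g : E27) (n : ℕ) (h : g ^ n = 1) : rho g ^ n = 1 := by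
  rw [← map_pow, h, map_one]

theorem fac_W (g : E27) (n : ℕ) (h : g ^ n = 1) : fac (rho g) n = FW g n := by
  unfold FW
  split_ifs with h1 h2 h3 h4
  · subst h1
    rw [map_one, fac_one_of_dvd 2 two_nsmul_W n (Nat.dvd_of_mod_eq_zero h2), card_W]
  · subst h1
    rw [map_one]
    exact fac_one_of_not_dvd Nat.prime_two two_nsmul_W n (fun h => h2 (Nat.mod_eq_zero_of_dvd h))
  · rw [fac_fpf _ n (rho_pow g n h), card_W]
    have key : ∀ g : E27, g ≠ 1 → g.a = 0 ∧ g.b = 0 → ∀ v : W, (∀ x, T g v x = v x) →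
        ∀ x, v x = 0 := by
      decide +kernel
    intro v hv
    funext x
    exact key g h1 h3 v (fun x => congrFun hv x) x
  all_goals
    have hn : 3 ∣ n := by
      have h5 : g ^ (n % 3) = 1 := by
        rw [← h]
        conv_rhs => rw [← Nat.mod_add_div n 3, pow_add, pow_mul, E27.pow_three, one_pow, mul_one]
      have h6 : n % 3 < 3 := Nat.mod_lt _ (by norm_num)
      have key : ∀ g : E27, g ≠ 1 → g ^ 1 ≠ 1 ∧ g ^ 2 ≠ 1 := by decide +kernel
      have h7 := key g h1
      rw [Nat.dvd_iff_mod_eq_zero]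
      interval_cases h8 : n % 3
      · rfl
      · exact absurd h5 h7.1
      · exact absurd h5 h7.2
    obtain ⟨k, rfl⟩ := hn
  · rw [fac_mul_of_dvd (rho g) (rho_pow g 3 (E27.pow_three g)) two_nsmul_W k (by omega), card_W]
  · rw [fac_mul_of_not_dvd (rho g) (rho_pow g 3 (E27.pow_three g)) Nat.prime_two two_nsmul_W k
      (by omega)]
    exact fac_three g h3

/-- The module `W`. -/
def modW : PMod E27 where
  V := W
  ρ := rho
  F := FW
  hF := fac_W

end Cfsg.Agent.H579.OTHeis
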