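/-
The concrete modules and groups used for the order type example.
-/
import Cfsg.Agent.H579.OTFrame

set_option autoImplicit false

namespace Cfsg.Agent.H579.OTMods

set_option synthInstance.maxSize 2000

open Cfsg.Agent.H579.OTFrame

/-- `ℤ/3` with inversion. -/
def b23 : BM := BM.of (ZMod 3) (fun v => -v) (fun _ _ => neg_add _ _) 2 3 3 (by decide) (by decide)
  (by decide) (by norm_num) (by decide) (by simp)

/-- `ℤ/5` with inversion. -/
def b25 : BM := BM.of (ZMod 5) (fun v => -v) (fun _ _ => neg_add _ _) 2 5 5 (by decide) (by decide)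
  (by decide) (by norm_num) (by decide) (by simp)

/-- `𝔽₄` with an automorphism of order 3. -/
def b32 : BM := BM.of (ZMod 2 × ZMod 2) (fun v => (v.2, v.1 + v.2))
  (fun v w => Prod.ext rfl (add_add_add_comm _ _ _ _)) 3 2 4 (by decide) (by decide)
  (by decide) (by norm_num) (by decide) (by simp)

/-- `𝔽₂₅` with an automorphism of order 3. -/
def b35 : BM := BM.of (ZMod 5 × ZMod 5) (fun v => (-v.2, v.1 - v.2))
  (fun v w => Prod.ext (neg_add _ _) (add_sub_add_comm _ _ _ _)) 3 5 25 (by decide)
  (by decide +kernel) (by decide +kernel) (by norm_num) (by decide +kernel) (by simp)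

/-- `𝔽₁₆` with an automorphism of order 15. -/
def b152 : BM := BM.of (ZMod 2 × ZMod 2 × ZMod 2 × ZMod 2)
  (fun v => (v.2.2.2, v.1 + v.2.2.2, v.2.1, v.2.2.1))
  (fun v w => Prod.ext rfl (Prod.ext (add_add_add_comm _ _ _ _) rfl)) 15 2 16 (by decide)
  (by decide +kernel) (by decide +kernel) (by norm_num) (by decide +kernel) (by simp)

/-- `𝔽₈₁` with an automorphism of order 10. -/
def b103 : BM := BM.of (ZMod 3 × ZMod 3 × ZMod 3 × ZMod 3)
  (fun v => (v.2.2.2, v.2.2.2 - v.1, v.2.2.2 - v.2.1, v.2.2.2 - v.2.2.1))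
  (fun v w => Prod.ext rfl (Prod.ext (add_sub_add_comm _ _ _ _) (Prod.ext
    (add_sub_add_comm _ _ _ _) (add_sub_add_comm _ _ _ _)))) 10 3 81 (by decide)
  (by decide +kernel) (by decide +kernel) (by norm_num) (by decide +kernel) (by simp)

end Cfsg.Agent.H579.OTMods
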